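import Cfsg.Agent.Lib.Linear.IsotropicFix.OrthCount
import Cfsg.Agent.Lib.Linear.AutPO.Std
import Cfsg.Agent.Lib.Linear.OrthOdd
import Cfsg.Agent.Lib.Linear.OrthOrderStd

/-!
# The three families: splittings, realisable multiplicities, local counts
-/

set_option autoImplicit false

universe u

namespace Cfsg.Lib.Linear.IsoFix

open Module Polynomial Cfsg.Agent.Lib.Linear.PrimeClasses Cfsg.Lib.Linear.Orth
open scoped Matrix

variable {F : Type u} [Field F]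

/-- The index equivalence of a hyperbolic splitting. -/
def plusSplitEquiv (j e : ℕ) : (Fin j ⊕ Fin j) ⊕ (Fin e ⊕ Fin e) ≃ Fin (j + e) ⊕ Fin (j + e) :=
  (Equiv.sumSumSumComm _ _ _ _).trans (Equiv.sumCongr finSumFinEquiv finSumFinEquiv)

theorem plusSplit (j e : ℕ) :
    IsSplit (Cfsg.quadFormPlus (j + e) F) (Cfsg.quadFormPlus e F) j
      (LinearEquiv.funCongrLeft F F (plusSplitEquiv j e)) := ⟨fun v => by
  simp [Cfsg.quadFormPlus, Fin.sum_univ_add, plusSplitEquiv, LinearEquiv.funCongrLeft_apply, LinearMap.funLeft_apply]⟩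

/-- The index equivalence in odd dimension. -/
def oddSplitEquiv (j e : ℕ) :
    (Fin j ⊕ Fin j) ⊕ (Unit ⊕ (Fin e ⊕ Fin e)) ≃ Unit ⊕ (Fin (j + e) ⊕ Fin (j + e)) :=
  (Equiv.sumAssoc _ _ _).symm.trans
    ((Equiv.sumCongr (Equiv.sumComm _ _) (Equiv.refl _)).trans
      ((Equiv.sumAssoc _ _ _).trans (Equiv.sumCongr (Equiv.refl _) (plusSplitEquiv j e))))

theorem oddSplit (j e : ℕ) :
    IsSplit (Cfsg.quadFormOdd (j + e) F) (Cfsg.quadFormOdd e F) j
      (LinearEquiv.funCongrLeft F F (oddSplitEquiv j e)) := ⟨fun v => by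
  simp [Cfsg.quadFormPlus, Cfsg.quadFormOdd, Fin.sum_univ_add, plusSplitEquiv, oddSplitEquiv,
    LinearEquiv.funCongrLeft_apply, LinearMap.funLeft_apply]
  ring⟩

/-- The index equivalence for minus type. -/
def minusSplitEquiv (j e : ℕ) :
    (Fin j ⊕ Fin j) ⊕ ((Fin e ⊕ Fin e) ⊕ Fin 2) ≃ (Fin (j + e) ⊕ Fin (j + e)) ⊕ Fin 2 :=
  (Equiv.sumAssoc _ _ _).symm.trans (Equiv.sumCongr (plusSplitEquiv j e) (Equiv.refl _))

theorem minusSplit (j e : ℕ) (a b : F) :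
    IsSplit (Cfsg.quadFormMinus (j + e) F a b) (Cfsg.quadFormMinus e F a b) j
      (LinearEquiv.funCongrLeft F F (minusSplitEquiv j e)) := ⟨fun v => by
  simp [Cfsg.quadFormPlus, Cfsg.quadFormMinus, Fin.sum_univ_add, plusSplitEquiv, minusSplitEquiv,
    LinearEquiv.funCongrLeft_apply, LinearMap.funLeft_apply]
  ring⟩

variable [Fintype F]

/-- The local count in odd dimension. -/
theorem count_odd (h2 : (2 : F) ≠ 0) (e : ℕ) :
    Nat.card {x // Cfsg.quadFormOdd e F x = 0} - 1 = Fintype.card F ^ (2 * e) - 1 := by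
  have hq : 1 ≤ Fintype.card F ^ (2 * e) := Nat.one_le_pow _ _ Fintype.card_pos
  rcases Nat.eq_zero_or_pos e with rfl | he
  · have h : Nat.card {x // Cfsg.quadFormOdd 0 F x = 0} = 1 := by
      exact_mod_cast (counts_odd (F := F) h2 0).2.1 rfl
    rw [h]; simp
  · have h := (counts_odd (F := F) h2 e).1 (by omega)
    rw [show 1 + e - 1 = e by omega, Nat.card_eq_fintype_card (α := F)] at h
    have h' : (Nat.card {x // Cfsg.quadFormOdd e F x = 0} : ℤ) = ((Fintype.card F ^ (2 * e) : ℕ) : ℤ) := by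
      rw [h, two_mul, pow_add]; push_cast; ring
    rw [Nat.cast_inj.1 h']

/-- The local count for plus type. -/
theorem count_plus {e : ℕ} (he : 1 ≤ e) :
    Nat.card {x // Cfsg.quadFormPlus e F x = 0} - 1 =
      (Fintype.card F ^ e - 1) * (Fintype.card F ^ (e - 1) + 1) := by
  have h := (counts_plus (F := F) e).1 (by omega)
  rw [show 0 + e - 1 = e - 1 by omega, Nat.card_eq_fintype_card (α := F)] at h
  have h' : (Nat.card {x // Cfsg.quadFormPlus e F x = 0} : ℤ) =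
      (((Fintype.card F ^ e - 1) * (Fintype.card F ^ (e - 1) + 1) + 1 : ℕ) : ℤ) := by
    rw [h]; push_cast [Nat.cast_sub (Nat.one_le_pow e _ Fintype.card_pos)]; ring
  rw [Nat.cast_inj.1 h', Nat.add_sub_cancel]

/-- The local count for minus type. -/
theorem count_minus (e : ℕ) {a b : F}
    (hab : ∀ z₁ z₂ : F, z₁ ^ 2 + a * z₁ * z₂ + b * z₂ ^ 2 = 0 → z₁ = 0 ∧ z₂ = 0) :
    Nat.card {x // Cfsg.quadFormMinus e F a b x = 0} - 1 =
      (Fintype.card F ^ e - 1) * (Fintype.card F ^ (e + 1) + 1) := by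
  rcases Nat.eq_zero_or_pos e with rfl | he
  · have h : Nat.card {x // Cfsg.quadFormMinus 0 F a b x = 0} = 1 := by
      exact_mod_cast (counts_minus (F := F) 0 hab).2.1 rfl
    rw [h]; simp
  · have h := (counts_minus (F := F) e hab).1 (by omega)
    rw [show 2 + e - 1 = e + 1 by omega, Nat.card_eq_fintype_card (α := F)] at h
    have h' : (Nat.card {x // Cfsg.quadFormMinus e F a b x = 0} : ℤ) =
        (((Fintype.card F ^ e - 1) * (Fintype.card F ^ (e + 1) + 1) + 1 : ℕ) : ℤ) := by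
      rw [h]; push_cast [Nat.cast_sub (Nat.one_le_pow e _ Fintype.card_pos)]; ring
    rw [Nat.cast_inj.1 h', Nat.add_sub_cancel]

section Realisable

variable {L : Type u} [Field L] [Algebra F L] [IsAlgClosed L] {r : ℕ} [Fact r.Prime] {ζ : L}

/-- Multiplicities without fixed part fitting the plus type. -/
def PPlus (i n : ℕ) : Prop := Odd i ∨ Even (n / i)

/-- Multiplicities without fixed part fitting the minus type. -/
def PMinus (i n : ℕ) : Prop := Even i ∧ Odd (n / i)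

theorem moved_dvd {uq : (ZMod r)ˣ} {w : (ZMod r)ˣ} {n : ℕ} {f : ZMod r → ℕ} (hf : Inv w n f)
    (hwq : ∃ k : ℕ, uq = w ^ k) (h0 : f 0 = 0) : orderOf uq ∣ n := by
  have h := Cfsg.Agent.S5961.dvd_sum_erase uq rfl _ _ (inv_of_pow hf hwq)
  rwa [h0, Nat.sub_zero] at h

theorem uq_ne_one {uq : (ZMod r)ˣ} (he : Even (orderOf uq)) : (uq : ZMod r) ≠ 1 := fun h => by
  rw [show uq = 1 from Units.ext h, orderOf_one] at he
  exact Nat.not_even_one he

theorem real_odd (hζ : IsPrimitiveRoot ζ r) (hr2 : r ≠ 2) {uq : (ZMod r)ˣ}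
    (huq : (uq : ZMod r) = (Fintype.card F : ZMod r)) (w : (ZMod r)ˣ) (hwq : ∃ k : ℕ, uq = w ^ k)
    (hwn : ∃ k : ℕ, (-1 : (ZMod r)ˣ) = w ^ k) (h2 : (2 : F) ≠ 0) (e : ℕ) {f : ZMod r → ℕ}
    (hf : Inv w (2 * e + 1) f) :
    ∃ g : ↥(Cfsg.isometryGroup F (Cfsg.quadFormOdd e F)), g ^ r = 1 ∧
      ((g : GL (Unit ⊕ (Fin e ⊕ Fin e)) F) : Matrix (Unit ⊕ (Fin e ⊕ Fin e)) (Unit ⊕ (Fin e ⊕ Fin e)) F).charpoly.map
        (algebraMap F L) = Pm ζ f := by
  obtain ⟨B, C⟩ := exists_space (Q := Cfsg.quadFormOdd e F) (isQuad_odd e h2)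
  have hc := card_odd_index e
  refine orth_real C hζ huq hr2 w hwq hwn (by rw [hc]; exact hf)
    (fun k _ hk _ => embeds_plus_odd (by rw [hc] at hk; omega))
    (fun k hk1 hk z _ _ => embeds_minus_odd h2 (by rw [hc] at hk; omega) z)

theorem real_plus (hζ : IsPrimitiveRoot ζ r) (hr2 : r ≠ 2) {uq : (ZMod r)ˣ}
    (huq : (uq : ZMod r) = (Fintype.card F : ZMod r)) (w : (ZMod r)ˣ) (hwq : ∃ k : ℕ, uq = w ^ k)
    (hwn : ∃ k : ℕ, (-1 : (ZMod r)ˣ) = w ^ k) (e : ℕ) {f : ZMod r → ℕ}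
    (hf : Inv w (2 * e) f) (hok : f 0 ≠ 0 ∨ PPlus (orderOf uq) (2 * e)) :
    ∃ g : ↥(Cfsg.isometryGroup F (Cfsg.quadFormPlus e F)), g ^ r = 1 ∧
      ((g : GL (Fin e ⊕ Fin e) F) : Matrix (Fin e ⊕ Fin e) (Fin e ⊕ Fin e) F).charpoly.map
        (algebraMap F L) = Pm ζ f := by
  obtain ⟨B, C⟩ := exists_space_plus (F := F) e
  have hc : Fintype.card (Fin e ⊕ Fin e) = 2 * e := by simp; omega
  refine orth_real C hζ huq hr2 w hwq hwn (by rw [hc]; exact hf)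
    (fun k _ hk _ => embeds_plus_plus (by rw [hc] at hk; omega)) (fun k hk1 hk z hz ⟨g, hg, hfix⟩ => ?_)
  rw [hc] at hk
  rcases Nat.eq_zero_or_pos (f 0) with h0 | h0
  · exfalso
    obtain rfl : k = e := by omega
    obtain ⟨Bz, Cz⟩ := exists_space_minus (k - 1) 1 z hz
    rcases Nat.even_or_odd (orderOf uq) with he | hodd
    · refine no_fixed_minus hr2 huq (uq_ne_one he) hz ?_ g hg hfix
      rw [Nat.sub_add_cancel hk1, pow_half rfl he (Nat.mul_div_cancel' (moved_dvd hf hwq h0)).symm,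
        ((hok.resolve_left (not_not.2 h0)).resolve_left (Nat.not_odd_iff_even.mpr he)).neg_one_pow]
    · obtain ⟨W₁, W₂, h₁, h₂, hdim⟩ := exists_halves Cz hζ hr2 huq hodd g hg hfix
      have e1 := Cfsg.Lib.Linear.AutPO.minus_ts_bound hz Cz h₁
      have e2 := Cfsg.Lib.Linear.AutPO.minus_ts_bound hz Cz h₂
      simp only [Fintype.card_sum, Fintype.card_fin] at hdim
      omega
  · have he : Even (f 0) := by
      have := (even_iff_two_dvd).2 (dvd_mul_right 2 k)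
      exact ⟨e - k, by omega⟩
    obtain ⟨b, hb⟩ := he
    exact embeds_minus_plus (by omega) z

omit [Fintype F] in
theorem pplus_of_fpf [Fintype F] (hζ : IsPrimitiveRoot ζ r) (hr2 : r ≠ 2) {uq : (ZMod r)ˣ}
    (huq : (uq : ZMod r) = (Fintype.card F : ZMod r)) (w : (ZMod r)ˣ) (hwq : ∃ k : ℕ, uq = w ^ k) (e : ℕ)
    {f : ZMod r → ℕ} (hf : Inv w (2 * e) f) (h0 : f 0 = 0) (g : ↥(Cfsg.isometryGroup F (Cfsg.quadFormPlus e F)))
    (hg : g ^ r = 1) (hgp : ((g : GL (Fin e ⊕ Fin e) F) : Matrix (Fin e ⊕ Fin e) (Fin e ⊕ Fin e) F).charpoly.map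
        (algebraMap F L) = Pm ζ f) : PPlus (orderOf uq) (2 * e) := by
  by_contra hcon
  simp only [PPlus, not_or, Nat.not_odd_iff_even, Nat.not_even_iff_odd] at hcon
  refine no_fixed_plus hr2 huq (uq_ne_one hcon.1) ?_ g hg (fun v hv => fixed_free hζ _ hgp h0 v hv)
  rw [pow_half rfl hcon.1 (Nat.mul_div_cancel' (moved_dvd hf hwq h0)).symm, hcon.2.neg_one_pow]

theorem real_minus (hζ : IsPrimitiveRoot ζ r) (hr2 : r ≠ 2) {uq : (ZMod r)ˣ}
    (huq : (uq : ZMod r) = (Fintype.card F : ZMod r)) (w : (ZMod r)ˣ) (hwq : ∃ k : ℕ, uq = w ^ k)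
    (hwn : ∃ k : ℕ, (-1 : (ZMod r)ˣ) = w ^ k) (e : ℕ) {a b : F}
    (hab : ∀ z₁ z₂ : F, z₁ ^ 2 + a * z₁ * z₂ + b * z₂ ^ 2 = 0 → z₁ = 0 ∧ z₂ = 0) {f : ZMod r → ℕ}
    (hf : Inv w (2 * e + 2) f) (hok : f 0 ≠ 0 ∨ PMinus (orderOf uq) (2 * e + 2)) :
    ∃ g : ↥(Cfsg.isometryGroup F (Cfsg.quadFormMinus e F a b)), g ^ r = 1 ∧
      ((g : GL ((Fin e ⊕ Fin e) ⊕ Fin 2) F) :
        Matrix ((Fin e ⊕ Fin e) ⊕ Fin 2) ((Fin e ⊕ Fin e) ⊕ Fin 2) F).charpoly.map (algebraMap F L) = Pm ζ f := by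
  obtain ⟨B, C⟩ := exists_space_minus e a b hab
  have hc : Fintype.card ((Fin e ⊕ Fin e) ⊕ Fin 2) = 2 * e + 2 := by simp; omega
  refine orth_real C hζ huq hr2 w hwq hwn (by rw [hc]; exact hf) (fun k hk1 hk ⟨g, hg, hfix⟩ => ?_)
    (fun k hk1 hk z hz _ => embeds_minus_minus (by rw [hc] at hk; omega) hab hz)
  rw [hc] at hk
  rcases Nat.eq_zero_or_pos (f 0) with h0 | h0
  · exfalso
    obtain rfl : k = e + 1 := by omega
    obtain ⟨he, ho⟩ := hok.resolve_left (not_not.2 h0)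
    refine no_fixed_plus hr2 huq (uq_ne_one he) ?_ g hg hfix
    rw [pow_half rfl he (m := e + 1) (by rw [Nat.mul_div_cancel' (moved_dvd hf hwq h0)]; ring), ho.neg_one_pow]
  · refine embeds_plus_minus ?_ a b
    omega

omit [Fintype F] in
theorem pminus_of_fpf [Fintype F] (hζ : IsPrimitiveRoot ζ r) (hr2 : r ≠ 2) {uq : (ZMod r)ˣ}
    (huq : (uq : ZMod r) = (Fintype.card F : ZMod r)) (w : (ZMod r)ˣ) (hwq : ∃ k : ℕ, uq = w ^ k) (e : ℕ)
    {a b : F} (hab : ∀ z₁ z₂ : F, z₁ ^ 2 + a * z₁ * z₂ + b * z₂ ^ 2 = 0 → z₁ = 0 ∧ z₂ = 0)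
    {f : ZMod r → ℕ} (hf : Inv w (2 * e + 2) f) (h0 : f 0 = 0)
    (g : ↥(Cfsg.isometryGroup F (Cfsg.quadFormMinus e F a b))) (hg : g ^ r = 1)
    (hgp : ((g : GL ((Fin e ⊕ Fin e) ⊕ Fin 2) F) :
      Matrix ((Fin e ⊕ Fin e) ⊕ Fin 2) ((Fin e ⊕ Fin e) ⊕ Fin 2) F).charpoly.map (algebraMap F L) = Pm ζ f) :
    PMinus (orderOf uq) (2 * e + 2) := by
  obtain ⟨B, C⟩ := exists_space_minus e a b hab
  have hfix := fun v hv => fixed_free hζ _ hgp h0 v hv
  rcases Nat.even_or_odd (orderOf uq) with he | hodd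
  · refine ⟨he, ?_⟩
    by_contra hcon
    refine no_fixed_minus hr2 huq (uq_ne_one he) hab ?_ g hg hfix
    rw [pow_half rfl he (m := e + 1) (by rw [Nat.mul_div_cancel' (moved_dvd hf hwq h0)]; ring),
      (Nat.not_odd_iff_even.mp hcon).neg_one_pow]
  · obtain ⟨W₁, W₂, h₁, h₂, hdim⟩ := exists_halves C hζ hr2 huq hodd g hg hfix
    have e1 := Cfsg.Lib.Linear.AutPO.minus_ts_bound hab C h₁
    have e2 := Cfsg.Lib.Linear.AutPO.minus_ts_bound hab C h₂
    simp only [Fintype.card_sum, Fintype.card_fin] at hdim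
    omega

end Realisable

end Cfsg.Lib.Linear.IsoFix
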