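import Cfsg.Agent.Lib.Linear.IsotropicFix.Orth

/-!
# From elements of `Ω` to multiplicity functions
-/

set_option autoImplicit false

universe u

namespace Cfsg.Lib.Linear.IsoFix

open Module Polynomial Cfsg.Agent.Lib.Linear.PrimeClasses Cfsg.Lib.Linear.Orth
open scoped Matrix

variable {F : Type u} [Field F] [Fintype F] {ι κ : Type} [Fintype ι] [DecidableEq ι] [Fintype κ] [DecidableEq κ]
  {Q : (ι → F) → F} {B : LinearMap.BilinForm F (ι → F)} {Q₀ : (κ → F) → F} {B₀ : LinearMap.BilinForm F (κ → F)}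
  {m : ℕ} {ψ : (ι → F) ≃ₗ[F] ((Fin m ⊕ Fin m) ⊕ κ → F)}

theorem mem_omegaGL_of_odd (C : Space Q B) (hn : 2 ≤ Fintype.card ι)
    (h : Fintype.card F ≠ 2 ∨ Fintype.card ι ≠ 4) {r : ℕ} (hodd : Odd r)
    (g : ↥(Cfsg.isometryGroup F Q)) (hg : g ^ r = 1) : (g : GL ι F) ∈ Cfsg.Geo.omegaGL Q := by
  obtain ⟨k, hk⟩ : (commutator ↥(isometryGroup F Q)).index ∣ 4 := by
    by_cases h2 : (2 : F) = 0
    · rw [(omega_two C h2 hn h).1]; norm_num
    · rw [(omega_odd C h2 hn).2.1]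
  refine ⟨g, ?_, rfl⟩
  show g ∈ commutator ↥(isometryGroup F Q)
  obtain ⟨a, rfl⟩ := hodd
  haveI : (commutator ↥(isometryGroup F Q)).Normal := Subgroup.commutator_normal _ _
  have e : g = ((g ^ ((a + 1) * (a + 1))) ^ k) ^ (commutator ↥(isometryGroup F Q)).index := by
    rw [← pow_mul, ← pow_mul, mul_assoc, mul_comm k, ← hk,
      show (a + 1) * ((a + 1) * 4) = (2 * a + 1) * (2 * a + 3) + 1 by ring, pow_succ, pow_mul, hg, one_pow, one_mul]
  rw [e]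
  exact Subgroup.pow_index_mem _ _

variable {r : ℕ} [Fact r.Prime]

omit [Fintype F] in
theorem exists_fixes_scalar (C₀ : Space Q₀ B₀) (S : IsSplit Q Q₀ m ψ) (z : F) :
    FixesQ Q m (z • (1 : Matrix ι ι F)) := by
  refine ⟨stdTS ψ, finrank_stdTS, S.stdTS_singular C₀, ?_⟩
  rintro _ ⟨v, hv, rfl⟩
  rw [Matrix.toLin'_apply, Matrix.smul_mulVec, Matrix.one_mulVec]
  exact Submodule.smul_mem _ _ hv

/-- Elements of prime order modulo scalars against isometries of order dividing `r`. -/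
theorem omega_scalar_iff (C : Space Q B) (C₀ : Space Q₀ B₀) (S : IsSplit Q Q₀ m ψ) (hn : 2 ≤ Fintype.card ι)
    (h : Fintype.card F ≠ 2 ∨ Fintype.card ι ≠ 4) (hr2 : r ≠ 2) :
    (∀ x : GL ι F, x ∈ Cfsg.Geo.omegaGL Q →
      (∃ z : F, ((x ^ r : GL ι F) : Matrix ι ι F) = z • (1 : Matrix ι ι F)) →
      (∀ z : F, (x : Matrix ι ι F) ≠ z • (1 : Matrix ι ι F)) → FixesQ Q m (x : Matrix ι ι F)) ↔
    ∀ g : ↥(Cfsg.isometryGroup F Q), g ^ r = 1 → FixesQ Q m ((g : GL ι F) : Matrix ι ι F) := by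
  classical
  have hr : r.Prime := Fact.out
  constructor
  · intro hall g hg
    by_cases hsc : ∃ z : F, ((g : GL ι F) : Matrix ι ι F) = z • 1
    · obtain ⟨z, hz⟩ := hsc
      rw [hz]
      exact exists_fixes_scalar C₀ S z
    · exact hall g (mem_omegaGL_of_odd C hn h (hr.odd_of_ne_two hr2) g hg)
        ⟨1, by rw [← SubmonoidClass.coe_pow, hg, one_smul]; rfl⟩ fun z hz => hsc ⟨z, hz⟩
  · intro hall x hx ⟨z, hz⟩ _
    have hxI : x ∈ Cfsg.isometryGroup F Q := by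
      obtain ⟨y, -, rfl⟩ := hx
      exact y.2
    obtain ⟨v, hv⟩ := Cfsg.Lib.H3.exists_nonsing_vec C (by omega)
    have hz2 : z * z = 1 := by
      have h1 := mem_iso.1 (pow_mem hxI r) v
      rw [hz, Matrix.smul_mulVec, Matrix.one_mulVec, C.smul] at h1
      exact mul_right_cancel₀ hv (by rw [one_mul, ← pow_two]; exact h1)
    obtain ⟨k, hk⟩ := hr.odd_of_ne_two hr2
    rw [Units.val_pow_eq_pow_val] at hz
    have hyr : (z • (x : Matrix ι ι F)) ^ r = 1 := by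
      rw [_root_.smul_pow, hz, smul_smul, hk, ← pow_succ, show 2 * k + 1 + 1 = 2 * (k + 1) by omega, pow_mul,
        pow_two, hz2, one_pow, one_smul]
    let y : GL ι F := Units.ofPowEqOne _ r hyr hr.ne_zero
    have hy : y ∈ Cfsg.isometryGroup F Q := mem_iso.2 fun v => by
      show Q ((z • (x : Matrix ι ι F)) *ᵥ v) = Q v
      rw [Matrix.smul_mulVec, C.smul, mem_iso.1 hxI, pow_two, hz2, one_mul]
    obtain ⟨W, h1, h2, h3⟩ := hall ⟨y, hy⟩ (Subtype.ext (Units.pow_ofPowEqOne hyr hr.ne_zero))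
    refine ⟨W, h1, h2, ?_⟩
    have hz0 : z ≠ 0 := fun e => by simp [e] at hz2
    change W.map (Matrix.toLin' (z • (x : Matrix ι ι F))) ≤ W at h3
    rwa [map_smul, Submodule.map_smul _ W z hz0] at h3

/-- Elements of order exactly `r`. -/
theorem omega_order_iff (C : Space Q B) (C₀ : Space Q₀ B₀) (S : IsSplit Q Q₀ m ψ) (hn : 2 ≤ Fintype.card ι)
    (h : Fintype.card F ≠ 2 ∨ Fintype.card ι ≠ 4) (hr2 : r ≠ 2) :
    (∀ x : GL ι F, x ∈ Cfsg.Geo.omegaGL Q → orderOf x = r → FixesQ Q m (x : Matrix ι ι F)) ↔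
    ∀ g : ↥(Cfsg.isometryGroup F Q), g ^ r = 1 → FixesQ Q m ((g : GL ι F) : Matrix ι ι F) := by
  have hr : r.Prime := Fact.out
  constructor
  · intro hall g hg
    by_cases h1 : (g : GL ι F) = 1
    · rw [h1, Units.val_one, ← one_smul F (1 : Matrix ι ι F)]
      exact exists_fixes_scalar C₀ S 1
    · exact hall g (mem_omegaGL_of_odd C hn h (hr.odd_of_ne_two hr2) g hg)
        (orderOf_eq_prime (by rw [← SubmonoidClass.coe_pow, hg]; rfl) h1)
  · intro hall x hx hord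
    have hxI : x ∈ Cfsg.isometryGroup F Q := by
      obtain ⟨y, -, rfl⟩ := hx
      exact y.2
    exact hall ⟨x, hxI⟩ (Subtype.ext (by rw [SubmonoidClass.coe_pow, ← hord]; exact pow_orderOf_eq_one x))

variable {L : Type u} [Field L] [Algebra F L] [IsAlgClosed L] {ζ : L}

/-- The multiplicities of an isometry of order dividing `r`. -/
theorem exists_mult_orth (C : Space Q B) (hζ : IsPrimitiveRoot ζ r) (hrL : (r : L) ≠ 0) {uq : (ZMod r)ˣ}
    (huq : (uq : ZMod r) = (Fintype.card F : ZMod r)) (w : (ZMod r)ˣ)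
    (hw : (w : ZMod r) = (uq : ZMod r) ∨ (w : ZMod r) = -(uq : ZMod r)) (g : ↥(Cfsg.isometryGroup F Q))
    (hg : g ^ r = 1) :
    ∃ f : ZMod r → ℕ, ((g : GL ι F) : Matrix ι ι F).charpoly.map (algebraMap F L) = Pm ζ f ∧
      Inv w (Fintype.card ι) f := by
  classical
  let R := Matrix.reindexAlgEquiv F F (Fintype.equivFin ι)
  let ρ : ↥(Cfsg.isometryGroup F Q) →* Matrix (Fin (Fintype.card ι)) (Fin (Fintype.card ι)) F :=
    R.toAlgHom.toRingHom.toMonoidHom.comp ((Units.coeHom _).comp (Cfsg.isometryGroup F Q).subtype)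
  have hρc : ∀ a, (ρ a).charpoly = ((a : GL ι F) : Matrix ι ι F).charpoly := fun a => Matrix.charpoly_reindex _ _
  obtain ⟨f, hf, hs⟩ := exists_mult (L := L) hζ (ρ g) (by rw [← map_pow, hg, map_one])
  refine ⟨f, by rw [← hρc, hf], inv_of_charpoly hζ hrL huq w hw (ρ g) (ρ g⁻¹) (by rw [← map_pow, hg, map_one])
    (by rw [← map_mul, mul_inv_cancel, map_one]) ?_ hf hs⟩
  rw [hρc, hρc]
  have hd : ∀ u v, u ⬝ᵥ (LinearMap.BilinForm.toMatrix' B *ᵥ v) = B u v := fun u v => by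
    rw [← Matrix.toBilin'_apply', Matrix.toBilin'_toMatrix']
  refine charpoly_inv_of_form (LinearMap.BilinForm.toMatrix' B) _ _ ?_ ?_
    (congrArg (fun x : ↥(Cfsg.isometryGroup F Q) => ((x : GL ι F) : Matrix ι ι F)) (mul_inv_cancel g))
  · refine Matrix.mulVec_injective_iff_isUnit.mp fun v v' hvv => sub_eq_zero.mp (C.nondeg _ fun u => ?_)
    rw [map_sub, ← hd, ← hd, hvv, sub_self]
  · refine Matrix.ext_iff_mulVec.mpr fun v => dotProduct_eq _ _ fun u => ?_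
    rw [dotProduct_comm, dotProduct_comm _ u, hd, ← Matrix.mulVec_mulVec, ← Matrix.mulVec_mulVec,
      Matrix.dotProduct_mulVec, Matrix.vecMul_transpose, hd]
    exact C.B_act g.2 u v

/-- Isometries of order dividing `r` fix totally singular subspaces iff their multiplicities allow it. -/
theorem all_fixes_iff (C : Space Q B) (C₀ : Space Q₀ B₀) (S : IsSplit Q Q₀ m ψ) (hζ : IsPrimitiveRoot ζ r)
    (hrL : (r : L) ≠ 0) (hrF : (r : F) ≠ 0) (hr2 : r ≠ 2) {uq : (ZMod r)ˣ}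
    (huq : (uq : ZMod r) = (Fintype.card F : ZMod r)) (w : (ZMod r)ˣ)
    (hw : (w : ZMod r) = (uq : ZMod r) ∨ (w : ZMod r) = -(uq : ZMod r)) {n n₀ : ℕ}
    (hn : Fintype.card ι = n) (hn₀ : n₀ + 2 * m = n) (Ok Ok₀ : (ZMod r → ℕ) → Prop)
    (hreal : ∀ f, Inv w n f → (Ok f ↔ ∃ g : ↥(Cfsg.isometryGroup F Q), g ^ r = 1 ∧
      ((g : GL ι F) : Matrix ι ι F).charpoly.map (algebraMap F L) = Pm ζ f))
    (hreal₀ : ∀ f, Inv w n₀ f → (Ok₀ f ↔ ∃ g : ↥(Cfsg.isometryGroup F Q₀), g ^ r = 1 ∧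
      ((g : GL κ F) : Matrix κ κ F).charpoly.map (algebraMap F L) = Pm ζ f)) :
    (∀ g : ↥(Cfsg.isometryGroup F Q), g ^ r = 1 → FixesQ Q m ((g : GL ι F) : Matrix ι ι F)) ↔
      ∀ f, Inv w n f → Ok f → ∃ μ : ZMod r → ℕ, Inv uq m μ ∧ (∀ x, μ x + μ (-x) ≤ f x) ∧
        Ok₀ fun x => f x - (μ x + μ (-x)) := by
  subst hn
  have hinv : ∀ (f μ : ZMod r → ℕ), Inv w (Fintype.card ι) f → Inv uq m μ → (∀ x, μ x + μ (-x) ≤ f x) →
      Inv w n₀ fun x => f x - (μ x + μ (-x)) := by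
    intro f μ hf hμ hle
    refine ⟨?_, fun x => ?_⟩
    · rw [Finset.sum_tsub_distrib _ fun x _ => hle x, Finset.sum_add_distrib,
        show ∑ x, μ (-x) = ∑ x, μ x from Equiv.sum_comp (Equiv.neg (ZMod r)) μ, hf.1, hμ.1]
      omega
    · show f _ - (μ _ + μ (-((w : ZMod r) * x))) = f x - (μ x + μ (-x))
      rw [hf.2]
      rcases hw with h | h <;> rw [h]
      · rw [hμ.2, ← mul_neg, hμ.2]
      · rw [neg_mul, ← mul_neg, hμ.2, mul_neg, neg_neg, hμ.2, add_comm]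
  constructor
  · intro hall f hf hok
    obtain ⟨g, hg, hgp⟩ := (hreal f hf).1 hok
    obtain ⟨μ, hμ, hle, g₀, hg₀, hg₀p⟩ := (fixesQ_iff C C₀ S hζ hrL hrF hr2 huq g hg hgp).1 (hall g hg)
    exact ⟨μ, hμ, hle, (hreal₀ _ (hinv f μ hf hμ hle)).2 ⟨g₀, hg₀, hg₀p⟩⟩
  · intro hall g hg
    obtain ⟨f, hgp, hf⟩ := exists_mult_orth C hζ hrL huq w hw g hg
    obtain ⟨μ, hμ, hle, hok⟩ := hall f hf ((hreal f hf).2 ⟨g, hg, hgp⟩)
    exact (fixesQ_iff C C₀ S hζ hrL hrF hr2 huq g hg hgp).2 ⟨μ, hμ, hle, (hreal₀ _ (hinv f μ hf hμ hle)).1 hok⟩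

end Cfsg.Lib.Linear.IsoFix
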