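import Cfsg.Agent.Lib.Linear.IsotropicFix.OrthInvol
import Cfsg.Agent.Lib.Linear.FormsHalf
import Cfsg.Agent.Lib.Linear.IsotropicFix.OrthReduce

/-!
# Isometries with square `-1`, and the discriminant of orthogonal lists
-/

set_option autoImplicit false

namespace Cfsg.Lib.Linear.IsoFix

open Module Cfsg.Lib.Linear.Orth
open scoped Matrix

variable {F : Type*} [Field F] {ι : Type} [Fintype ι] [DecidableEq ι]
  {Q : (ι → F) → F} {B : LinearMap.BilinForm F (ι → F)}

theorem orthList_li (C : Space Q B) (h2 : (2 : F) ≠ 0) {L : List (ι → F)} (hL : OrthList Q B L) :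
    LinearIndependent F (fun j : Fin L.length => L[j]) := by
  refine Cfsg.Lib.Linear.Forms.orth_li B _ (fun i j hij => ?_) fun i => ?_
  · rcases lt_or_gt_of_ne hij with h | h
    · exact List.pairwise_iff_getElem.1 hL.2 _ _ i.2 j.2 h
    · rw [C.symm]
      exact List.pairwise_iff_getElem.1 hL.2 _ _ j.2 i.2 h
  · rw [C.self]
    exact mul_ne_zero h2 (hL.1 _ (List.getElem_mem i.2))

theorem range_getElem (L : List (ι → F)) : Set.range (fun j : Fin L.length => L[j]) = {x | x ∈ L} :=
  Set.ext fun x => by simp [List.mem_iff_getElem, Fin.exists_iff]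

theorem span_eq_top_of_orth (C : Space Q B) (h2 : (2 : F) ≠ 0) {L : List (ι → F)} (hL : OrthList Q B L)
    (hlen : L.length = Fintype.card ι) : Submodule.span F {x | x ∈ L} = ⊤ := by
  rw [← range_getElem]
  exact (orthList_li C h2 hL).span_eq_top_of_card_eq_finrank'
    (by rw [Fintype.card_fin, hlen, finrank_fintype_fun_eq_card])

theorem length_of_span (C : Space Q B) (h2 : (2 : F) ≠ 0) {L : List (ι → F)} (hL : OrthList Q B L)
    (hspan : ⊤ ≤ Submodule.span F {x | x ∈ L}) : L.length = Fintype.card ι := by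
  have h := finrank_span_eq_card (orthList_li C h2 hL)
  rw [range_getElem, top_le_iff.1 hspan, finrank_top, finrank_fintype_fun_eq_card, Fintype.card_fin] at h
  exact h.symm

/-- A totally singular subspace of half the dimension fixes the discriminant. -/
theorem disc_of_half (C : Space Q B) (h2 : (2 : F) ≠ 0) {d : ℕ} (hn : Fintype.card ι = 2 * d)
    {L : List (ι → F)} (hL : OrthList Q B L) (hlen : L.length = 2 * d)
    {W : Submodule F (ι → F)} (hWd : finrank F W = d) (hW : ∀ w ∈ W, Q w = 0) :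
    IsSquare ((-1) ^ d * (L.map Q).prod) := by
  classical
  have hspan : ⊤ ≤ Submodule.span F (Set.range fun j : Fin L.length => L[j]) := by
    rw [range_getElem, span_eq_top_of_orth C h2 hL (hlen.trans hn.symm)]
  let b := Basis.mk (orthList_li C h2 hL) hspan
  have h := Cfsg.Lib.Linear.Forms.half_disc B C.symm
    (by rw [finrank_fintype_fun_eq_card, hn]) W hWd (fun x hx y hy => ts_orth C hW hx hy) b
  have hdiag : LinearMap.BilinForm.toMatrix b B = Matrix.diagonal fun j : Fin L.length => (2 : F) * Q (L[j]) := by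
    ext i j
    rw [LinearMap.BilinForm.toMatrix_apply, Basis.mk_apply, Basis.mk_apply]
    by_cases hij : i = j
    · subst hij
      rw [Matrix.diagonal_apply_eq, C.self]
    · rw [Matrix.diagonal_apply_ne _ hij]
      rcases lt_or_gt_of_ne hij with h | h
      · exact List.pairwise_iff_getElem.1 hL.2 _ _ i.2 j.2 h
      · rw [C.symm]
        exact List.pairwise_iff_getElem.1 hL.2 _ _ j.2 i.2 h
  rw [hdiag, Matrix.det_diagonal, Finset.prod_mul_distrib, Finset.prod_const, Finset.card_univ, Fintype.card_fin,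
    show ((2 : F) ^ L.length) = 2 ^ (2 * d) from congrArg _ hlen] at h
  have hp : (L.map Q).prod = ∏ j : Fin L.length, Q (L[j]) := by
    rw [← List.prod_ofFn]
    exact congrArg List.prod (List.ext_getElem (by simp) (by simp))
  rw [hp]
  obtain ⟨s, hs⟩ := h
  refine ⟨s / 2 ^ d, ?_⟩
  rw [div_mul_div_comm, eq_div_iff (mul_ne_zero (pow_ne_zero _ h2) (pow_ne_zero _ h2)), ← hs, two_mul, pow_add]
  ring

theorem orth_append (C : Space Q B) (h2 : (2 : F) ≠ 0) {g : GL ι F} (hg : g ∈ isometryGroup F Q)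
    {Lp Lm : List (ι → F)} (hp : ∀ v ∈ Lp, g.val *ᵥ v = v) (hm : ∀ v ∈ Lm, g.val *ᵥ v = -v)
    (hOp : OrthList Q B Lp) (hOm : OrthList Q B Lm) : OrthList Q B (Lp ++ Lm) := by
  refine ⟨List.forall_mem_append.2 ⟨hOp.1, hOm.1⟩, List.pairwise_append.2 ⟨hOp.2, hOm.2, fun x hx v hv => ?_⟩⟩
  have h3 := C.B_act hg x v
  rw [hp x hx, hm v hv, map_neg] at h3
  have h4 : (2 : F) * B x v = 0 := by linear_combination -h3
  exact (mul_eq_zero.1 h4).resolve_left h2

/-- The orthogonal list attached to a list of vectors. -/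
def pairList (g : GL ι F) (L : List (ι → F)) : List (ι → F) := L.flatMap fun v => [v, g.val *ᵥ v]

/-- The reflection vectors attached to a list of vectors. -/
def reflList (g : GL ι F) (L : List (ι → F)) : List (ι → F) := L.flatMap fun v => [v, v - g.val *ᵥ v]

theorem skew (C : Space Q B) {g : GL ι F} (hg : g ∈ isometryGroup F Q) (hsq : ∀ x, g.val *ᵥ (g.val *ᵥ x) = -x)
    (u v : ι → F) : B u (g.val *ᵥ v) = -B (g.val *ᵥ u) v := by
  have h := C.B_act hg u (g.val *ᵥ v)
  rw [hsq, map_neg] at h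
  rw [← h]

theorem self_orth (C : Space Q B) (h2 : (2 : F) ≠ 0) {g : GL ι F} (hg : g ∈ isometryGroup F Q)
    (hsq : ∀ x, g.val *ᵥ (g.val *ᵥ x) = -x) (v : ι → F) : B v (g.val *ᵥ v) = 0 := by
  have h := skew C hg hsq v v
  rw [C.symm (g.val *ᵥ v) v] at h
  have h4 : (2 : F) * B v (g.val *ᵥ v) = 0 := by linear_combination h
  exact (mul_eq_zero.1 h4).resolve_left h2

/-- An orthogonal basis in pairs. -/
theorem exists_pairs (C : Space Q B) (h2 : (2 : F) ≠ 0) {g : GL ι F} (hg : g ∈ isometryGroup F Q)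
    (hsq : ∀ x, g.val *ᵥ (g.val *ᵥ x) = -x) :
    ∀ (k : ℕ) (U : Submodule F (ι → F)), finrank F U = k → NDeg B U → (∀ x ∈ U, g.val *ᵥ x ∈ U) →
      ∃ L : List (ι → F), (∀ w ∈ pairList g L, w ∈ U) ∧ OrthList Q B (pairList g L) ∧
        U ≤ Submodule.span F {x | x ∈ pairList g L} := by
  classical
  intro k
  induction k using Nat.strong_induction_on with
  | _ k ih =>
    intro U hU hnd hinv
    by_cases hbot : U = ⊥
    · exact ⟨[], by simp [pairList], ⟨by simp [pairList], by simp [pairList]⟩, by rw [hbot]; exact bot_le⟩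
    obtain ⟨v, hv, hQv⟩ := exists_nonsing C hnd hbot
    set w := g.val *ᵥ v with hw
    have hwU : w ∈ U := hinv v hv
    have hQw : Q w = Q v := mem_iso.1 hg v
    have hvw : B v w = 0 := self_orth C h2 hg hsq v
    have hwv : B w v = 0 := by rw [C.symm, hvw]
    have hvv : B v v ≠ 0 := by rw [C.self]; exact mul_ne_zero h2 hQv
    have hww : B w w ≠ 0 := by rw [C.self, hQw]; exact mul_ne_zero h2 hQv
    let U' := U ⊓ (LinearMap.ker (B v) ⊓ LinearMap.ker (B w))
    have hproj : ∀ y ∈ U, y - (B v y / B v v) • v - (B w y / B w w) • w ∈ U' := fun y hy =>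
      ⟨U.sub_mem (U.sub_mem hy (U.smul_mem _ hv)) (U.smul_mem _ hwU), by
        show B v _ = 0
        simp only [map_sub, map_smul, smul_eq_mul, hvw, mul_zero, sub_zero]
        rw [div_mul_cancel₀ _ hvv, sub_self], by
        show B w _ = 0
        simp only [map_sub, map_smul, smul_eq_mul, hwv, mul_zero, sub_zero]
        rw [div_mul_cancel₀ _ hww, sub_self]⟩
    have hnd' : NDeg B U' := fun x hx h => hnd x hx.1 fun y hy => by
      have h1 := h _ (hproj y hy)
      rwa [map_sub, map_sub, map_smul, map_smul, C.symm x v, C.symm x w, show B v x = 0 from hx.2.1,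
        show B w x = 0 from hx.2.2, smul_zero, smul_zero, sub_zero, sub_zero] at h1
    have hinv' : ∀ x ∈ U', g.val *ᵥ x ∈ U' := fun x hx => ⟨hinv x hx.1, by
      show B v (g.val *ᵥ x) = 0
      rw [skew C hg hsq, show B (g.val *ᵥ v) x = 0 from hx.2.2, neg_zero], by
      show B w (g.val *ᵥ x) = 0
      rw [hw, C.B_act hg, show B v x = 0 from hx.2.1]⟩
    have hlt : finrank F U' < k := hU ▸ Submodule.finrank_lt_finrank_of_lt
      (lt_of_le_of_ne inf_le_left fun h => hvv ((h.symm ▸ hv : v ∈ U').2.1))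
    obtain ⟨L, hmem, hO, hspan⟩ := ih _ hlt U' rfl hnd' hinv'
    refine ⟨v :: L, ?_, ⟨?_, ?_⟩, fun y hy => ?_⟩
    · simp only [pairList, List.flatMap_cons, List.cons_append, List.nil_append]
      exact List.forall_mem_cons.2 ⟨hv, List.forall_mem_cons.2 ⟨hwU, fun x hx => (hmem x hx).1⟩⟩
    · simp only [pairList, List.flatMap_cons, List.cons_append, List.nil_append]
      exact List.forall_mem_cons.2 ⟨hQv, List.forall_mem_cons.2 ⟨hQw ▸ hQv, hO.1⟩⟩
    · simp only [pairList, List.flatMap_cons, List.cons_append, List.nil_append]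
      exact List.pairwise_cons.2 ⟨List.forall_mem_cons.2 ⟨hvw, fun x hx => (hmem x hx).2.1⟩,
        List.pairwise_cons.2 ⟨fun x hx => (hmem x hx).2.2, hO.2⟩⟩
    · simp only [pairList, List.flatMap_cons, List.cons_append, List.nil_append]
      rw [show y = (y - (B v y / B v v) • v - (B w y / B w w) • w) + ((B v y / B v v) • v + (B w y / B w w) • w) by abel]
      refine add_mem (span_cons_le (fun x hx => Submodule.subset_span ?_) (hspan (hproj y hy)))
        (add_mem (Submodule.smul_mem _ _ (Submodule.subset_span ?_)) (Submodule.smul_mem _ _ (Submodule.subset_span ?_)))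
      · exact List.mem_cons_of_mem _ (List.mem_cons_of_mem _ hx)
      · exact List.mem_cons_self
      · exact List.mem_cons_of_mem _ List.mem_cons_self

theorem reflList_act (C : Space Q B) (h2 : (2 : F) ≠ 0) {g : GL ι F} (hg : g ∈ isometryGroup F Q)
    (hsq : ∀ x, g.val *ᵥ (g.val *ᵥ x) = -x) :
    ∀ L : List (ι → F), OrthList Q B (pairList g L) → (∀ v ∈ reflList g L, Q v ≠ 0) ∧
      (∀ y, (∀ w ∈ pairList g L, B w y = 0) →
        ((reflList g L).map fun v => Cfsg.reflectionMatrix Q v).prod *ᵥ y = y) ∧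
      ∀ w ∈ pairList g L, ((reflList g L).map fun v => Cfsg.reflectionMatrix Q v).prod *ᵥ w = g.val *ᵥ w := by
  intro L
  induction L with
  | nil => intro _; simp [pairList, reflList]
  | cons v L ih =>
    intro hO
    have e1 : pairList g (v :: L) = v :: g.val *ᵥ v :: pairList g L := rfl
    have e2 : reflList g (v :: L) = v :: (v - g.val *ᵥ v) :: reflList g L := rfl
    rw [e1] at hO
    obtain ⟨hQ, hP⟩ := hO
    rw [List.pairwise_cons, List.pairwise_cons] at hP
    obtain ⟨hv, hw, hP⟩ := hP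
    rw [List.forall_mem_cons] at hv hQ
    obtain ⟨hvw, hv⟩ := hv
    obtain ⟨hQv, hQ⟩ := hQ
    rw [List.forall_mem_cons] at hQ
    obtain ⟨hQ', hfix, hact⟩ := ih ⟨hQ.2, hP⟩
    set w := g.val *ᵥ v with hwdef
    set a := v - w with hadef
    have hQw : Q w = Q v := mem_iso.1 hg v
    have hQa : Q a = 2 * Q v := by
      rw [hadef, sub_eq_add_neg, C.add, C.neg, map_neg, hvw, hQw]; ring
    have hQa0 : Q a ≠ 0 := by rw [hQa]; exact mul_ne_zero h2 hQv
    have hwv : B w v = 0 := by rw [C.symm, hvw]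
    have hgw : g.val *ᵥ w = -v := hsq v
    have step : ∀ y, ((reflList g (v :: L)).map fun v => Cfsg.reflectionMatrix Q v).prod *ᵥ y =
        (rGL Q v).val *ᵥ ((rGL Q a).val *ᵥ
          (((reflList g L).map fun v => Cfsg.reflectionMatrix Q v).prod *ᵥ y)) := fun y => by
      rw [e2, List.map_cons, List.map_cons, List.prod_cons, List.prod_cons, rGL_val C hQv, rGL_val C hQa0,
        Matrix.mulVec_mulVec, Matrix.mulVec_mulVec, mul_assoc]
    have hkill : ∀ x, B v x = 0 → B w x = 0 → (rGL Q v).val *ᵥ ((rGL Q a).val *ᵥ x) = x := fun x h1 h3 => by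
      rw [rGL_fix C hQa0 (by rw [hadef, map_sub, LinearMap.sub_apply, h1, h3, sub_zero]), rGL_fix C hQv h1]
    refine ⟨?_, fun y hy => ?_, ?_⟩
    · rw [e2]
      exact List.forall_mem_cons.2 ⟨hQv, List.forall_mem_cons.2 ⟨hQa0, hQ'⟩⟩
    · rw [e1, List.forall_mem_cons, List.forall_mem_cons] at hy
      rw [step, hfix y hy.2.2, hkill y hy.1 hy.2.1]
    · rw [e1, List.forall_mem_cons, List.forall_mem_cons]
      refine ⟨?_, ?_, fun u hu => ?_⟩
      · rw [step, hfix v (fun u hu => by rw [C.symm]; exact hv u hu), rGL_act C hQa0,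
          show (Q a)⁻¹ * B a v = 1 by
            rw [hQa, hadef, map_sub, LinearMap.sub_apply, C.self, hwv, sub_zero,
              inv_mul_cancel₀ (mul_ne_zero h2 hQv)],
          one_smul, hadef, sub_sub_cancel, rGL_fix C hQv hvw]
      · rw [step, hfix w (fun u hu => by rw [C.symm]; exact hw u hu), rGL_act C hQa0,
          show (Q a)⁻¹ * B a w = -1 by
            rw [hQa, hadef, map_sub, LinearMap.sub_apply, C.self, hQw, hvw, zero_sub, mul_neg,
              inv_mul_cancel₀ (mul_ne_zero h2 hQv)],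
          hadef, neg_one_smul, sub_neg_eq_add, add_sub_cancel, rGL_self C hQv, hgw]
      · rw [step, hact u hu, hkill]
        · rw [skew C hg hsq, ← hwdef, hw u hu, neg_zero]
        · rw [hwdef, C.B_act hg, hv u hu]

theorem isSquare_pairList_prod (C : Space Q B) {g : GL ι F} (hg : g ∈ isometryGroup F Q) :
    ∀ L : List (ι → F), IsSquare ((pairList g L).map Q).prod := by
  intro L
  induction L with
  | nil => exact ⟨1, by simp [pairList]⟩
  | cons v L ih =>
    obtain ⟨s, hs⟩ := ih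
    refine ⟨Q v * s, ?_⟩
    rw [show pairList g (v :: L) = v :: g.val *ᵥ v :: pairList g L from rfl, List.map_cons, List.map_cons,
      List.prod_cons, List.prod_cons, mem_iso.1 hg, hs]
    ring

theorem reflList_prod (C : Space Q B) (h2 : (2 : F) ≠ 0) {g : GL ι F} (hg : g ∈ isometryGroup F Q)
    (hsq : ∀ x, g.val *ᵥ (g.val *ᵥ x) = -x) :
    ∀ L : List (ι → F), ∃ s : F, ((reflList g L).map Q).prod = 2 ^ L.length * (s * s) ∧
      ((∀ v ∈ L, Q v ≠ 0) → s ≠ 0) := by
  intro L
  induction L with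
  | nil => exact ⟨1, by simp [reflList], fun _ => one_ne_zero⟩
  | cons v L ih =>
    obtain ⟨s, hs, hs0⟩ := ih
    refine ⟨Q v * s, ?_, fun h => mul_ne_zero (h v List.mem_cons_self) (hs0 fun u hu => h u (List.mem_cons_of_mem _ hu))⟩
    rw [show reflList g (v :: L) = v :: (v - g.val *ᵥ v) :: reflList g L from rfl, List.map_cons, List.map_cons,
      List.prod_cons, List.prod_cons, hs, sub_eq_add_neg, C.add, C.neg, map_neg, self_orth C h2 hg hsq,
      mem_iso.1 hg, List.length_cons, pow_succ]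
    ring

theorem length_pairList (g : GL ι F) (L : List (ι → F)) : (pairList g L).length = 2 * L.length := by
  induction L with
  | nil => rfl
  | cons v L ih =>
    rw [show pairList g (v :: L) = v :: g.val *ᵥ v :: pairList g L from rfl]
    simp only [List.length_cons, ih]; ring

theorem length_reflList (g : GL ι F) (L : List (ι → F)) : (reflList g L).length = 2 * L.length := by
  induction L with
  | nil => rfl
  | cons v L ih =>
    rw [show reflList g (v :: L) = v :: (v - g.val *ᵥ v) :: reflList g L from rfl]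
    simp only [List.length_cons, ih]; ring

/-- An isometry with square `-1`: the discriminant is a square, and the criterion for membership in `Ω`. -/
theorem sq_neg_one [Fintype F] (C : Space Q B) (h2 : (2 : F) ≠ 0) {d : ℕ} (hn : Fintype.card ι = 2 * d) (hd : 1 ≤ d)
    {g : GL ι F} (hg : g ∈ isometryGroup F Q) (hsq : ∀ x, g.val *ᵥ (g.val *ᵥ x) = -x) :
    (∃ L : List (ι → F), OrthList Q B L ∧ L.length = 2 * d ∧ IsSquare (L.map Q).prod) ∧
      (g ∈ Cfsg.Geo.omegaGL Q ↔ IsSquare ((2 : F) ^ d)) := by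
  obtain ⟨L, -, hO, hspan⟩ := exists_pairs C h2 hg hsq _ ⊤ rfl C.ndeg_top fun x _ => Submodule.mem_top
  have hlen := length_of_span C h2 hO hspan
  rw [length_pairList, hn] at hlen
  refine ⟨⟨pairList g L, hO, by rw [length_pairList]; omega, isSquare_pairList_prod C hg L⟩, ?_⟩
  obtain ⟨hQ, -, hact⟩ := reflList_act C h2 hg hsq L hO
  have hgv : (((⟨g, hg⟩ : ↥(isometryGroup F Q)) : GL ι F)).val =
      ((reflList g L).map fun v => Cfsg.reflectionMatrix Q v).prod := by
    refine mat_ext fun x => ?_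
    have hlin : Matrix.mulVecLin g.val =
        Matrix.mulVecLin ((reflList g L).map fun v => Cfsg.reflectionMatrix Q v).prod :=
      LinearMap.ext_on (top_le_iff.1 hspan) fun v hv => by
        simp only [Matrix.mulVecLin_apply]
        exact (hact v hv).symm
    exact LinearMap.congr_fun hlin x
  have hiff := refl_prod_mem_omega_iff C h2 (by omega) _ hQ ⟨g, hg⟩ hgv
  obtain ⟨s, hs, hs0⟩ := reflList_prod C h2 hg hsq L
  have hmemL : ∀ v ∈ L, v ∈ pairList g L := fun v hv => List.mem_flatMap.2 ⟨v, hv, List.mem_cons_self⟩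
  have hs1 : s ≠ 0 := hs0 fun v hv => hO.1 v (hmemL v hv)
  rw [length_reflList, hs, show L.length = d by omega] at hiff
  have hiff' : (⟨g, hg⟩ : ↥(isometryGroup F Q)) ∈ Omega F Q ↔ IsSquare ((2 : F) ^ d) := by
    rw [hiff, and_iff_right (even_two_mul d)]
    constructor
    · rintro ⟨u, hu⟩
      refine ⟨u / s, ?_⟩
      rw [div_mul_div_comm, eq_div_iff (mul_ne_zero hs1 hs1), ← hu]
    · exact fun h => h.mul ⟨s, rfl⟩
  rw [← hiff']
  constructor
  · rintro ⟨y, hy, hyg⟩
    rwa [show (⟨g, hg⟩ : ↥(isometryGroup F Q)) = y from Subtype.ext hyg.symm]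
  · exact fun h => ⟨_, h, rfl⟩

/-- An invariant totally singular subspace from a square root of `-1`. -/
theorem fixesQ_of_sqrt (C : Space Q B) (h2 : (2 : F) ≠ 0) {g : GL ι F} (hg : g ∈ isometryGroup F Q)
    (hsq : ∀ x, g.val *ᵥ (g.val *ᵥ x) = -x) {a : F} (ha : a * a = -1) {m : ℕ} (hm : 2 * m ≤ Fintype.card ι) :
    FixesQ Q m g.val := by
  classical
  obtain ⟨E, hE⟩ : ∃ E : F → Submodule F (ι → F), ∀ c x, x ∈ E c ↔ g.val *ᵥ x = c • x :=
    ⟨fun c => LinearMap.ker (Matrix.mulVecLin g.val - c • LinearMap.id), fun c x => by simp [sub_eq_zero]⟩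
  have hts : ∀ c, c * c = -1 → ∀ x ∈ E c, Q x = 0 := fun c hc x hx => by
    have h := mem_iso.1 hg x
    rw [(hE c x).1 hx, C.smul, pow_two, hc] at h
    have h4 : (2 : F) * Q x = 0 := by linear_combination -h
    exact (mul_eq_zero.1 h4).resolve_left h2
  have htop : ⊤ ≤ E a ⊔ E (-a) := fun x _ => by
    have ha2 : (2 : F)⁻¹ • ((2 : F) • x) = x := inv_smul_smul₀ h2 x
    rw [← ha2, show (2 : F) • x = (x - a • (g.val *ᵥ x)) + (x + a • (g.val *ᵥ x)) by module]
    refine Submodule.smul_mem _ _ (Submodule.add_mem_sup ((hE _ _).2 ?_) ((hE _ _).2 ?_))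
    · rw [Matrix.mulVec_sub, Matrix.mulVec_smul, hsq]
      match_scalars <;> first | ring1 | linear_combination ha | linear_combination -ha
    · rw [Matrix.mulVec_add, Matrix.mulVec_smul, hsq]
      match_scalars <;> first | ring1 | linear_combination ha | linear_combination -ha
  have h1 := Submodule.finrank_mono htop
  have h3 := Submodule.finrank_add_le_finrank_add_finrank (E a) (E (-a))
  rw [finrank_top, finrank_fintype_fun_eq_card] at h1
  obtain ⟨c, hc, hcm⟩ : ∃ c, c * c = -1 ∧ m ≤ finrank F (E c) := by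
    rcases le_total m (finrank F (E a)) with h | h
    · exact ⟨a, ha, h⟩
    · exact ⟨-a, by rw [neg_mul_neg, ha], by omega⟩
  obtain ⟨f, hf⟩ := exists_linearIndependent_of_le_finrank hcm
  have hf' := hf.map' (E c).subtype (Submodule.ker_subtype _)
  have hle : Submodule.span F (Set.range ((E c).subtype ∘ f)) ≤ E c :=
    Submodule.span_le.2 (by rintro _ ⟨j, rfl⟩; exact (f j).2)
  refine ⟨_, (finrank_span_eq_card hf').trans (Fintype.card_fin m), fun x hx => hts c hc x (hle hx), ?_⟩
  rintro _ ⟨x, hx, rfl⟩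
  rw [Matrix.toLin'_apply, (hE c x).1 (hle hx)]
  exact Submodule.smul_mem _ _ hx

/-- Invariant totally singular subspaces of every small even dimension. -/
theorem exists_inv_ts [Finite F] (C : Space Q B) (h2 : (2 : F) ≠ 0) {g : GL ι F} (hg : g ∈ isometryGroup F Q)
    (hsq : ∀ x, g.val *ᵥ (g.val *ᵥ x) = -x) (hns : ¬IsSquare (-1 : F)) :
    ∀ j, 4 * j ≤ Fintype.card ι + 1 → ∃ W : Submodule F (ι → F), finrank F W = 2 * j ∧ (∀ w ∈ W, Q w = 0) ∧
      ∀ w ∈ W, g.val *ᵥ w ∈ W := by
  classical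
  intro j
  induction j with
  | zero =>
    exact fun _ => ⟨⊥, finrank_bot F _, fun w hw => by rw [(Submodule.mem_bot F).1 hw, C.zero],
      fun w hw => by rw [(Submodule.mem_bot F).1 hw, Matrix.mulVec_zero]; exact zero_mem _⟩
  | succ j ih =>
    intro hj
    obtain ⟨W, hWd, hW, hinv⟩ := ih (by omega)
    obtain ⟨W', hW'⟩ := Submodule.exists_isCompl W
    let U := W' ⊓ B.orthogonal W
    have hnd : B.Nondegenerate := ⟨fun x hx => C.nondeg' hx, fun x hx => C.nondeg _ hx⟩
    have h1 := Submodule.finrank_add_eq_of_isCompl hW'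
    have h3 := Submodule.finrank_sup_add_finrank_inf_eq W' (B.orthogonal W)
    have h5 := Submodule.finrank_le (W' ⊔ B.orthogonal W)
    rw [LinearMap.BilinForm.finrank_orthogonal hnd, finrank_fintype_fun_eq_card] at h3
    rw [finrank_fintype_fun_eq_card] at h1 h5
    obtain ⟨v, hv, hv0, hQv⟩ := Sing.exists_singular C.smul C.polar U (by show 3 ≤ finrank F ↥(W' ⊓ B.orthogonal W); omega)
    have hvW : v ∉ W := fun h => hv0 (Submodule.disjoint_def.1 hW'.disjoint v h hv.1)
    set u := g.val *ᵥ v with hu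
    have hgu : g.val *ᵥ u = -v := hsq v
    have hWu : ∀ y ∈ W, B y u = 0 := fun y hy => by
      rw [hu, skew C hg hsq, show B (g.val *ᵥ y) v = 0 from hv.2 _ (hinv y hy), neg_zero]
    have hWv : ∀ y ∈ W, B y v = 0 := fun y hy => hv.2 y hy
    have huv : B v u = 0 := self_orth C h2 hg hsq v
    have hQu : Q u = 0 := by rw [hu, mem_iso.1 hg, hQv]
    have hu' : u ∉ W ⊔ (F ∙ v) := fun h => by
      obtain ⟨y, hy, z, hz, hyz⟩ := Submodule.mem_sup.1 h
      obtain ⟨c, rfl⟩ := Submodule.mem_span_singleton.1 hz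
      have h6 := congrArg (g.val *ᵥ ·) hyz
      simp only [Matrix.mulVec_add, Matrix.mulVec_smul, hgu, ← hu] at h6
      have h7 : (c * c + 1) • v = -(g.val *ᵥ y + c • y) := by
        rw [← hyz] at h6
        linear_combination (norm := module) h6
      have h8 : c * c + 1 ≠ 0 := fun h => hns ⟨c, by linear_combination -h⟩
      refine hvW ?_
      rw [← inv_smul_smul₀ h8 v, h7]
      exact W.smul_mem _ (W.neg_mem (W.add_mem (hinv y hy) (W.smul_mem c hy)))
    refine ⟨W ⊔ (F ∙ v) ⊔ (F ∙ u), ?_, ?_, ?_⟩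
    · have h6 : finrank F ↥(W ⊔ (F ∙ v)) = finrank F W + 1 := Submodule.finrank_sup_span_singleton hvW
      rw [Submodule.finrank_sup_span_singleton hu', h6, hWd]
      ring
    · intro x hx
      obtain ⟨y', hy', z, hz, rfl⟩ := Submodule.mem_sup.1 hx
      obtain ⟨y, hy, z', hz', rfl⟩ := Submodule.mem_sup.1 hy'
      obtain ⟨c, rfl⟩ := Submodule.mem_span_singleton.1 hz'
      obtain ⟨e, rfl⟩ := Submodule.mem_span_singleton.1 hz
      simp only [C.add, C.smul, hW y hy, hQv, hQu, map_add, map_smul, LinearMap.add_apply, LinearMap.smul_apply,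
        smul_eq_mul, hWu y hy, hWv y hy, huv]
      ring
    · intro x hx
      obtain ⟨y', hy', z, hz, rfl⟩ := Submodule.mem_sup.1 hx
      obtain ⟨y, hy, z', hz', rfl⟩ := Submodule.mem_sup.1 hy'
      obtain ⟨c, rfl⟩ := Submodule.mem_span_singleton.1 hz'
      obtain ⟨e, rfl⟩ := Submodule.mem_span_singleton.1 hz
      rw [Matrix.mulVec_add, Matrix.mulVec_add, Matrix.mulVec_smul, Matrix.mulVec_smul, ← hu, hgu,
        show g.val *ᵥ y + c • u + e • -v = g.val *ᵥ y + (-e) • v + c • u by module]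
      exact Submodule.add_mem_sup (Submodule.add_mem_sup (hinv y hy)
        (Submodule.smul_mem _ _ (Submodule.mem_span_singleton_self v)))
        (Submodule.smul_mem _ _ (Submodule.mem_span_singleton_self u))

/-- Without a square root of `-1` no odd-dimensional subspace is invariant. -/
theorem even_of_inv {g : GL ι F} (hsq : ∀ x, g.val *ᵥ (g.val *ᵥ x) = -x) (hns : ¬IsSquare (-1 : F))
    {W : Submodule F (ι → F)} (hinv : W.map (Matrix.toLin' g.val) ≤ W) : Even (finrank F W) := by
  have hi : ∀ x ∈ W, Matrix.toLin' g.val x ∈ W := fun x hx => hinv ⟨x, hx, rfl⟩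
  obtain ⟨f, hf⟩ : ∃ f : W →ₗ[F] W, f = (Matrix.toLin' g.val).restrict hi := ⟨_, rfl⟩
  have h : f ∘ₗ f = (-1 : F) • LinearMap.id := LinearMap.ext fun x => Subtype.ext (by
    rw [hf]
    simp [hsq])
  have h1 := congrArg LinearMap.det h
  rw [LinearMap.det_comp, LinearMap.det_smul, LinearMap.det_id, mul_one] at h1
  rcases Nat.even_or_odd (finrank F W) with he | ho
  · exact he
  · exact absurd ⟨LinearMap.det f, by rw [h1, ho.neg_one_pow]⟩ hns

/-- An isometry with square `-1` from a linear map. -/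
theorem exists_gl_sq_neg_one (T : (ι → F) →ₗ[F] (ι → F)) (hT : ∀ v, T (T v) = -v) (hQ : ∀ v, Q (T v) = Q v) :
    ∃ g : GL ι F, g ∈ isometryGroup F Q ∧ (∀ v, g.val *ᵥ v = T v) ∧ ∀ v, g.val *ᵥ (g.val *ᵥ v) = -v := by
  have hval : ∀ v, LinearMap.toMatrix' T *ᵥ v = T v := fun v => by
    rw [← Matrix.toLin'_apply, Matrix.toLin'_toMatrix']
  have hmul : LinearMap.toMatrix' T * LinearMap.toMatrix' T = -1 := mat_ext fun v => by
    rw [← Matrix.mulVec_mulVec, hval, hval, hT, Matrix.neg_mulVec, Matrix.one_mulVec]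
  let g : GL ι F := ⟨LinearMap.toMatrix' T, -LinearMap.toMatrix' T, by rw [mul_neg, hmul, neg_neg],
    by rw [neg_mul, hmul, neg_neg]⟩
  exact ⟨g, mem_iso.2 fun v => by show Q (LinearMap.toMatrix' T *ᵥ v) = Q v; rw [hval, hQ], hval,
    fun v => by show LinearMap.toMatrix' T *ᵥ (LinearMap.toMatrix' T *ᵥ v) = -v; rw [hval, hval, hT]⟩

/-- The scalar squares of isometries are `1` and `-1`. -/
theorem sq_scalar [Fintype F] (C : Space Q B) (hn : 1 ≤ Fintype.card ι) {g : GL ι F} (hg : g ∈ isometryGroup F Q)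
    {z : F} (hz : ((g ^ 2 : GL ι F) : Matrix ι ι F) = z • (1 : Matrix ι ι F)) :
    (g ^ 2 = 1) ∨ ∀ x, g.val *ᵥ (g.val *ᵥ x) = -x := by
  have hact : ∀ x, g.val *ᵥ (g.val *ᵥ x) = z • x := fun x => by
    rw [Matrix.mulVec_mulVec, ← pow_two, ← Units.val_pow_eq_pow_val, hz, Matrix.smul_mulVec, Matrix.one_mulVec]
  obtain ⟨v, hv⟩ := Cfsg.Lib.H3.exists_nonsing_vec C (by omega)
  have h1 := mem_iso.1 hg (g.val *ᵥ v)
  rw [hact, C.smul, mem_iso.1 hg] at h1
  rcases mul_self_eq_one_iff.1 (mul_right_cancel₀ hv (by rw [one_mul, ← pow_two]; exact h1) : z * z = 1) with rfl | rfl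
  · exact Or.inl (Units.ext (by rw [hz, one_smul, Units.val_one]))
  · exact Or.inr fun x => by rw [hact, neg_one_smul]

theorem isSquare_mul_of_not [Fintype F] (h2 : (2 : F) ≠ 0) {x y : F} (hx : ¬IsSquare x) (hy : ¬IsSquare y) :
    IsSquare (x * y) := by
  have hx0 : x ≠ 0 := fun h => hx (h ▸ IsSquare.zero)
  have hy0 : y ≠ 0 := fun h => hy (h ▸ IsSquare.zero)
  rw [← sqSign_eq_one, sqSign_mul h2 hx0 hy0, sqSign, sqSign, if_neg hx, if_neg hy, neg_mul_neg, one_mul]

end Cfsg.Lib.Linear.IsoFix
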