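import Cfsg.Agent.Lib.Linear.HermParabolic

/-!
# Isotropic vectors for the standard Hermitian form by Chevalley-Warning

In a subspace of dimension at least `2 b` some non-zero `v` has `h (M ^ j v, v) = 0` for all `j < b`.
-/

set_option autoImplicit false

namespace Cfsg.Lib.Linear.IsoFix

open Module Cfsg.Lib.Linear.Herm
open scoped Matrix

variable {F : Type*} [Field F] [Fintype F] {q : ℕ}

set_option maxHeartbeats 1000000 in
theorem exists_sing_cyclic (hF : Fintype.card F = q ^ 2) {n : ℕ} (M : Matrix (Fin n) (Fin n) F)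
    (U : Submodule F (Fin n → F)) {b : ℕ} (hb : 1 ≤ b) (hU : 2 * b ≤ finrank F U) :
    ∃ v ∈ U, v ≠ 0 ∧ ∀ j < b, hB hF n ((M ^ j) *ᵥ v) v = 0 := by
  classical
  let σ := frob hF
  let K : Subfield F := RingHom.eqLocusField σ (RingHom.id F)
  haveI : Fintype K := Fintype.ofFinite _
  have hK : ∀ a : F, a ∈ K ↔ σ a = a := fun a => Iff.rfl
  obtain ⟨w, hw⟩ : ∃ w : F, σ w ≠ w := by
    by_contra h
    push Not at h
    exact frob_ne_id hF (RingHom.ext h)
  have hw' : σ w - w ≠ 0 := sub_ne_zero.2 hw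
  -- coordinates over the subfield
  let cy : F → K := fun a => ⟨(σ a - a) / (σ w - w), (hK _).2 (by
    rw [map_div₀, map_sub, map_sub, frob_frob hF, frob_frob hF, ← neg_div_neg_eq, neg_sub, neg_sub])⟩
  let cx : F → K := fun a => ⟨a - (σ a - a) / (σ w - w) * w, (hK _).2 (by
    rw [map_sub, map_mul, show σ ((σ a - a) / (σ w - w)) = (σ a - a) / (σ w - w) from (hK _).1 (cy a).2]
    field_simp
    ring)⟩
  have hdec : ∀ a : F, a = (cx a : F) + (cy a : F) * w := fun a => (sub_add_cancel _ _).symm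
  have hzero : ∀ x y : K, (x : F) + (y : F) * w = 0 → x = 0 ∧ y = 0 := fun x y h => by
    have h1 := congrArg σ h
    rw [map_add, map_mul, map_zero, (hK _).1 x.2, (hK _).1 y.2] at h1
    have h2 : (y : F) * (σ w - w) = 0 := by linear_combination h1 - h
    have hy : (y : F) = 0 := (mul_eq_zero.1 h2).resolve_right hw'
    refine ⟨Subtype.ext ?_, Subtype.ext hy⟩
    rw [hy, zero_mul, add_zero] at h
    exact h
  -- parameters
  let e := Module.finBasis F U
  let ε : Fin (finrank F U) × Fin 2 → (Fin n → F) := fun s => (if s.2 = 0 then 1 else w) • ((e s.1 : U) : Fin n → F)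
  let vec : (Fin (finrank F U) × Fin 2 → K) → (Fin n → F) := fun t => ∑ s, (t s : F) • ε s
  have hvecU : ∀ t, vec t ∈ U := fun t => U.sum_mem fun s _ => U.smul_mem _ (U.smul_mem _ (e s.1).2)
  have hvec0 : ∀ t, vec t = 0 → t = 0 := fun t h => by
    have h1 : vec t = ((∑ l, ((t (l, 0) : F) + (t (l, 1) : F) * w) • e l : U) : Fin n → F) := by
      rw [Submodule.coe_sum]
      simp only [vec, ε, Fintype.sum_prod_type, Fin.sum_univ_two, Submodule.coe_smul, smul_smul, ← add_smul]
      simp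
    have h2 : (∑ l, ((t (l, 0) : F) + (t (l, 1) : F) * w) • e l : U) = 0 := Subtype.ext (by rw [← h1, h]; rfl)
    have h3 := Fintype.linearIndependent_iff.1 e.linearIndependent _ h2
    funext ⟨l, i⟩
    obtain ⟨hx, hy⟩ := hzero _ _ (h3 l)
    fin_cases i
    · exact hx
    · exact hy
  let A : ℕ → (Fin (finrank F U) × Fin 2) → (Fin (finrank F U) × Fin 2) → F := fun j s s' => hB hF n ((M ^ j) *ᵥ ε s) (ε s')
  have hform : ∀ j t, hB hF n ((M ^ j) *ᵥ vec t) (vec t) = ∑ s, ∑ s', (t s : F) * (t s' : F) * A j s s' := fun j t => by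
    rw [show (M ^ j) *ᵥ vec t = ∑ s, (t s : F) • ((M ^ j) *ᵥ ε s) by
      simp only [vec, Matrix.mulVec_sum, Matrix.mulVec_smul]]
    simp only [vec, map_sum, map_smul, LinearMap.map_smulₛₗ, LinearMap.sum_apply, LinearMap.smul_apply, smul_eq_mul,
      Finset.mul_sum, A, RingHom.id_apply]
    rw [Finset.sum_comm]
    refine Finset.sum_congr rfl fun s _ => Finset.sum_congr rfl fun s' _ => ?_
    rw [show σ (t s : F) = (t s : F) from (hK _).1 (t s).2]
    ring
  -- equations
  let co : Fin b × Fin 2 → (Fin (finrank F U) × Fin 2) → (Fin (finrank F U) × Fin 2) → K := fun i s s' =>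
    if i.2 = 0 then cx (A i.1 s s') else cy (A i.1 s s')
  let P : Fin b × Fin 2 → MvPolynomial (Fin (finrank F U) × Fin 2) K := fun i =>
    ∑ s, ∑ s', MvPolynomial.C (co i s s') * MvPolynomial.X s * MvPolynomial.X s'
  have hdeg : ∀ i, (P i).totalDegree ≤ 2 := fun i => by
    refine (MvPolynomial.totalDegree_finsetSum _ _).trans (Finset.sup_le fun s _ => ?_)
    refine (MvPolynomial.totalDegree_finsetSum _ _).trans (Finset.sup_le fun s' _ => ?_)
    have h1 := MvPolynomial.totalDegree_mul (MvPolynomial.C (co i s s') * MvPolynomial.X s) (MvPolynomial.X s')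
    have h2 := MvPolynomial.totalDegree_mul (MvPolynomial.C (co i s s')) (MvPolynomial.X s)
    rw [MvPolynomial.totalDegree_X, MvPolynomial.totalDegree_C] at h2
    rw [MvPolynomial.totalDegree_X] at h1
    omega
  let S : Finset (Fin b × Fin 2) := Finset.univ.erase (⟨0, hb⟩, 1)
  have hS : S.card = 2 * b - 1 := by
    rw [Finset.card_erase_of_mem (Finset.mem_univ _), Finset.card_univ, Fintype.card_prod, Fintype.card_fin, Fintype.card_fin,
      mul_comm]
  have hlt : ∑ i ∈ S, (P i).totalDegree < Fintype.card (Fin (finrank F U) × Fin 2) := by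
    refine lt_of_le_of_lt (Finset.sum_le_sum fun i _ => hdeg i) ?_
    rw [Finset.sum_const, hS, smul_eq_mul, Fintype.card_prod, Fintype.card_fin, Fintype.card_fin]
    omega
  obtain ⟨p, hp⟩ := CharP.exists K
  haveI : Fact p.Prime := ⟨CharP.char_is_prime K p⟩
  have hdvd := char_dvd_card_solutions_of_sum_lt p hlt
  have hP : ∀ i t, MvPolynomial.eval t (P i) = ∑ s, ∑ s', t s * t s' * co i s s' := fun i t => by
    simp only [P, map_sum, map_mul, MvPolynomial.eval_C, MvPolynomial.eval_X]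
    exact Finset.sum_congr rfl fun s _ => Finset.sum_congr rfl fun s' _ => by ring
  obtain ⟨t, ht0, ht⟩ : ∃ t, t ≠ 0 ∧ ∀ i ∈ S, MvPolynomial.eval t (P i) = 0 := by
    replace hdvd : p ∣ Nat.card {t // ∀ i ∈ S, MvPolynomial.eval t (P i) = 0} := by
      convert hdvd using 1
      exact @Nat.card_eq_fintype_card _ (_)
    haveI : Nonempty {t // ∀ i ∈ S, MvPolynomial.eval t (P i) = 0} := ⟨⟨0, fun i _ => by rw [hP]; simp⟩⟩
    have h1 := lt_of_lt_of_le (Fact.out : p.Prime).one_lt (Nat.le_of_dvd Nat.card_pos hdvd)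
    haveI := Finite.one_lt_card_iff_nontrivial.1 h1
    obtain ⟨⟨t, ht⟩, hne⟩ := exists_ne (⟨0, fun i _ => by rw [hP]; simp⟩ : {t // ∀ i ∈ S, MvPolynomial.eval t (P i) = 0})
    exact ⟨t, fun h => hne (Subtype.ext h), ht⟩
  refine ⟨vec t, hvecU t, fun h => ht0 (hvec0 t h), fun j hj => ?_⟩
  have hval : hB hF n ((M ^ j) *ᵥ vec t) (vec t) =
      ((∑ s, ∑ s', t s * t s' * co (⟨j, hj⟩, 0) s s' : K) : F) +
        ((∑ s, ∑ s', t s * t s' * co (⟨j, hj⟩, 1) s s' : K) : F) * w := by
    rw [hform]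
    push_cast
    simp only [Finset.sum_mul, ← Finset.sum_add_distrib]
    refine Finset.sum_congr rfl fun s _ => Finset.sum_congr rfl fun s' _ => ?_
    show _ = (t s : F) * (t s' : F) * (cx (A j s s') : F) + (t s : F) * (t s' : F) * (cy (A j s s') : F) * w
    linear_combination ((t s : F) * (t s' : F)) * hdec (A j s s')
  have h1 : (∑ s, ∑ s', t s * t s' * co (⟨j, hj⟩, 0) s s' : K) = 0 := by
    rw [← hP]
    exact ht _ (Finset.mem_erase.2 ⟨fun h => by simp at h, Finset.mem_univ _⟩)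
  rw [h1, ZeroMemClass.coe_zero, zero_add] at hval
  rcases Nat.eq_zero_or_pos j with rfl | hjp
  · rw [pow_zero, Matrix.one_mulVec] at hval ⊢
    have h2 : σ (hB hF n (vec t) (vec t)) = hB hF n (vec t) (vec t) := (hB_isSymm hF n).eq _ _
    rw [hval, map_mul, show σ ((∑ s, ∑ s', t s * t s' * co (⟨0, hj⟩, 1) s s' : K) : F) = _ from (hK _).1 (SetLike.coe_mem _)] at h2
    have h3 : ((∑ s, ∑ s', t s * t s' * co (⟨0, hj⟩, 1) s s' : K) : F) * (σ w - w) = 0 := by linear_combination h2
    rw [hval, (mul_eq_zero.1 h3).resolve_right hw', zero_mul]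
  · rw [hval, show (∑ s, ∑ s', t s * t s' * co (⟨j, hj⟩, 1) s s' : K) = 0 by
      rw [← hP]
      exact ht _ (Finset.mem_erase.2 ⟨fun h => by simp [Fin.ext_iff] at h; omega, Finset.mem_univ _⟩),
      ZeroMemClass.coe_zero, zero_mul]

/-- Totally isotropic subspaces inside a large subspace. -/
theorem exists_ti_in (hF : Fintype.card F = q ^ 2) {n : ℕ} (E : Submodule F (Fin n → F)) :
    ∀ k, 2 * k ≤ finrank F E → ∃ W : Submodule F (Fin n → F), W ≤ E ∧ finrank F W = k ∧
      ∀ u ∈ W, ∀ v ∈ W, hB hF n u v = 0 := by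
  classical
  intro k
  induction k with
  | zero => exact fun _ => ⟨⊥, bot_le, finrank_bot F _, fun u hu v _ => by
      rw [(Submodule.mem_bot F).1 hu, map_zero, LinearMap.zero_apply]⟩
  | succ k ih =>
    intro hk
    obtain ⟨W, hWE, hWk, hW⟩ := ih (by omega)
    obtain ⟨W', hW'⟩ := Submodule.exists_isCompl W
    let U := (perp hF W ⊓ E) ⊓ W'
    have hU : 2 * 1 ≤ finrank F U := by
      have h1 := finrank_perp hF W
      have h2 := Submodule.finrank_sup_add_finrank_inf_eq (perp hF W) E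
      have h3 := Submodule.finrank_sup_add_finrank_inf_eq (perp hF W ⊓ E) W'
      have h4 := Submodule.finrank_le (perp hF W ⊔ E)
      have h5 := Submodule.finrank_le ((perp hF W ⊓ E) ⊔ W')
      have h6 := Submodule.finrank_add_eq_of_isCompl hW'
      rw [finrank_fin_fun] at h4 h5 h6
      show 2 * 1 ≤ finrank F ↥((perp hF W ⊓ E) ⊓ W')
      omega
    obtain ⟨v, hv, hv0, hvv⟩ := exists_sing_cyclic hF (1 : Matrix (Fin n) (Fin n) F) U le_rfl hU
    have hvv' : hB hF n v v = 0 := by simpa using hvv 0 one_pos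
    have hvW : v ∉ W := fun h => hv0 (Submodule.disjoint_def.1 hW'.disjoint v h hv.2)
    refine ⟨W ⊔ (F ∙ v), sup_le hWE ((Submodule.span_singleton_le_iff_mem v E).2 hv.1.2), ?_, ?_⟩
    · rw [Submodule.finrank_sup_span_singleton hvW, hWk]
    · intro x hx y hy
      obtain ⟨x₁, hx₁, x₂, hx₂, rfl⟩ := Submodule.mem_sup.1 hx
      obtain ⟨y₁, hy₁, y₂, hy₂, rfl⟩ := Submodule.mem_sup.1 hy
      obtain ⟨a, rfl⟩ := Submodule.mem_span_singleton.1 hx₂
      obtain ⟨c, rfl⟩ := Submodule.mem_span_singleton.1 hy₂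
      simp only [map_add, map_smul, LinearMap.map_smulₛₗ, LinearMap.add_apply, LinearMap.smul_apply, hW _ hx₁ _ hy₁,
        hv.1.1 _ hx₁, hB_symm_zero hF (hv.1.1 _ hy₁), hvv']
      simp

end Cfsg.Lib.Linear.IsoFix
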