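import Cfsg.Agent.Lib.Linear.IsotropicFix.Unitary
import Cfsg.Agent.Lib.Linear.IsotropicFix.UnitaryCW

/-!
# Complementary totally isotropic pairs in unitary spaces

Hyperbolic frames, transitivity of the special unitary group on ordered pairs, and the linear group of one
member inside the stabiliser.
-/

set_option autoImplicit false

universe u

namespace Cfsg.Lib.Linear.IsoFix

open Module Cfsg.Lib.Linear.Herm
open scoped Matrix

variable {F : Type u} [Field F] [Fintype F] {q : ℕ}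

/-- A pair of complementary totally isotropic subspaces. -/
structure IsPair (hF : Fintype.card F = q ^ 2) {n : ℕ} (m : ℕ) (W W' : Submodule F (Fin n → F)) : Prop where
  dim : finrank F W = m
  dim' : finrank F W' = m
  ti : ∀ u ∈ W, ∀ v ∈ W, hB hF n u v = 0
  ti' : ∀ u ∈ W', ∀ v ∈ W', hB hF n u v = 0
  compl : IsCompl W W'

theorem IsPair.swap {hF : Fintype.card F = q ^ 2} {n m : ℕ} {W W' : Submodule F (Fin n → F)}
    (h : IsPair hF m W W') : IsPair hF m W' W :=
  ⟨h.dim', h.dim, h.ti', h.ti, h.compl.symm⟩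

/-- The Gram matrix of a hyperbolic frame. -/
def pairJ (F : Type u) [Field F] (m : ℕ) : Matrix (Fin m ⊕ Fin m) (Fin m ⊕ Fin m) F :=
  Matrix.fromBlocks 0 1 1 0

/-- A norm-one element is a quotient `a / a ^ q`. -/
theorem exists_div_frob (hF : Fintype.card F = q ^ 2) {z : F} (hz : z ^ (q + 1) = 1) :
    ∃ a : Fˣ, (a : F) * frob hF ((a⁻¹ : Fˣ) : F) = z := by
  have hq := two_le_q hF
  have hz0 : z ≠ 0 := fun h => by rw [h, zero_pow (Nat.add_one_ne_zero q)] at hz; exact zero_ne_one hz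
  have heq : (powMonoidHom (q - 1) : Fˣ →* Fˣ).range = (powMonoidHom (q + 1) : Fˣ →* Fˣ).ker := by
    refine Subgroup.eq_of_le_of_card_ge ?_ ?_
    · rintro _ ⟨x, rfl⟩
      rw [MonoidHom.mem_ker, powMonoidHom_apply, powMonoidHom_apply, ← pow_mul, mul_comm, ← card_units_sq hF]
      exact pow_card_eq_one'
    · have h := Subgroup.card_mul_index (powMonoidHom (q - 1) : Fˣ →* Fˣ).ker
      rw [IsCyclic.card_powMonoidHom_ker, Subgroup.index_ker, card_units_sq hF, Nat.gcd_mul_left_left, mul_comm] at h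
      rw [card_norm_one hF]
      exact (Nat.eq_of_mul_eq_mul_right (show 0 < q - 1 by omega) h).ge
  obtain ⟨x, hx⟩ : Units.mk0 z hz0 ∈ (powMonoidHom (q - 1) : Fˣ →* Fˣ).range := by
    rw [heq, MonoidHom.mem_ker, powMonoidHom_apply]
    exact Units.ext (by rw [Units.val_pow_eq_pow_val, Units.val_mk0, hz, Units.val_one])
  refine ⟨x⁻¹, ?_⟩
  rw [inv_inv, frob_apply, Units.val_inv_eq_inv_val]
  have h1 : (x : F) ^ (q - 1) = z := by simpa using congrArg Units.val hx
  rw [← h1, show q = q - 1 + 1 by omega, pow_succ']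
  rw [inv_mul_cancel_left₀ x.ne_zero]
  congr 1

/-- A hyperbolic frame of a pair. -/
theorem exists_frame (hF : Fintype.card F = q ^ 2) {n m : ℕ} {W W' : Submodule F (Fin n → F)}
    (h : IsPair hF m W W') :
    ∃ b : Basis (Fin m ⊕ Fin m) F (Fin n → F), (∀ i, b (Sum.inl i) ∈ W) ∧ (∀ i, b (Sum.inr i) ∈ W') ∧
      W ≤ Submodule.span F (Set.range fun i => b (Sum.inl i)) ∧
      W' ≤ Submodule.span F (Set.range fun i => b (Sum.inr i)) ∧
      ∀ k l, hB hF n (b k) (b l) = pairJ F m k l := by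
  classical
  let e : Basis (Fin m) F W := finBasisOfFinrankEq F W h.dim
  let Φ : W' →ₗ[F] (Fin m → F) := (LinearMap.pi fun i => hB hF n ((e i : W) : Fin n → F)).comp W'.subtype
  have hΦ : ∀ (v : W') i, Φ v i = hB hF n ((e i : W) : Fin n → F) (v : Fin n → F) := fun v i => rfl
  have hinj : Function.Injective Φ := by
    rw [injective_iff_map_eq_zero]
    intro v hv
    refine Subtype.ext ((hB_nondegenerate hF n).1 _ fun x => ?_)
    obtain ⟨w, hw, w', hw', rfl⟩ := Submodule.mem_sup.1 (h.compl.sup_eq_top ▸ Submodule.mem_top : x ∈ W ⊔ W')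
    have h1 : (hB hF n (v : Fin n → F)).comp W.subtype = 0 := e.ext fun i =>
      hB_symm_zero hF (congrFun hv i)
    rw [map_add, h.ti' _ v.2 _ hw', add_zero]
    exact LinearMap.congr_fun h1 ⟨w, hw⟩
  let Φe : W' ≃ₗ[F] (Fin m → F) := LinearEquiv.ofBijective Φ
    ⟨hinj, (LinearMap.injective_iff_surjective_of_finrank_eq_finrank (by rw [h.dim', finrank_fin_fun])).1 hinj⟩
  let f : Basis (Fin m) F W' := (Pi.basisFun F (Fin m)).map Φe.symm
  have hef : ∀ i j, hB hF n ((e i : W) : Fin n → F) ((f j : W') : Fin n → F) = if i = j then 1 else 0 := fun i j => by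
    rw [← hΦ, show Φ (f j) = Φe (Φe.symm (Pi.basisFun F (Fin m) j)) from rfl, LinearEquiv.apply_symm_apply,
      Pi.basisFun_apply, Pi.single_apply]
  let b : Basis (Fin m ⊕ Fin m) F (Fin n → F) := (e.prod f).map (Submodule.prodEquivOfIsCompl W W' h.compl)
  have hbl : ∀ i, b (Sum.inl i) = ((e i : W) : Fin n → F) := fun i => by
    simp [b]
  have hbr : ∀ i, b (Sum.inr i) = ((f i : W') : Fin n → F) := fun i => by
    simp [b]
  have hspan : ∀ {P : Submodule F (Fin n → F)} (c : Basis (Fin m) F P) (v : Fin m → Fin n → F),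
      (∀ i, v i = ((c i : P) : Fin n → F)) → P ≤ Submodule.span F (Set.range v) := fun {P} c v hv x hx => by
    rw [show x = ((⟨x, hx⟩ : P) : Fin n → F) from rfl, ← c.sum_repr ⟨x, hx⟩, Submodule.coe_sum]
    exact Submodule.sum_mem _ fun i _ => Submodule.smul_mem _ _ (Submodule.subset_span ⟨i, hv i⟩)
  refine ⟨b, fun i => hbl i ▸ (e i).2, fun i => hbr i ▸ (f i).2, hspan e _ hbl, hspan f _ hbr, fun k l => ?_⟩
  rcases k with i | i <;> rcases l with j | j
  · rw [hbl, hbl, h.ti _ (e i).2 _ (e j).2]; rfl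
  · rw [hbl, hbr, hef]; simp [pairJ, Matrix.one_apply]
  · rw [hbr, hbl, ← (hB_isSymm hF n).eq, hef, apply_ite (frob hF), map_one, map_zero]
    simp [pairJ, Matrix.one_apply, eq_comm]
  · rw [hbr, hbr, h.ti' _ (f i).2 _ (f j).2]; rfl

/-- The value of the form on two combinations. -/
theorem hB_sum (hF : Fintype.card F = q ^ 2) {n : ℕ} {κ : Type} [Fintype κ] (v : κ → Fin n → F) (a c : κ → F) :
    hB hF n (∑ k, a k • v k) (∑ l, c l • v l) = ∑ k, ∑ l, frob hF (a k) * hB hF n (v k) (v l) * c l := by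
  simp only [map_sum, LinearMap.sum_apply, LinearMap.map_smulₛₗ, LinearMap.smul_apply, smul_eq_mul, RingHom.id_apply,
    map_smul, Finset.mul_sum]
  rw [Finset.sum_comm]
  exact Finset.sum_congr rfl fun k _ => Finset.sum_congr rfl fun l _ => by ring

/-- Change of frame by a matrix preserving the Gram matrix. -/
theorem isU_of_frame (hF : Fintype.card F = q ^ 2) {n m : ℕ} (b c : Basis (Fin m ⊕ Fin m) F (Fin n → F))
    (hb : ∀ k l, hB hF n (b k) (b l) = pairJ F m k l) (hc : ∀ k l, hB hF n (c k) (c l) = pairJ F m k l)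
    (X : Matrix (Fin m ⊕ Fin m) (Fin m ⊕ Fin m) F) (hX : adj hF X * pairJ F m * X = pairJ F m) :
    IsU hF (LinearMap.toMatrix' (Matrix.toLin b c X)) := by
  classical
  rw [isU_iff]
  intro u v
  rw [LinearMap.toMatrix'_mulVec, LinearMap.toMatrix'_mulVec]
  set L := Matrix.toLin b c X
  have hbb : ∀ k l, hB hF n (L (b k)) (L (b l)) = hB hF n (b k) (b l) := fun k l => by
    rw [Matrix.toLin_self, Matrix.toLin_self, hB_sum, hb, ← hX, Matrix.mul_assoc, Matrix.mul_apply]
    refine Finset.sum_congr rfl fun i _ => ?_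
    rw [Matrix.mul_apply, Finset.mul_sum]
    refine Finset.sum_congr rfl fun j _ => ?_
    rw [hc, mul_assoc]
    rfl
  have h1 : ∀ k w, hB hF n (L (b k)) (L w) = hB hF n (b k) w := fun k w => by
    have : (hB hF n (L (b k))).comp L = hB hF n (b k) := b.ext fun l => hbb k l
    exact LinearMap.congr_fun this w
  have h2 : ((hB hF n).flip (L v)).comp L = (hB hF n).flip v := b.ext fun k => h1 k v
  exact LinearMap.congr_fun h2 u

/-- The block matrix of an element of the linear group of one member. -/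
noncomputable def pairHom (hF : Fintype.card F = q ^ 2) (m : ℕ) :
    GL (Fin m) F →* Matrix (Fin m ⊕ Fin m) (Fin m ⊕ Fin m) F where
  toFun A := Matrix.fromBlocks A.val 0 0 (adj hF (A⁻¹).val)
  map_one' := by simp [adj_one]
  map_mul' A B := by simp [Matrix.fromBlocks_multiply, adj_mul, mul_inv_rev]

theorem pairHom_adj (hF : Fintype.card F = q ^ 2) {m : ℕ} (A : GL (Fin m) F) :
    adj hF (pairHom hF m A) * pairJ F m * pairHom hF m A = pairJ F m := by
  have h : adj hF (pairHom hF m A) = Matrix.fromBlocks (adj hF A.val) 0 0 (A⁻¹).val := by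
    show (Matrix.map (Matrix.fromBlocks _ 0 0 _) (frob hF))ᵀ = _
    rw [Matrix.fromBlocks_map, Matrix.fromBlocks_transpose]
    simp only [Matrix.map_zero _ (map_zero (frob hF)), Matrix.transpose_zero]
    congr 1
    exact adj_adj hF _
  rw [h, show pairHom hF m A = Matrix.fromBlocks A.val 0 0 (adj hF (A⁻¹).val) from rfl, pairJ,
    Matrix.fromBlocks_multiply, Matrix.fromBlocks_multiply]
  simp [← adj_mul, adj_one, ← Units.val_mul]

theorem det_adj (hF : Fintype.card F = q ^ 2) {ι : Type} [Fintype ι] [DecidableEq ι] (M : Matrix ι ι F) :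
    (adj hF M).det = frob hF M.det := by
  rw [adj, Matrix.det_transpose]
  exact ((frob hF).map_det M).symm

theorem isU_unit (hF : Fintype.card F = q ^ 2) {n : ℕ} {M : Matrix (Fin n) (Fin n) F} (hM : IsU hF M) : IsUnit M :=
  IsUnit.of_mul_eq_one (adj hF M) (mul_eq_one_comm.1 hM)

theorem det_isU (hF : Fintype.card F = q ^ 2) {n : ℕ} {M : Matrix (Fin n) (Fin n) F} (hM : IsU hF M) :
    M.det ^ (q + 1) = 1 := by
  have h := congrArg Matrix.det (show adj hF M * M = 1 from hM)
  rw [Matrix.det_mul, Matrix.det_one, det_adj, frob_apply, ← pow_succ] at h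
  exact h

/-- A matrix of frame change maps the members onto the members. -/
theorem map_member (hF : Fintype.card F = q ^ 2) {n m : ℕ} {b c : Basis (Fin m ⊕ Fin m) F (Fin n → F)}
    (A : GL (Fin m) F) {W W' Z Z' : Submodule F (Fin n → F)}
    (hbW : W ≤ Submodule.span F (Set.range fun i => b (Sum.inl i)))
    (hbW' : W' ≤ Submodule.span F (Set.range fun i => b (Sum.inr i)))
    (hcZ : ∀ i, c (Sum.inl i) ∈ Z) (hcZ' : ∀ i, c (Sum.inr i) ∈ Z') :
    (∀ x ∈ W, Matrix.toLin b c (pairHom hF m A) x ∈ Z) ∧ ∀ x ∈ W', Matrix.toLin b c (pairHom hF m A) x ∈ Z' := by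
  classical
  constructor
  · intro x hx
    refine (Submodule.span_le.2 ?_ : _ ≤ Z.comap (Matrix.toLin b c (pairHom hF m A))) (hbW hx)
    rintro _ ⟨i, rfl⟩
    rw [SetLike.mem_coe, Submodule.mem_comap, Matrix.toLin_self, Fintype.sum_sum_type]
    refine Z.add_mem (Submodule.sum_mem _ fun k _ => Z.smul_mem _ (hcZ k)) ?_
    rw [Finset.sum_eq_zero fun k _ => by simp [pairHom]]
    exact Z.zero_mem
  · intro x hx
    refine (Submodule.span_le.2 ?_ : _ ≤ Z'.comap (Matrix.toLin b c (pairHom hF m A))) (hbW' hx)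
    rintro _ ⟨i, rfl⟩
    rw [SetLike.mem_coe, Submodule.mem_comap, Matrix.toLin_self, Fintype.sum_sum_type]
    refine Z'.add_mem ?_ (Submodule.sum_mem _ fun k _ => Z'.smul_mem _ (hcZ' k))
    rw [Finset.sum_eq_zero fun k _ => by simp [pairHom]]
    exact Z'.zero_mem

/-- The special unitary group is transitive on ordered pairs. -/
theorem exists_pair_map (hF : Fintype.card F = q ^ 2) {n m : ℕ} (hm : 1 ≤ m) {W W' Z Z' : Submodule F (Fin n → F)}
    (h : IsPair hF m W W') (h' : IsPair hF m Z Z') :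
    ∃ M : Matrix (Fin n) (Fin n) F, IsU hF M ∧ M.det = 1 ∧
      W.map (Matrix.toLin' M) = Z ∧ W'.map (Matrix.toLin' M) = Z' := by
  classical
  obtain ⟨b, -, -, hbW, hbW', hb⟩ := exists_frame hF h
  obtain ⟨c, hcZ, hcZ', -, -, hc⟩ := exists_frame hF h'
  have hU : ∀ A, IsU hF (LinearMap.toMatrix' (Matrix.toLin b c (pairHom hF m A))) := fun A =>
    isU_of_frame hF b c hb hc _ (pairHom_adj hF A)
  have h1 := det_isU hF (hU 1)
  obtain ⟨a, ha⟩ := exists_div_frob hF (z := ((LinearMap.toMatrix' (Matrix.toLin b c (pairHom hF m 1))).det)⁻¹)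
    (by rw [inv_pow, h1, inv_one])
  let A : GL (Fin m) F := Units.map (Matrix.diagonalRingHom (Fin m) F).toMonoidHom
    (MulEquiv.piUnits.symm (Function.update (1 : Fin m → Fˣ) ⟨0, hm⟩ a))
  have hA : A.val.det = (a : F) := by
    show (Matrix.diagonal _).det = _
    rw [Matrix.det_diagonal, Finset.prod_eq_single (⟨0, hm⟩ : Fin m)]
    · simp [MulEquiv.piUnits]
    · intro k _ hk
      simp [MulEquiv.piUnits, Function.update_of_ne hk]
    · simp
  refine ⟨LinearMap.toMatrix' (Matrix.toLin b c (pairHom hF m A)), hU A, ?_, ?_⟩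
  · have h3 : Matrix.toLin b c (pairHom hF m A) =
        Matrix.toLin b c (pairHom hF m 1) ∘ₗ Matrix.toLin b b (pairHom hF m A) := by
      rw [← Matrix.toLin_mul b b c, ← map_mul, one_mul]
    rw [h3, LinearMap.toMatrix'_comp, Matrix.det_mul,
      LinearMap.det_toMatrix', LinearMap.det_toMatrix', LinearMap.det_toLin,
      show (pairHom hF m A).det = (a : F) * frob hF ((a⁻¹ : Fˣ) : F) from ?_, ha]
    · rw [← LinearMap.det_toMatrix', mul_inv_cancel₀]
      intro h0
      rw [h0, zero_pow (Nat.add_one_ne_zero q)] at h1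
      exact zero_ne_one h1
    · show (Matrix.fromBlocks A.val 0 0 (adj hF (A⁻¹).val)).det = _
      rw [Matrix.det_fromBlocks_zero₂₁, det_adj, hA]
      congr 2
      have h4 := congrArg Matrix.det A.inv_mul
      rw [Matrix.det_mul, Matrix.det_one, hA] at h4
      rw [Units.val_inv_eq_inv_val]
      exact eq_inv_of_mul_eq_one_left h4
  · have hmem := map_member hF (c := c) A hbW hbW' hcZ hcZ'
    have hinj : Function.Injective (Matrix.toLin' (LinearMap.toMatrix' (Matrix.toLin b c (pairHom hF m A)))) :=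
      fun x y e => (Matrix.mulVec_injective_iff_isUnit.2 (isU_unit hF (hU A))) (by
        simpa only [Matrix.toLin'_apply] using e)
    constructor
    · refine Submodule.eq_of_le_of_finrank_eq ?_ ?_
      · rintro _ ⟨x, hx, rfl⟩
        rw [Matrix.toLin'_toMatrix']
        exact hmem.1 x hx
      · rw [← (Submodule.equivMapOfInjective _ hinj W).finrank_eq, h.dim, h'.dim]
    · refine Submodule.eq_of_le_of_finrank_eq ?_ ?_
      · rintro _ ⟨x, hx, rfl⟩
        rw [Matrix.toLin'_toMatrix']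
        exact hmem.2 x hx
      · rw [← (Submodule.equivMapOfInjective _ hinj W').finrank_eq, h.dim', h'.dim']

/-- Membership in `GU`. -/
theorem mem_GU_iff (hF : Fintype.card F = q ^ 2) {n : ℕ} (g : GL (Fin n) F) :
    g ∈ Cfsg.GU n F q ↔ IsU hF (g : Matrix (Fin n) (Fin n) F) := by
  rw [isU_iff]
  exact ⟨fun h u v => h v u, fun h u v => h v u⟩

theorem mem_sl_iff {n : ℕ} (g : GL (Fin n) F) :
    g ∈ Cfsg.Geo.specialLinear (Fin n) F ↔ (g : Matrix (Fin n) (Fin n) F).det = 1 := by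
  rw [Cfsg.Geo.specialLinear, MonoidHom.mem_ker, ← Units.val_eq_one, Matrix.GeneralLinearGroup.val_det_apply]

theorem card_su_gl (hF : Fintype.card F = q ^ 2) {n : ℕ} (hn : 1 ≤ n) :
    (q + 1) * Nat.card ↥(Cfsg.GU n F q ⊓ Cfsg.Geo.specialLinear (Fin n) F) = guCard q n := by
  rw [guCard, ← card_GU hF n, ← card_SU hF hn]
  refine congrArg _ (Nat.card_congr ?_)
  exact
    { toFun := fun g => ⟨⟨g.1.1, (mem_sl_iff g.1).1 g.2.2⟩, fun u v => g.2.1 u v⟩
      invFun := fun x => ⟨Matrix.SpecialLinearGroup.toGL x.1, fun u v => x.2 u v, (mem_sl_iff _).2 x.1.2⟩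
      left_inv := fun g => Subtype.ext (Units.ext rfl)
      right_inv := fun x => Subtype.ext (Subtype.ext rfl) }

/-- The stabiliser of a pair has order a multiple of `|GL_m(q²)| / (q + 1)`. -/
theorem card_gl_dvd (hF : Fintype.card F = q ^ 2) {n m : ℕ} {W W' : Submodule F (Fin n → F)}
    (h : IsPair hF m W W') (H : Subgroup (GL (Fin n) F))
    (hH : ∀ g : GL (Fin n) F, W.map (Matrix.toLin' (g : Matrix (Fin n) (Fin n) F)) ≤ W →
      W'.map (Matrix.toLin' (g : Matrix (Fin n) (Fin n) F)) ≤ W' → g ∈ H) :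
    Nat.card (GL (Fin m) F) ∣
      (q + 1) * Nat.card ↥(H ⊓ (Cfsg.GU n F q ⊓ Cfsg.Geo.specialLinear (Fin n) F)) := by
  classical
  obtain ⟨b, hbi, hbi', hbW, hbW', hb⟩ := exists_frame hF h
  let φ : GL (Fin m) F →* GL (Fin n) F := MonoidHom.toHomUnits
    ((LinearMap.toMatrixAlgEquiv' : _ ≃ₐ[F] Matrix (Fin n) (Fin n) F).toMonoidHom.comp
      ((Matrix.toLinAlgEquiv b).toMonoidHom.comp (pairHom hF m)))
  have hφ : ∀ A, (φ A : Matrix (Fin n) (Fin n) F) = LinearMap.toMatrix' (Matrix.toLin b b (pairHom hF m A)) := fun A => rfl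
  have hφU : ∀ A, φ A ∈ Cfsg.GU n F q := fun A => by
    rw [mem_GU_iff hF, hφ]; exact isU_of_frame hF b b hb hb _ (pairHom_adj hF A)
  have hφH : ∀ A, φ A ∈ H := fun A => by
    have hmem := map_member hF (c := b) A hbW hbW' hbi hbi'
    refine hH _ ?_ ?_
    · rintro _ ⟨x, hx, rfl⟩
      rw [hφ, Matrix.toLin'_toMatrix']
      exact hmem.1 x hx
    · rintro _ ⟨x, hx, rfl⟩
      rw [hφ, Matrix.toLin'_toMatrix']
      exact hmem.2 x hx
  have hinj : Function.Injective φ := fun A B e => by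
    have h1 := congrArg Units.val e
    rw [hφ, hφ] at h1
    have h2 : pairHom hF m A = pairHom hF m B := (Matrix.toLin b b).injective (LinearMap.toMatrix'.injective h1)
    exact Units.ext (congrArg Matrix.toBlocks₁₁ h2)
  let δ : GL (Fin m) F →* Fˣ := (Matrix.GeneralLinearGroup.det).comp φ
  have h1 := Subgroup.card_mul_index δ.ker
  rw [Subgroup.index_ker] at h1
  have h2 : Nat.card δ.range ∣ q + 1 := by
    rw [← card_norm_one hF]
    refine Subgroup.card_dvd_of_le ?_
    rintro _ ⟨A, rfl⟩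
    rw [MonoidHom.mem_ker, powMonoidHom_apply]
    refine Units.ext ?_
    rw [Units.val_pow_eq_pow_val, Units.val_one]
    exact det_isU hF ((mem_GU_iff hF _).1 (hφU A))
  have h3 : Nat.card δ.ker ∣ Nat.card ↥(H ⊓ (Cfsg.GU n F q ⊓ Cfsg.Geo.specialLinear (Fin n) F)) := by
    rw [← Subgroup.card_map_of_injective hinj]
    refine Subgroup.card_dvd_of_le ?_
    rintro _ ⟨A, hA, rfl⟩
    exact ⟨hφH A, hφU A, (mem_sl_iff _).2 (congrArg Units.val (MonoidHom.mem_ker.1 hA))⟩
  rw [← h1, mul_comm (q + 1)]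
  exact Nat.mul_dvd_mul h3 h2

/-- The index of the stabiliser of a pair. -/
theorem dvd_index_pair (hF : Fintype.card F = q ^ 2) {n m : ℕ} (hn : n = 2 * m) (hm : 1 ≤ m)
    {W W' : Submodule F (Fin n → F)} (h : IsPair hF m W W') (H : Subgroup (GL (Fin n) F))
    (hH : ∀ g : GL (Fin n) F, W.map (Matrix.toLin' (g : Matrix (Fin n) (Fin n) F)) ≤ W →
      W'.map (Matrix.toLin' (g : Matrix (Fin n) (Fin n) F)) ≤ W' → g ∈ H) :
    H.relIndex (Cfsg.GU n F q ⊓ Cfsg.Geo.specialLinear (Fin n) F) ∣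
      q ^ (n * (n - 1) / 2) * ∏ l ∈ Finset.range m, (q ^ (2 * l + 1) + 1) := by
  classical
  have hq := two_le_q hF
  set G := Cfsg.GU n F q ⊓ Cfsg.Geo.specialLinear (Fin n) F
  have h1 := Subgroup.card_mul_index (H.subgroupOf G)
  rw [show Nat.card ↥(H.subgroupOf G) = Nat.card ↥(H ⊓ G) by
    rw [← Subgroup.inf_subgroupOf_right]
    exact Nat.card_congr (Subgroup.subgroupOfEquivOfLe inf_le_right).toEquiv] at h1
  obtain ⟨y, hy⟩ := card_gl_dvd hF h H hH
  have h2 := card_su_gl hF (show 1 ≤ n by omega)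
  rw [← h1, ← mul_assoc, hy] at h2
  rw [Matrix.card_GL_field, hF] at h2
  have hprod : ∀ k, ∏ i ∈ Finset.range (2 * k), (if Even i then q ^ (i + 1) + 1 else q ^ (i + 1) - 1) =
      (∏ l ∈ Finset.range k, (q ^ (2 * l + 1) + 1)) * ∏ l ∈ Finset.range k, ((q ^ 2) ^ (l + 1) - 1) := by
    intro k
    induction k with
    | zero => simp
    | succ k ih =>
      rw [mul_add, mul_one, Finset.prod_range_succ, Finset.prod_range_succ, ih, Finset.prod_range_succ,
        Finset.prod_range_succ, if_pos (even_two_mul k), if_neg (Nat.not_even_iff_odd.2 ⟨k, rfl⟩), ← pow_mul,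
        show 2 * k + 1 + 1 = 2 * (k + 1) by ring]
      ring
  have hgl : ∏ i : Fin m, ((q ^ 2) ^ m - (q ^ 2) ^ (i : ℕ)) =
      q ^ (m * (m - 1)) * ∏ l ∈ Finset.range m, ((q ^ 2) ^ (l + 1) - 1) := by
    rw [Fin.prod_univ_eq_prod_range (fun i => (q ^ 2) ^ m - (q ^ 2) ^ i) m, ← Finset.sum_range_id_mul_two m,
      show q ^ ((∑ i ∈ Finset.range m, i) * 2) = ∏ i ∈ Finset.range m, (q ^ 2) ^ i by
        rw [Finset.prod_pow_eq_pow_sum, ← pow_mul, mul_comm],
      ← Finset.prod_range_reflect (fun l => (q ^ 2) ^ (l + 1) - 1) m, ← Finset.prod_mul_distrib]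
    refine Finset.prod_congr rfl fun i hi => ?_
    have := Finset.mem_range.1 hi
    rw [show m - 1 - i + 1 = m - i by omega, Nat.mul_sub, mul_one, ← pow_add, Nat.add_sub_cancel' this.le]
  rw [guCard, hgl] at h2
  have hp := hprod m
  rw [← hn] at hp
  rw [hp] at h2
  have hpos : 0 < ∏ l ∈ Finset.range m, ((q ^ 2) ^ (l + 1) - 1) := Finset.prod_pos fun l _ => by
    have h3 : 2 ≤ (q ^ 2) ^ (l + 1) := le_trans (by nlinarith) (Nat.le_self_pow (Nat.add_one_ne_zero l) (q ^ 2))
    omega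
  refine ⟨q ^ (m * (m - 1)) * y, ?_⟩
  rw [Subgroup.relIndex]
  refine Nat.eq_of_mul_eq_mul_right hpos ?_
  rw [mul_assoc (q ^ (n * (n - 1) / 2)), ← h2]
  ring

/-- In a non-degenerate subspace of dimension `2 a` a totally isotropic `a`-space has a totally isotropic complement. -/
theorem exists_ti_pair (hF : Fintype.card F = q ^ 2) (h2 : (2 : F) ≠ 0) {n a : ℕ} {E : Submodule F (Fin n → F)}
    (hE : ∀ x ∈ E, (∀ y ∈ E, hB hF n x y = 0) → x = 0) (hd : finrank F E = 2 * a) :
    ∃ W W' : Submodule F (Fin n → F), W ≤ E ∧ W' ≤ E ∧ finrank F W = a ∧ finrank F W' = a ∧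
      (∀ u ∈ W, ∀ v ∈ W, hB hF n u v = 0) ∧ (∀ u ∈ W', ∀ v ∈ W', hB hF n u v = 0) ∧ W ⊓ W' = ⊥ := by
  classical
  obtain ⟨W, hWE, hWd, hW⟩ := exists_ti_in hF E a hd.ge
  let e : Basis (Fin a) F W := finBasisOfFinrankEq F W hWd
  let Φ : E →ₗ[F] (Fin a → F) := (LinearMap.pi fun i => hB hF n ((e i : W) : Fin n → F)).comp E.subtype
  have hΦ : ∀ (v : E) i, Φ v i = hB hF n ((e i : W) : Fin n → F) (v : Fin n → F) := fun v i => rfl
  have hsurj : Function.Surjective Φ := by
    rw [← LinearMap.range_eq_top]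
    refine Submodule.eq_top_of_finrank_eq ?_
    have h1 := LinearMap.finrank_range_add_finrank_ker Φ
    have h2 : (LinearMap.ker Φ).map E.subtype ≤ perp hF W ⊓ E := by
      rintro _ ⟨v, hv, rfl⟩
      refine ⟨fun w hw => hB_symm_zero hF ?_, v.2⟩
      have h3 : (hB hF n (v : Fin n → F)).comp W.subtype = 0 := e.ext fun i =>
        hB_symm_zero hF (congrFun (LinearMap.mem_ker.1 hv) i)
      exact LinearMap.congr_fun h3 ⟨w, hw⟩
    have h3 := Submodule.finrank_mono h2
    rw [← (Submodule.equivMapOfInjective _ E.injective_subtype _).finrank_eq] at h3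
    have h4 := Submodule.finrank_sup_add_finrank_inf_eq (perp hF W ⊓ E) (perp hF E)
    have h5 : (perp hF W ⊓ E) ⊓ perp hF E = ⊥ := eq_bot_iff.2 fun x hx =>
      (Submodule.mem_bot F).2 (hE x hx.1.2 fun y hy => hB_symm_zero hF (hx.2 y hy))
    have h6 : (perp hF W ⊓ E) ⊔ perp hF E ≤ perp hF W :=
      sup_le inf_le_left fun x hx w hw => hx w (hWE hw)
    have h7 := Submodule.finrank_mono h6
    have h8 := finrank_perp hF W
    have h9 := finrank_perp hF E
    have h10 := Submodule.finrank_le (LinearMap.range Φ)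
    rw [h5, finrank_bot] at h4
    rw [finrank_fin_fun] at h10 ⊢
    omega
  choose f hf using fun j : Fin a => hsurj (Pi.single j 1)
  have hef : ∀ i j, hB hF n ((e i : W) : Fin n → F) (f j : Fin n → F) = if i = j then 1 else 0 := fun i j => by
    rw [← hΦ, hf, Pi.single_apply]
  let H : Fin a → Fin a → F := fun k j => hB hF n (f k : Fin n → F) (f j : Fin n → F)
  let f' : Fin a → Fin n → F := fun j =>
    (f j : Fin n → F) - (2 : F)⁻¹ • ∑ i, H i j • ((e i : W) : Fin n → F)
  have hsW : ∀ j, (2 : F)⁻¹ • ∑ i, H i j • ((e i : W) : Fin n → F) ∈ W := fun j =>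
    W.smul_mem _ (Submodule.sum_mem _ fun i _ => W.smul_mem _ (e i).2)
  have hef' : ∀ i j, hB hF n ((e i : W) : Fin n → F) (f' j) = if i = j then 1 else 0 := fun i j => by
    simp only [f', map_sub, hef, hW _ (e i).2 _ (hsW j), sub_zero]
  have hfs : ∀ k j, hB hF n (f k : Fin n → F) ((2 : F)⁻¹ • ∑ i, H i j • ((e i : W) : Fin n → F)) = (2 : F)⁻¹ * H k j :=
    fun k j => by
    rw [map_smul, smul_eq_mul, map_sum, Finset.sum_eq_single k (fun i _ hi => ?_) (by simp)]
    · rw [map_smul, smul_eq_mul, ← (hB_isSymm hF n).eq, hef, if_pos rfl, map_one, mul_one]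
    · rw [map_smul, smul_eq_mul, ← (hB_isSymm hF n).eq, hef, if_neg hi, map_zero, mul_zero]
  have hff : ∀ k j, hB hF n (f' k) (f' j) = 0 := fun k j => by
    have h3 : hB hF n ((2 : F)⁻¹ • ∑ i, H i k • ((e i : W) : Fin n → F)) (f j : Fin n → F) = (2 : F)⁻¹ * H k j := by
      rw [← (hB_isSymm hF n).eq, hfs, map_mul, map_inv₀, map_ofNat, (hB_isSymm hF n).eq]
    simp only [f', map_sub, LinearMap.sub_apply, h3, hfs, hW _ (hsW k) _ (hsW j)]
    show H k j - (2 : F)⁻¹ * H k j - ((2 : F)⁻¹ * H k j - 0) = 0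
    field_simp
    ring
  have hli : LinearIndependent F f' := Fintype.linearIndependent_iff.2 fun g hg i => by
    have h1 := congrArg (hB hF n ((e i : W) : Fin n → F)) hg
    simp only [map_sum, map_smul, smul_eq_mul, hef', map_zero] at h1
    simpa using h1
  refine ⟨W, Submodule.span F (Set.range f'), hWE, Submodule.span_le.2 ?_, hWd,
    (finrank_span_eq_card hli).trans (Fintype.card_fin a), hW, ?_, ?_⟩
  · rintro _ ⟨j, rfl⟩
    exact E.sub_mem (f j).2 (hWE (hsW j))
  · intro u hu v hv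
    obtain ⟨g, rfl⟩ := (Submodule.mem_span_range_iff_exists_fun F).1 hu
    obtain ⟨g', rfl⟩ := (Submodule.mem_span_range_iff_exists_fun F).1 hv
    rw [hB_sum]
    simp [hff]
  · refine eq_bot_iff.2 fun x hx => ?_
    obtain ⟨g, hg⟩ := (Submodule.mem_span_range_iff_exists_fun F).1 hx.2
    refine (Submodule.mem_bot F).2 (hg ▸ Finset.sum_eq_zero fun i _ => ?_)
    have h1 := hW _ (e i).2 _ hx.1
    rw [← hg, map_sum] at h1
    simp only [map_smul, smul_eq_mul, hef'] at h1
    rw [Finset.sum_eq_single i (fun k _ hk => by simp [Ne.symm hk]) (by simp)] at h1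
    rw [if_pos rfl, mul_one] at h1
    rw [h1, zero_smul]

end Cfsg.Lib.Linear.IsoFix
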