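import Cfsg.Agent.Lib.Linear.IsotropicFix.Orbits

/-!
# From multiplicity functions to an arithmetical condition on the number of moved orbits
-/

set_option autoImplicit false

namespace Cfsg.Lib.Linear.IsoFix

open Cfsg.Agent.Lib.Linear.PrimeClasses Cfsg.Agent.S5961

/-- The number of orbit pairs always available among `K` orbits (`t` orbits in all). -/
def Jbound (i t K : ℕ) : ℕ := if Even i then (K - t + 1) / 2 else K

/-- For every possible number `K` of moved orbits some `J` pairs of them serve for the subspace. -/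
def Cond (n c i t m : ℕ) (P : ℕ → Prop) : Prop :=
  ∀ K, c * K ≤ n → (c * K < n ∨ P K) →
    ∃ J, J ≤ Jbound i t K ∧ i * J ≤ m ∧
      (2 * (m - i * J) + c * K < n ∨ (2 * (m - i * J) + c * K = n ∧ P K))

variable {r : ℕ} [Fact r.Prime]

theorem zero_notMem_orbit (w : (ZMod r)ˣ) : (0 : ZMod r) ∉ orbit w 1 := fun h => by
  obtain ⟨l, hl⟩ := mem_orbit.mp h
  exact mul_ne_zero (pow_ne_zero _ w.ne_zero) one_ne_zero hl.symm

theorem sum_orbit_one (w : (ZMod r)ˣ) : ∑ x : ZMod r, (if x ∈ orbit w 1 then 1 else 0) = orderOf w := by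
  classical
  rw [Finset.sum_boole, Finset.filter_mem_eq_inter, Finset.univ_inter, card_orbit w one_ne_zero]
  rfl

theorem inv_ones (w : (ZMod r)ˣ) : Inv w (r - 1) (fun x : ZMod r => if x = 0 then 0 else 1) :=
  ⟨by rw [Finset.sum_ite, Finset.sum_const_zero, zero_add, Finset.sum_const, smul_eq_mul, mul_one,
      Finset.filter_ne', Finset.card_erase_of_mem (Finset.mem_univ _), Finset.card_univ, ZMod.card],
    fun x => if_congr (by simp) rfl rfl⟩

/-- Test functions: `K` orbits spread as widely as possible. -/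
theorem exists_spread (w : (ZMod r)ˣ) (f₀ K t : ℕ) (ht : t * orderOf w = r - 1) :
    ∃ f : ZMod r → ℕ, Inv w (f₀ + K * orderOf w) f ∧ f 0 = f₀ ∧
      ∀ x, x ≠ 0 → f x ≤ 1 + (K - t) * (if x ∈ orbit w 1 then 1 else 0) := by
  classical
  rcases Nat.lt_or_ge t K with hlt | hle
  · refine ⟨fun x => (if x = 0 then f₀ else 0) + ((if x = 0 then 0 else 1) + (K - t) * (if x ∈ orbit w 1 then 1 else 0)),
      ⟨?_, fun x => ?_⟩, ?_, fun x hx => ?_⟩
    · rw [Finset.sum_add_distrib, Finset.sum_add_distrib, Finset.sum_ite_eq', if_pos (Finset.mem_univ _),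
        (inv_ones w).1, ← Finset.mul_sum, sum_orbit_one, ← ht, ← Nat.add_mul, Nat.add_sub_cancel' hlt.le]
    · exact congrArg₂ (· + ·) (if_congr (by simp) rfl rfl)
        (congrArg₂ (· + ·) (if_congr (by simp) rfl rfl)
          (congrArg ((K - t) * ·) (if_congr (orbit_indicator w 1 x) rfl rfl)))
    · simp [zero_notMem_orbit w]
    · beta_reduce
      rw [if_neg hx, if_neg hx, zero_add]
  · obtain ⟨g, hg, hg0, hginv⟩ := exists_sub_orbits w rfl K _ _ (inv_ones w) (by
      rw [if_pos rfl, add_zero, ← ht]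
      exact Nat.mul_le_mul_right _ hle)
    refine ⟨fun x => (if x = 0 then f₀ else 0) + g x, ⟨?_, fun x => ?_⟩, ?_, fun x hx => ?_⟩
    · rw [Finset.sum_add_distrib, Finset.sum_ite_eq', if_pos (Finset.mem_univ _), hginv.1]
    · exact congrArg₂ (· + ·) (if_congr (by simp) rfl rfl) (hginv.2 x)
    · show (if (0 : ZMod r) = 0 then f₀ else 0) + g 0 = f₀
      rw [if_pos rfl, hg0, add_zero]
    · beta_reduce
      rw [if_neg hx, zero_add]
      refine le_trans (hg x) ?_
      rw [if_neg hx]
      exact Nat.le_add_right _ _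

variable {uq w : (ZMod r)ˣ} {i c t n m : ℕ}

theorem comb_iff (hr2 : r ≠ 2) (hwq : ∃ k : ℕ, uq = w ^ k) (hwn : ∃ k : ℕ, (-1 : (ZMod r)ˣ) = w ^ k)
    (hiu : orderOf uq = i) (hwc : orderOf w = c) (hc : c = if Even i then i else 2 * i) (ht : t * i = r - 1)
    (P : ℕ → Prop) :
    (∀ f : ZMod r → ℕ, Inv w n f → (f 0 ≠ 0 ∨ P ((n - f 0) / c)) →
      ∃ μ : ZMod r → ℕ, Inv uq m μ ∧ (∀ x, μ x + μ (-x) ≤ f x) ∧ (f 0 - 2 * μ 0 ≠ 0 ∨ P ((n - f 0) / c))) ↔
    Cond n c i t m P := by
  classical
  have hi0 : 0 < i := hiu ▸ orderOf_pos uq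
  have hc0 : 0 < c := hwc ▸ orderOf_pos w
  constructor
  · intro hall K hK hok
    obtain ⟨f, hf, hf0, hfle⟩ : ∃ f : ZMod r → ℕ, Inv w n f ∧ f 0 = n - c * K ∧
        (Even i → ∀ x, x ≠ 0 → f x ≤ 1 + (K - t) * (if x ∈ orbit w 1 then 1 else 0)) := by
      by_cases he : Even i
      · rw [if_pos he] at hc
        obtain ⟨f, hf, hf0, hfle⟩ := exists_spread w (n - c * K) K t (by rw [hwc, hc, ht])
        rw [hwc, mul_comm K, Nat.sub_add_cancel hK] at hf
        exact ⟨f, hf, hf0, fun _ => hfle⟩
      · refine ⟨fun x => (if x = 0 then n - c * K else 0) + K * (if x ∈ orbit w 1 then 1 else 0), ⟨?_, fun x => ?_⟩,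
          by simp [zero_notMem_orbit w], fun h => absurd h he⟩
        · rw [Finset.sum_add_distrib, Finset.sum_ite_eq', if_pos (Finset.mem_univ _), ← Finset.mul_sum,
            sum_orbit_one, hwc, mul_comm K, Nat.sub_add_cancel hK]
        · exact congrArg₂ (· + ·) (if_congr (by simp) rfl rfl)
            (congrArg (K * ·) (if_congr (orbit_indicator w 1 x) rfl rfl))
    have hKq : (n - f 0) / c = K := by rw [hf0, Nat.sub_sub_self hK, Nat.mul_div_cancel_left K hc0]
    obtain ⟨μ, hμ, hle, hrest⟩ := hall f hf (by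
      rw [hKq, hf0]
      rcases hok with h | h
      · exact Or.inl (by omega)
      · exact Or.inr h)
    rw [hKq, hf0] at hrest
    obtain ⟨J, hJ⟩ := dvd_sum_erase uq hiu _ _ hμ
    have hμ0 : μ 0 ≤ m := hμ.1 ▸ Finset.single_le_sum (f := μ) (fun y _ => Nat.zero_le _) (Finset.mem_univ (0 : ZMod r))
    have h0 := hle 0
    rw [neg_zero, hf0] at h0
    refine ⟨J, ?_, by omega, ?_⟩
    · have hsum := sum_split μ
      rw [hμ.1] at hsum
      rw [Jbound]
      split_ifs with he
      · have hneg : ∃ k : ℕ, (-1 : (ZMod r)ˣ) = uq ^ k := ⟨_, neg_one_mem_of_even (by rw [hiu]; exact he)⟩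
        have hb : ∀ x ∈ Finset.univ.erase (0 : ZMod r),
            μ x ≤ (K - t + 1) / 2 * (if x ∈ orbit w 1 then 1 else 0) := fun x hx => by
          have h1 := hle x
          rw [inv_neg hμ hneg] at h1
          have h2 := hfle he x (Finset.ne_of_mem_erase hx)
          split_ifs with hx1
          · rw [if_pos hx1, mul_one] at h2
            omega
          · rw [if_neg hx1, mul_zero, add_zero] at h2
            omega
        have h3 := Finset.sum_le_sum hb
        rw [← Finset.mul_sum] at h3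
        have h4 : ∑ x ∈ Finset.univ.erase (0 : ZMod r), (if x ∈ orbit w 1 then 1 else 0) = i := by
          have h5 := sum_split (fun x : ZMod r => if x ∈ orbit w 1 then 1 else 0)
          rw [sum_orbit_one, if_neg (zero_notMem_orbit w), zero_add, hwc, hc, if_pos he] at h5
          exact h5.symm
        rw [h4, mul_comm] at h3
        exact Nat.le_of_mul_le_mul_left (by omega : i * J ≤ i * ((K - t + 1) / 2)) hi0
      · have h3 : ∑ x ∈ Finset.univ.erase (0 : ZMod r), (μ x + μ (-x)) ≤
            ∑ x ∈ Finset.univ.erase (0 : ZMod r), f x := Finset.sum_le_sum fun x _ => hle x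
        have h4 := sum_split f
        rw [hf.1, hf0] at h4
        have h5 := sum_split fun x => μ x + μ (-x)
        rw [Finset.sum_add_distrib, show ∑ x, μ (-x) = ∑ x, μ x from Equiv.sum_comp (Equiv.neg (ZMod r)) μ, hμ.1,
          neg_zero] at h5
        have hcc : c * K = 2 * (i * K) := by rw [hc, if_neg he, mul_assoc]
        exact Nat.le_of_mul_le_mul_left (by omega : i * J ≤ i * K) hi0
    · rcases hrest with h | h
      · exact Or.inl (by omega)
      · by_cases heq : 2 * (m - i * J) + c * K = n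
        · exact Or.inr ⟨heq, h⟩
        · exact Or.inl (by omega)
  · intro hcond f hf hok
    obtain ⟨K, hK⟩ := dvd_sum_erase w hwc _ _ hf
    have hf0 : f 0 ≤ n := hf.1 ▸ Finset.single_le_sum (f := f) (fun y _ => Nat.zero_le _) (Finset.mem_univ (0 : ZMod r))
    have hKq : (n - f 0) / c = K := by rw [hK, Nat.mul_div_cancel_left K hc0]
    rw [hKq] at hok
    obtain ⟨J, hJb, hJm, hJ⟩ := hcond K (by omega) (by
      rcases hok with h | h
      · exact Or.inl (by omega)
      · exact Or.inr h)
    obtain ⟨μ₀, hμ₀, h0, hle⟩ : ∃ μ₀ : ZMod r → ℕ, Inv uq (J * i) μ₀ ∧ μ₀ 0 = 0 ∧ ∀ x, μ₀ x + μ₀ (-x) ≤ f x := by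
      by_cases he : Even i
      · have hneg : ∃ k : ℕ, (-1 : (ZMod r)ˣ) = uq ^ k := ⟨_, neg_one_mem_of_even (by rw [hiu]; exact he)⟩
        obtain ⟨J₀, hJ₀, hex⟩ := exists_half_even uq (inv_of_pow hf hwq) hneg
        rw [hiu] at hJ₀ hex
        refine hex J (le_trans hJb ?_)
        rw [Jbound, if_pos he]
        rw [if_pos he] at hc
        subst hc
        have h1 : c * K ≤ c * (2 * J₀ + t) := by
          rw [mul_add, mul_comm c t, ht, show c * (2 * J₀) = 2 * (J₀ * c) by ring]
          omega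
        have h2 := Nat.le_of_mul_le_mul_left h1 hc0
        omega
      · have hne : ∀ l : ℕ, (-1 : ZMod r) ≠ (uq : ZMod r) ^ l := fun l hl => by
          have h1 : (-1 : (ZMod r)ˣ) = uq ^ l :=
            Units.ext (by rw [Units.val_neg, Units.val_one, hl, Units.val_pow_eq_pow_val])
          have h3 := congrArg (· ^ i) h1
          beta_reduce at h3
          rw [(Nat.not_even_iff_odd.mp he).neg_pow, one_pow, ← pow_mul, mul_comm l, pow_mul, ← hiu, pow_orderOf_eq_one,
            one_pow] at h3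
          exact neg_ne_self hr2 one_ne_zero (by simpa using congrArg Units.val h3)
        rw [Jbound, if_neg he] at hJb
        obtain ⟨μ₀, h1, h2, h3⟩ := exists_half uq hne J n f (inv_of_pow hf hwq) (inv_neg hf hwn) (by
          rw [hiu]
          rw [if_neg he] at hc
          subst hc
          have := Nat.mul_le_mul_right (2 * i) hJb
          rw [mul_comm K] at this
          omega)
        rw [hiu] at h1
        exact ⟨μ₀, h1, h2, h3⟩
    refine ⟨fun x => μ₀ x + if x = 0 then m - i * J else 0, ⟨?_, fun x => ?_⟩, fun x => ?_, ?_⟩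
    · rw [Finset.sum_add_distrib, hμ₀.1, Finset.sum_ite_eq', if_pos (Finset.mem_univ _), mul_comm J]
      omega
    · show μ₀ _ + _ = μ₀ x + if x = 0 then m - i * J else 0
      rw [hμ₀.2]
      exact congrArg (μ₀ x + ·) (if_congr (by simp) rfl rfl)
    · show μ₀ x + (if x = 0 then m - i * J else 0) + (μ₀ (-x) + if -x = 0 then m - i * J else 0) ≤ f x
      by_cases hx : x = 0
      · subst hx
        simp only [neg_zero, reduceIte, h0]
        omega
      · rw [if_neg hx, if_neg (neg_ne_zero.2 hx)]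
        simpa using hle x
    · simp only [reduceIte, h0, zero_add, hKq]
      rcases hJ with h | h
      · exact Or.inl (by omega)
      · exact Or.inr h.2

end Cfsg.Lib.Linear.IsoFix
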