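import Cfsg.Agent.Lib.Linear.IsotropicFix.Comb

/-!
# The arithmetical condition in even dimension
-/

set_option autoImplicit false

namespace Cfsg.Lib.Linear.IsoFix

/-- What divisibility of the number of totally singular subspaces gives for `n`. -/
def Low (n c m : ℕ) (P : ℕ → Prop) : Prop :=
  ∃ a x, n = 2 * a + c * x ∧ a ≤ m ∧ (P x → a < m) ∧ (¬P x → 1 ≤ a)

variable {n c i t m : ℕ} {P : ℕ → Prop}

theorem quot_eq {J : ℕ} (h : i * J ≤ m) (hlt : m - i * J < i) : m / i = J :=
  Nat.div_eq_of_lt_le (by rw [mul_comm]; exact h) (by rw [Nat.succ_mul, mul_comm J]; omega)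

theorem le_of_cond (hlow : Low n c m P) (h : Cond n c i t m P) : i ≤ m := by
  by_contra him
  obtain ⟨a, x, hn, ha, h1, h2⟩ := hlow
  obtain ⟨J, -, hJm, hJ⟩ := h x (by omega) (by
    by_cases hP : P x
    · exact Or.inr hP
    · have := h2 hP
      exact Or.inl (by omega))
  have hJ0 : J = 0 := by
    rcases Nat.eq_zero_or_pos J with h0 | h0
    · exact h0
    · have := Nat.le_mul_of_pos_right i h0
      omega
  subst hJ0
  rcases hJ with hJ | ⟨hJ, hP⟩
  · omega
  · have := h1 hP
    omega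

theorem cond_odd_true (hi : Odd i) (hc : c = 2 * i) (hP : ∀ K, P K) (hlow : Low n c m P) (hmn : 2 * m < n) :
    Cond n c i t m P ↔ i ≤ m ∧ 2 * (m % i) ≤ n % c := by
  have hm := Nat.div_add_mod m i
  have hn := Nat.div_add_mod n c
  have hi0 : 0 < i := hi.pos
  have hlk : n % c < c := Nat.mod_lt _ (by omega)
  have hev : ¬Even i := Nat.not_even_iff_odd.mpr hi
  constructor
  · intro h
    obtain ⟨J, -, hJm, hJ⟩ := h (n / c) (Nat.mul_div_le _ _) (Or.inr (hP _))
    have hlt : m - i * J < i := by omega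
    rw [quot_eq hJm hlt] at hm
    exact ⟨le_of_cond hlow h, by omega⟩
  · rintro ⟨-, hkl⟩ K hK -
    have hKn : K ≤ n / c := (Nat.le_div_iff_mul_le (by omega)).2 (by rw [mul_comm]; exact hK)
    have hcK := Nat.mul_le_mul_left c hKn
    refine ⟨min (m / i) (Jbound i t K), min_le_right _ _,
      (Nat.mul_le_mul_left i (min_le_left _ _)).trans (Nat.mul_div_le _ _), ?_⟩
    rw [Jbound, if_neg hev]
    rcases le_total (m / i) K with h | h
    · rw [min_eq_left h]
      rcases Nat.lt_or_ge (2 * (m - i * (m / i)) + c * K) n with h' | h'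
      · exact Or.inl h'
      · exact Or.inr ⟨by omega, hP K⟩
    · rw [min_eq_right h]
      have h1 := Nat.mul_le_mul_left i h
      have e5 : c * K = 2 * (i * K) := by rw [hc, mul_assoc]
      exact Or.inl (by omega)

theorem cond_odd_false (hi : Odd i) (hc : c = 2 * i) (hP : ∀ K, ¬P K) (hlow : Low n c m P) (hmn : 2 * m < n) :
    Cond n c i t m P ↔ i ≤ m ∧ (n % c = 0 ∨ 2 * (m % i) < n % c) := by
  have hm := Nat.div_add_mod m i
  have hn := Nat.div_add_mod n c
  have hi0 : 0 < i := hi.pos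
  have hlk : n % c < c := Nat.mod_lt _ (by omega)
  have hlm : m % i < i := Nat.mod_lt _ hi0
  have hev : ¬Even i := Nat.not_even_iff_odd.mpr hi
  constructor
  · intro h
    refine ⟨le_of_cond hlow h, or_iff_not_imp_left.2 fun h0 => ?_⟩
    obtain ⟨J, -, hJm, hJ⟩ := h (n / c) (Nat.mul_div_le _ _) (Or.inl (by omega))
    have hJ' := hJ.resolve_right fun h => hP _ h.2
    have hlt : m - i * J < i := by omega
    rw [quot_eq hJm hlt] at hm
    omega
  · rintro ⟨-, hkl⟩ K hK hadm
    have hlt := hadm.resolve_right (hP K)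
    have hKn : K ≤ n / c := (Nat.le_div_iff_mul_le (by omega)).2 (by rw [mul_comm]; exact hK)
    refine ⟨min (m / i) (Jbound i t K), min_le_right _ _,
      (Nat.mul_le_mul_left i (min_le_left _ _)).trans (Nat.mul_div_le _ _), Or.inl ?_⟩
    rw [Jbound, if_neg hev]
    rcases le_total (m / i) K with h | h
    · rw [min_eq_left h]
      rcases Nat.eq_or_lt_of_le hKn with rfl | hK1
      · omega
      · have h2 := Nat.mul_le_mul_left c (Nat.succ_le_of_lt hK1)
        rw [Nat.mul_succ] at h2
        omega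
    · rw [min_eq_right h]
      have h1 := Nat.mul_le_mul_left i h
      have e5 : c * K = 2 * (i * K) := by rw [hc, mul_assoc]
      omega

theorem cond_even (hi : Even i) (hi0 : 0 < i) (hc : c = i) {π : ℕ} (hπ : π < 2) (hP : ∀ K, P K ↔ K % 2 = π)
    (hlow : Low n c m P) (hmn : 2 * m < n) :
    Cond n c i t m P ↔ i ≤ m ∧ t + 2 * (m / i) ≤ n / i ∧
      ((2 * (m % i) ≤ i ∧ n % c = 0 ∧ (n / i) % 2 ≠ π ∧ t + 2 * (m / i) < n / i) ∨
        (2 * (m % i) ≤ n % c ∧ (n / i) % 2 = π) ∨ (2 * (m % i) < n % c ∧ (n / i) % 2 ≠ π)) := by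
  subst hc
  have hm := Nat.div_add_mod m c
  have hn := Nat.div_add_mod n c
  have hlk : n % c < c := Nat.mod_lt _ hi0
  have hlm : m % c < c := Nat.mod_lt _ hi0
  constructor
  · intro h
    have him := le_of_cond hlow h
    have hm1 : 0 < m / c := Nat.div_pos him hi0
    have hN : 2 ≤ n / c := (Nat.le_div_iff_mul_le hi0).2 (by omega)
    have getJ : ∀ K, c * K ≤ n → (n < c * K + 2 * c ∨ (n ≤ c * K + 2 * c ∧ ¬P K)) → (c * K < n ∨ P K) →
        m / c ≤ (K - t + 1) / 2 ∧ (2 * (m % c) + c * K < n ∨ (2 * (m % c) + c * K = n ∧ P K)) := by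
      intro K hK hsl hadm
      obtain ⟨J, hJb, hJm, hJ⟩ := h K hK hadm
      have hlt : m - c * J < c := by
        rcases hJ with hJ | ⟨hJ, hPK⟩
        · omega
        · rcases hsl with hs | ⟨-, hs⟩
          · omega
          · exact absurd hPK hs
      rw [Jbound, if_pos hi] at hJb
      have hq := quot_eq hJm hlt
      rw [hq] at hm ⊢
      exact ⟨hJb, hJ.imp (fun h => by omega) fun h => ⟨by omega, h.2⟩⟩
    have e1 : c * (n / c - 1) + c = c * (n / c) := by
      rw [← Nat.mul_succ]; congr 1; omega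
    have e2 : c * (n / c - 2) + 2 * c = c * (n / c) := by
      rw [mul_comm 2 c, ← Nat.mul_add]; congr 1; omega
    refine ⟨him, ?_⟩
    by_cases hN0 : n % c = 0 ∧ (n / c) % 2 ≠ π
    · obtain ⟨hJ1, hs1⟩ := getJ (n / c - 1) (by omega) (Or.inl (by omega)) (Or.inl (by omega))
      obtain ⟨hJ2, -⟩ := getJ (n / c - 2) (by omega) (Or.inr ⟨by omega, fun hp => hN0.2 (by
        rw [hP] at hp; omega)⟩) (Or.inl (by omega))
      exact ⟨by omega, Or.inl ⟨by omega, hN0.1, hN0.2, by omega⟩⟩
    · have hadm : c * (n / c) < n ∨ P (n / c) := by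
        rcases Nat.eq_zero_or_pos (n % c) with h0 | h0
        · exact Or.inr ((hP _).2 (by by_contra hh; exact hN0 ⟨h0, hh⟩))
        · exact Or.inl (by omega)
      obtain ⟨hJ0, hs0⟩ := getJ (n / c) (Nat.mul_div_le _ _) (Or.inl (by omega)) hadm
      obtain ⟨hJ1, -⟩ := getJ (n / c - 1) (by omega) (Or.inl (by omega)) (Or.inl (by omega))
      refine ⟨by omega, ?_⟩
      rw [hP] at hs0
      omega
  · rintro ⟨-, hcond, hcase⟩ K hK hadm
    have hKn : K ≤ n / c := (Nat.le_div_iff_mul_le hi0).2 (by rw [mul_comm]; exact hK)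
    rw [hP] at hadm ⊢
    refine ⟨min (m / c) (Jbound c t K), min_le_right _ _,
      (Nat.mul_le_mul_left c (min_le_left _ _)).trans (Nat.mul_div_le _ _), ?_⟩
    rw [Jbound, if_pos hi]
    rcases le_total (m / c) ((K - t + 1) / 2) with h | h
    · rw [min_eq_left h]
      obtain hK0 | hK1 | hK2 : K = n / c ∨ K + 1 = n / c ∨ K + 2 ≤ n / c := by omega
      · subst hK0
        omega
      · have e : c * K + c = c * (n / c) := by rw [← hK1]; ring
        omega
      · have e := Nat.mul_le_mul_left c hK2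
        rw [Nat.mul_add] at e
        omega
    · rw [min_eq_right h]
      have h1 := Nat.mul_le_mul_left c h
      have h2 := Nat.mul_le_mul_left c hcond
      rw [Nat.mul_add] at h2
      have e3 : c * (2 * (m / c)) = 2 * (c * (m / c)) := by ring
      have e4 : c * (2 * ((K - t + 1) / 2) + t) = 2 * (c * ((K - t + 1) / 2)) + c * t := by ring
      obtain hK1 | hK1 : K = 2 * ((K - t + 1) / 2) + t ∨ K + 1 ≤ 2 * ((K - t + 1) / 2) + t := by omega
      · have e5 : c * K = c * (2 * ((K - t + 1) / 2) + t) := by rw [← hK1]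
        obtain h3 | h3 : t + 2 * (m / c) = n / c ∨ t + 2 * (m / c) + 1 = n / c ∨ t + 2 * (m / c) + 2 ≤ n / c := by omega
        · rw [← h3, Nat.mul_add] at hn
          omega
        rcases h3 with h3 | h3
        · rw [← h3, Nat.mul_add, Nat.mul_add] at hn
          omega
        · have e6 := Nat.mul_le_mul_left c h3
          rw [Nat.mul_add, Nat.mul_add] at e6
          omega
      · have e5 := Nat.mul_le_mul_left c hK1
        rw [Nat.mul_add c K 1] at e5
        obtain h3 | h3 : t + 2 * (m / c) = n / c ∨ t + 2 * (m / c) + 1 ≤ n / c := by omega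
        · omega
        · have e6 := Nat.mul_le_mul_left c h3
          rw [Nat.mul_add, Nat.mul_add] at e6
          omega

end Cfsg.Lib.Linear.IsoFix
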