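import Cfsg.Agent.Lib.Linear.IsotropicFix.Split
import Cfsg.Agent.S5961

/-!
# Multiplicity functions of invariant totally isotropic subspaces

With `μ` the multiplicities on the subspace and `m` those on the space, `μ x + μ (-x) ≤ m x`; the
lemmas here extract `μ` and build suitable `μ` from orbits.
-/

set_option autoImplicit false

universe u

namespace Cfsg.Lib.Linear.IsoFix

open Polynomial Cfsg.Agent.Lib.Linear.PrimeClasses Cfsg.Agent.S5961

section Extract

variable {F : Type u} [Field F] [Fintype F] {L : Type u} [Field L] [Algebra F L] [IsAlgClosed L]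
  {r : ℕ} [Fact r.Prime] {ζ : L}

theorem exists_mu (hζ : IsPrimitiveRoot ζ r) (hrL : (r : L) ≠ 0) {uq : (ZMod r)ˣ}
    (huq : (uq : ZMod r) = (Fintype.card F : ZMod r)) {k : ℕ} (A : Matrix (Fin k) (Fin k) F) (hA : A ^ r = 1)
    {P : F[X]} {m : ZMod r → ℕ} (hP : P.map (algebraMap F L) = Pm ζ m)
    (hdvd : A.charpoly * (A ^ (r - 1)).charpoly ∣ P) :
    ∃ μ : ZMod r → ℕ, Inv uq k μ ∧ ∀ x, μ x + μ (-x) ≤ m x := by
  classical
  obtain ⟨μ, hμ, hs⟩ := exists_mult (L := L) hζ A hA
  refine ⟨μ, ⟨hs, fun x => Pm_frob_invariant hζ huq μ _ hμ x⟩, fun x => ?_⟩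
  have hm : (A.map (algebraMap F L)).charpoly = Pm ζ μ := by rw [Matrix.charpoly_map]; exact hμ
  have h1 := charpoly_inv hζ hrL (A.map (algebraMap F L)) ((A ^ (r - 1)).map (algebraMap F L))
    (by rw [← RingHom.mapMatrix_apply, ← map_pow, hA, map_one])
    (by rw [← Matrix.map_mul, ← pow_succ', Nat.sub_add_cancel (Fact.out : r.Prime).one_le, hA,
      Matrix.map_one _ (map_zero _) (map_one _)]) μ hm
  rw [Matrix.charpoly_map] at h1
  have h2 := Polynomial.map_dvd (algebraMap F L) hdvd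
  rw [Polynomial.map_mul, hμ, h1, hP, ← Pm_add] at h2
  have h3 := rootMultiplicity_le_rootMultiplicity_of_dvd (Pm_monic ζ m).ne_zero h2 (zp ζ x)
  rwa [count_roots_Pm hζ, count_roots_Pm hζ] at h3

end Extract

variable {r : ℕ} [Fact r.Prime]

theorem neg_mem_orbit_of {w : (ZMod r)ˣ} {x y : ZMod r} (h : -y ∈ orbit w x) (hy : y ∈ orbit w x) (hx : x ≠ 0) :
    ∃ l : ℕ, (-1 : ZMod r) = (w : ZMod r) ^ l := by
  obtain ⟨a, ha⟩ := mem_orbit.mp h
  obtain ⟨b, hb⟩ := mem_orbit.mp hy
  refine ⟨a + (orderOf w * b - b), ?_⟩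
  have hb' : b ≤ orderOf w * b := Nat.le_mul_of_pos_left _ (orderOf_pos w)
  have h1 : (w : ZMod r) ^ a = -(w : ZMod r) ^ b := mul_right_cancel₀ hx (by rw [← ha, neg_mul, ← hb])
  rw [pow_add, h1, neg_mul, ← pow_add, Nat.add_sub_cancel' hb', pow_mul, ← Units.val_pow_eq_pow_val,
    pow_orderOf_eq_one, Units.val_one, one_pow]

/-- Pairs of opposite orbits give half-functions. -/
theorem exists_half (u : (ZMod r)ˣ) (hu : ∀ l : ℕ, (-1 : ZMod r) ≠ (u : ZMod r) ^ l) :
    ∀ (J n : ℕ) (m : ZMod r → ℕ), Inv u n m → (∀ x, m (-x) = m x) → J * (2 * orderOf u) + m 0 ≤ n →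
      ∃ μ : ZMod r → ℕ, Inv u (J * orderOf u) μ ∧ μ 0 = 0 ∧ ∀ x, μ x + μ (-x) ≤ m x := by
  classical
  intro J
  induction J with
  | zero => intro n m _ _ _; exact ⟨0, ⟨by simp, fun _ => rfl⟩, rfl, fun x => Nat.zero_le _⟩
  | succ J ih =>
    intro n m hm hneg hle
    obtain ⟨x, hx0, hx⟩ : ∃ x, x ≠ 0 ∧ m x ≠ 0 := by
      by_contra hcon
      push Not at hcon
      have h1 := sum_split m
      rw [hm.1, Finset.sum_eq_zero fun x hx => hcon x (Finset.ne_of_mem_erase hx), add_zero] at h1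
      have := orderOf_pos u
      rw [add_one_mul] at hle
      omega
    let ind : ZMod r → ℕ := fun y => if y ∈ orbit u x then 1 else 0
    have hle1 : ∀ y, ind y + ind (-y) ≤ m y := fun y => by
      show (if y ∈ orbit u x then 1 else 0) + (if -y ∈ orbit u x then 1 else 0) ≤ m y
      have hpos : ∀ y, y ∈ orbit u x → 1 ≤ m y := fun y hy => by
        obtain ⟨l, rfl⟩ := mem_orbit.mp hy
        rw [inv_pow hm]; omega
      split_ifs with h1 h2 h3
      · obtain ⟨l, hl⟩ := neg_mem_orbit_of h2 h1 hx0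
        exact absurd hl (hu l)
      · exact hpos _ h1
      · rw [zero_add, ← hneg]; exact hpos _ h3
      · exact Nat.zero_le _
    have hind0 : ind 0 = 0 := by
      refine if_neg fun h => ?_
      obtain ⟨l, hl⟩ := mem_orbit.mp h
      exact mul_ne_zero (pow_ne_zero _ u.ne_zero) hx0 hl.symm
    have hindu : ∀ y, ind ((u : ZMod r) * y) = ind y := fun y => if_congr (orbit_indicator u x y) rfl rfl
    have hinds : ∑ y, ind y = orderOf u := by
      show (∑ y, if y ∈ orbit u x then 1 else 0) = orderOf u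
      rw [Finset.sum_boole, Finset.filter_mem_eq_inter, Finset.univ_inter, card_orbit u hx0]
      rfl
    have hinds' : ∑ y, ind (-y) = orderOf u := hinds ▸ Equiv.sum_comp (Equiv.neg (ZMod r)) ind
    have hsum : ∑ y, (m y - (ind y + ind (-y))) = n - 2 * orderOf u := by
      rw [Finset.sum_tsub_distrib _ fun y _ => hle1 y, Finset.sum_add_distrib, hinds, hinds', hm.1, two_mul]
    obtain ⟨μ, hμ, h0, hμle⟩ := ih _ (fun y => m y - (ind y + ind (-y)))
      ⟨hsum, fun y => by
        show m _ - (ind _ + ind (-((u : ZMod r) * y))) = m y - (ind y + ind (-y))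
        rw [hm.2, hindu, ← mul_neg, hindu]⟩
      (fun y => by
        show m (-y) - (ind (-y) + ind (- -y)) = m y - (ind y + ind (-y))
        rw [hneg, neg_neg, add_comm (ind y)])
      (by
        show J * (2 * orderOf u) + (m 0 - (ind 0 + ind (-0))) ≤ n - 2 * orderOf u
        rw [neg_zero, hind0, add_zero, Nat.sub_zero]
        rw [add_one_mul] at hle
        omega)
    refine ⟨fun y => ind y + μ y, ⟨?_, fun y => ?_⟩, ?_, fun y => ?_⟩
    · rw [Finset.sum_add_distrib, hinds, hμ.1, add_one_mul, add_comm]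
    · show ind _ + μ _ = ind y + μ y
      rw [hindu, hμ.2]
    · show ind 0 + μ 0 = 0
      rw [hind0, h0]
    · show ind y + μ y + (ind (-y) + μ (-y)) ≤ m y
      have : μ y + μ (-y) ≤ m y - (ind y + ind (-y)) := hμle y
      have := hle1 y
      omega

/-- An invariant function is the same at opposite points when `-1` is a power of the generator. -/
theorem inv_neg {w : (ZMod r)ˣ} {n : ℕ} {m : ZMod r → ℕ} (hm : Inv w n m)
    (hwn : ∃ k : ℕ, (-1 : (ZMod r)ˣ) = w ^ k) (x : ZMod r) : m (-x) = m x := by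
  obtain ⟨k, hk⟩ := hwn
  rw [← inv_pow hm k x, ← Units.val_pow_eq_pow_val, ← hk, Units.val_neg, Units.val_one, neg_one_mul]

theorem inv_of_pow {w v : (ZMod r)ˣ} {n : ℕ} {m : ZMod r → ℕ} (hm : Inv w n m) (hv : ∃ k : ℕ, v = w ^ k) :
    Inv v n m := by
  obtain ⟨k, rfl⟩ := hv
  exact ⟨hm.1, fun x => by rw [Units.val_pow_eq_pow_val]; exact inv_pow hm k x⟩

/-- Every invariant function is at most twice its half, up to one at each non-zero point. -/
theorem exists_half_even (u : (ZMod r)ˣ) {n : ℕ} {m : ZMod r → ℕ} (hm : Inv u n m)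
    (hneg : ∃ k : ℕ, (-1 : (ZMod r)ˣ) = u ^ k) :
    ∃ J₀ : ℕ, n ≤ m 0 + 2 * (J₀ * orderOf u) + (r - 1) ∧
      ∀ J ≤ J₀, ∃ μ : ZMod r → ℕ, Inv u (J * orderOf u) μ ∧ μ 0 = 0 ∧ ∀ x, μ x + μ (-x) ≤ m x := by
  classical
  let f : ZMod r → ℕ := fun x => if x = 0 then 0 else m x / 2
  have hf : Inv u (∑ x, f x) f := ⟨rfl, fun x => by
    show (if _ then _ else _) = if x = 0 then 0 else m x / 2
    rw [hm.2]; exact if_congr (by simp) rfl rfl⟩
  obtain ⟨J₀, hJ₀⟩ := dvd_sum_erase u rfl _ f hf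
  rw [show f 0 = 0 from if_pos rfl, Nat.sub_zero] at hJ₀
  refine ⟨J₀, ?_, fun J hJ => ?_⟩
  · rw [mul_comm J₀, ← hJ₀]
    calc n = m 0 + ∑ x ∈ Finset.univ.erase (0 : ZMod r), m x := by rw [← sum_split, hm.1]
      _ ≤ m 0 + ∑ x ∈ Finset.univ.erase (0 : ZMod r), (2 * f x + 1) := by
        refine Nat.add_le_add_left (Finset.sum_le_sum fun x hx => ?_) _
        rw [show f x = m x / 2 from if_neg (Finset.ne_of_mem_erase hx)]
        omega
      _ = m 0 + 2 * ∑ x, f x + (r - 1) := by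
        rw [Finset.sum_add_distrib, ← Finset.mul_sum, sum_split f, show f 0 = 0 from if_pos rfl, zero_add,
          Finset.sum_const, Finset.card_erase_of_mem (Finset.mem_univ _), Finset.card_univ, ZMod.card,
          smul_eq_mul, mul_one, add_assoc]
  · obtain ⟨μ, hle, h0, hinv⟩ := exists_sub_orbits u rfl J _ f hf (by
      rw [show f 0 = 0 from if_pos rfl, add_zero, hJ₀, mul_comm J]
      exact Nat.mul_le_mul_left _ hJ)
    refine ⟨μ, hinv, h0, fun x => ?_⟩
    rw [inv_neg hinv hneg]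
    by_cases hx : x = 0
    · subst hx; omega
    · have := hle x
      rw [show f x = m x / 2 from if_neg hx] at this
      omega

end Cfsg.Lib.Linear.IsoFix
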