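import Cfsg.Agent.Lib.Linear.IsotropicFix.Orbits
import Cfsg.Agent.Lib.Linear.PrimeClasses.LinearReal
import Cfsg.Agent.Lib.Linear.PrimeClasses.OrthReal
import Cfsg.Agent.Lib.Linear.OrthParity
import Cfsg.Agent.Lib.Linear.OrthLevi
import Cfsg.Agent.Lib.H3.OmegaAdjust

/-!
# Orthogonal elements of prime order fixing totally singular subspaces

A space split as a hyperbolic part of dimension `2 m` and a rest `Q₀`: an element of order dividing `r`
fixes a totally singular `m`-space iff its multiplicities contain those of a pair of contragredient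
blocks and the remainder is realised in the rest.
-/

set_option autoImplicit false

universe u

namespace Cfsg.Lib.Linear.IsoFix

open Module Polynomial Cfsg.Agent.Lib.Linear.PrimeClasses Cfsg.Lib.Linear.Orth
open scoped Matrix

/-- A totally singular `m`-space mapped into itself by a matrix. -/
def FixesQ {ι : Type} [Fintype ι] [DecidableEq ι] {F : Type*} [Field F] (Q : (ι → F) → F) (m : ℕ)
    (M : Matrix ι ι F) : Prop :=
  ∃ W : Submodule F (ι → F), finrank F ↥W = m ∧ (∀ w ∈ W, Q w = 0) ∧ W.map (Matrix.toLin' M) ≤ W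

variable {F : Type u} [Field F] {ι κ : Type} [Fintype ι] [DecidableEq ι] [Fintype κ] [DecidableEq κ]
  {Q : (ι → F) → F} {B : LinearMap.BilinForm F (ι → F)} {Q₀ : (κ → F) → F} {B₀ : LinearMap.BilinForm F (κ → F)}
  {m : ℕ}

/-- The first half of the hyperbolic part. -/
def inHalf (F : Type*) [Field F] (m : ℕ) (κ : Type) : (Fin m → F) →ₗ[F] ((Fin m ⊕ Fin m) ⊕ κ → F) where
  toFun a := Sum.elim (Sum.elim a 0) 0
  map_add' a b := by ext ((i | i) | i) <;> simp
  map_smul' c a := by ext ((i | i) | i) <;> simp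

omit [Fintype κ] [DecidableEq κ] in
theorem inHalf_injective : Function.Injective (inHalf F m κ) := fun _ _ h =>
  funext fun i => congrFun h (Sum.inl (Sum.inl i))

/-- A splitting of a space as hyperbolic part and rest. -/
structure IsSplit (Q : (ι → F) → F) (Q₀ : (κ → F) → F) (m : ℕ)
    (ψ : (ι → F) ≃ₗ[F] ((Fin m ⊕ Fin m) ⊕ κ → F)) : Prop where
  eq : ∀ v, Q v = Cfsg.quadFormPlus m F (ψ v ∘ Sum.inl) + Q₀ (ψ v ∘ Sum.inr)

variable {ψ : (ι → F) ≃ₗ[F] ((Fin m ⊕ Fin m) ⊕ κ → F)}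

theorem IsSplit.bilin (S : IsSplit Q Q₀ m ψ) (C : Space Q B) (C₀ : Space Q₀ B₀) (u v : ι → F) :
    B u v = (∑ i, (ψ u (.inl (.inl i)) * ψ v (.inl (.inr i)) + ψ u (.inl (.inr i)) * ψ v (.inl (.inl i)))) +
      B₀ (ψ u ∘ Sum.inr) (ψ v ∘ Sum.inr) := by
  have h := polar_plus_apply (F := F) m (ψ u ∘ Sum.inl) (ψ v ∘ Sum.inl)
  simp only [QuadraticMap.polar, Function.comp_apply] at h
  rw [← h, ← C₀.polar, ← C.polar, QuadraticMap.polar, QuadraticMap.polar, S.eq, S.eq, S.eq, map_add]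
  have e1 : (ψ u + ψ v) ∘ Sum.inl = ψ u ∘ Sum.inl + ψ v ∘ Sum.inl := rfl
  have e2 : (ψ u + ψ v) ∘ Sum.inr = ψ u ∘ Sum.inr + ψ v ∘ Sum.inr := rfl
  rw [e1, e2]
  ring

/-- The standard totally singular subspace of a split space. -/
noncomputable def stdTS (ψ : (ι → F) ≃ₗ[F] ((Fin m ⊕ Fin m) ⊕ κ → F)) : Submodule F (ι → F) :=
  LinearMap.range ((ψ.symm : ((Fin m ⊕ Fin m) ⊕ κ → F) →ₗ[F] (ι → F)).comp (inHalf F m κ))

theorem finrank_stdTS : finrank F (stdTS ψ) = m := by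
  rw [stdTS, LinearMap.finrank_range_of_inj (fun a b h => inHalf_injective (ψ.symm.injective h)),
    Module.finrank_fin_fun]

theorem IsSplit.stdTS_singular (S : IsSplit Q Q₀ m ψ) (C₀ : Space Q₀ B₀) : ∀ w ∈ stdTS ψ, Q w = 0 := by
  rintro _ ⟨a, rfl⟩
  rw [S.eq, LinearMap.comp_apply, LinearEquiv.coe_coe, LinearEquiv.apply_symm_apply,
    show inHalf F m κ a ∘ Sum.inr = 0 from rfl, C₀.zero, add_zero]
  simp [Cfsg.quadFormPlus, inHalf]

omit [Fintype κ] [DecidableEq κ] in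
theorem fromBlocks_upper_pow {α β : Type} [Fintype α] [DecidableEq α] [Fintype β] [DecidableEq β]
    (a : Matrix α α F) (x : Matrix α β F) (d : Matrix β β F) : ∀ k : ℕ,
    ∃ x', Matrix.fromBlocks a x 0 d ^ k = Matrix.fromBlocks (a ^ k) x' 0 (d ^ k) := by
  intro k
  induction k with
  | zero => exact ⟨0, by rw [pow_zero, pow_zero, pow_zero, Matrix.fromBlocks_one]⟩
  | succ k ih =>
    obtain ⟨x', hx'⟩ := ih
    exact ⟨a ^ k * x + x' * d, by rw [pow_succ, hx', Matrix.fromBlocks_multiply]; simp [pow_succ]⟩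

/-- An isometry stabilising the standard totally singular subspace. -/
theorem exists_split_of_stab (C : Space Q B) (C₀ : Space Q₀ B₀) (S : IsSplit Q Q₀ m ψ) {r : ℕ} (hr : 1 ≤ r)
    (g : ↥(Cfsg.isometryGroup F Q)) (hg : g ^ r = 1)
    (hinv : ∀ w ∈ stdTS ψ, (g : GL ι F).val *ᵥ w ∈ stdTS ψ) :
    ∃ (A : Matrix (Fin m) (Fin m) F) (g₀ : ↥(Cfsg.isometryGroup F Q₀)), A ^ r = 1 ∧ g₀ ^ r = 1 ∧
      ((g : GL ι F) : Matrix ι ι F).charpoly =
        A.charpoly * (A ^ (r - 1)).charpoly * ((g₀ : GL κ F) : Matrix κ κ F).charpoly := by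
  classical
  let T : ((Fin m ⊕ Fin m) ⊕ κ → F) →ₗ[F] ((Fin m ⊕ Fin m) ⊕ κ → F) :=
    (ψ : (ι → F) →ₗ[F] _) ∘ₗ Matrix.toLin' ((g : GL ι F) : Matrix ι ι F) ∘ₗ
      (ψ.symm : ((Fin m ⊕ Fin m) ⊕ κ → F) →ₗ[F] _)
  let M := LinearMap.toMatrix' T
  have hT : ∀ x, M *ᵥ x = ψ ((g : GL ι F).val *ᵥ ψ.symm x) := fun x => by
    rw [LinearMap.toMatrix'_mulVec]; rfl
  have hcp : M.charpoly = ((g : GL ι F) : Matrix ι ι F).charpoly := by
    rw [← LinearMap.charpoly_toMatrix T (Pi.basisFun F _) |>.trans (LinearEquiv.charpoly_conj ψ (Matrix.toLin' ((g : GL ι F) : Matrix ι ι F)))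
      |>.trans (Matrix.charpoly_toLin' _)]
    rfl
  have hpow : M ^ r = 1 := by
    have h1 : ∀ (k : ℕ) x, (M ^ k) *ᵥ x = ψ (((g : GL ι F).val ^ k) *ᵥ ψ.symm x) := fun k => by
      induction k with
      | zero => intro x; simp
      | succ k ih =>
        intro x
        rw [pow_succ', ← Matrix.mulVec_mulVec, ih, hT, LinearEquiv.symm_apply_apply, Matrix.mulVec_mulVec,
          pow_succ']
    refine mat_ext fun x => ?_
    rw [h1, ← Units.val_pow_eq_pow_val, ← SubmonoidClass.coe_pow, hg]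
    simp
  -- the form in coordinates
  let P : ((Fin m ⊕ Fin m) ⊕ κ → F) → ((Fin m ⊕ Fin m) ⊕ κ → F) → F := fun x y =>
    (∑ i, (x (.inl (.inl i)) * y (.inl (.inr i)) + x (.inl (.inr i)) * y (.inl (.inl i)))) +
      B₀ (x ∘ Sum.inr) (y ∘ Sum.inr)
  have hP : ∀ x y, P (M *ᵥ x) (M *ᵥ y) = P x y := fun x y => by
    have h1 := S.bilin C C₀ ((g : GL ι F).val *ᵥ ψ.symm x) ((g : GL ι F).val *ᵥ ψ.symm y)
    rw [C.B_act g.2, S.bilin C C₀, LinearEquiv.apply_symm_apply, LinearEquiv.apply_symm_apply, ← hT, ← hT] at h1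
    exact h1.symm
  have hcol : ∀ (s : (Fin m ⊕ Fin m) ⊕ κ) t, M s t = (M *ᵥ Pi.single t 1) s := fun s t => by
    rw [Matrix.mulVec_single_one]; rfl
  -- the columns of the subspace
  have h1 : ∀ j : Fin m, ∃ a, M *ᵥ Pi.single (Sum.inl (Sum.inl j)) 1 = inHalf F m κ a := fun j => by
    have e : ψ.symm (Pi.single (Sum.inl (Sum.inl j)) 1) ∈ stdTS ψ := ⟨Pi.single j 1, by
      refine congrArg ψ.symm (funext fun t => ?_)
      rcases t with (t | t) | t <;> simp [inHalf, Pi.single_apply]⟩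
    obtain ⟨a, ha⟩ := hinv _ e
    exact ⟨a, by rw [hT, ← ha]; exact ψ.apply_symm_apply _⟩
  let A : Matrix (Fin m) (Fin m) F := Matrix.of fun i j => M (.inl (.inl i)) (.inl (.inl j))
  have hb0 : ∀ i j : Fin m, M (.inl (.inr i)) (.inl (.inl j)) = 0 := fun i j => by
    obtain ⟨a, ha⟩ := h1 j
    rw [hcol, ha]; rfl
  have hc0 : ∀ (k : κ) (j : Fin m), M (.inr k) (.inl (.inl j)) = 0 := fun k j => by
    obtain ⟨a, ha⟩ := h1 j
    rw [hcol, ha]; rfl
  have hrow : ∀ (a : Fin m) t, ∑ i, A i a * M (.inl (.inr i)) t =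
      (Pi.single t 1 : (Fin m ⊕ Fin m) ⊕ κ → F) (.inl (.inr a)) := fun a t => by
    have h := hP (Pi.single (Sum.inl (Sum.inl a)) 1) (Pi.single t 1)
    have e1 : (Pi.single (Sum.inl (Sum.inl a)) (1 : F) : (Fin m ⊕ Fin m) ⊕ κ → F) ∘ Sum.inr = 0 :=
      funext fun k => by simp
    have e2 : (M *ᵥ Pi.single (Sum.inl (Sum.inl a)) 1) ∘ Sum.inr = 0 := funext fun k => by
      rw [Function.comp_apply, ← hcol, hc0]; rfl
    simp only [P, e1, e2, map_zero, LinearMap.zero_apply, add_zero, ← hcol, hb0, zero_mul] at h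
    refine h.trans ?_
    rw [Finset.sum_eq_single a (fun i _ hi => by simp [hi]) (by simp)]
    simp
  let D : Matrix (Fin m) (Fin m) F := Matrix.of fun i j => M (.inl (.inr i)) (.inl (.inr j))
  have hAD : Aᵀ * D = 1 := Matrix.ext fun a b => by
    rw [Matrix.mul_apply, Matrix.one_apply]
    simp only [Matrix.transpose_apply, D, Matrix.of_apply, hrow]
    simp [Pi.single_apply]
  let C1 : Matrix (Fin m) κ F := Matrix.of fun i k => M (.inl (.inr i)) (.inr k)
  have hC1 : C1 = 0 := by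
    have hz : Aᵀ * C1 = 0 := Matrix.ext fun a k => by
      rw [Matrix.mul_apply]
      simp only [Matrix.transpose_apply, C1, Matrix.of_apply, hrow]
      simp
    rw [← Matrix.one_mul C1, ← mul_eq_one_comm.1 hAD, Matrix.mul_assoc, hz, Matrix.mul_zero]
  let G : Matrix κ κ F := Matrix.of fun k l => M (.inr k) (.inr l)
  have hG : ∀ x, Q₀ (G *ᵥ x) = Q₀ x := fun x => by
    let v : (Fin m ⊕ Fin m) ⊕ κ → F := Sum.elim 0 x
    have e1 : ∀ i, (M *ᵥ v) (.inl (.inr i)) = 0 := fun i => by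
      simp only [Matrix.mulVec, dotProduct, Fintype.sum_sum_type, v, Sum.elim_inl, Sum.elim_inr, Pi.zero_apply,
        mul_zero, Finset.sum_const_zero, zero_add]
      refine Finset.sum_eq_zero fun k _ => ?_
      rw [show M (.inl (.inr i)) (.inr k) = C1 i k from rfl, hC1, Matrix.zero_apply, zero_mul]
    have e2 : (M *ᵥ v) ∘ Sum.inr = G *ᵥ x := funext fun k => by
      simp [Matrix.mulVec, dotProduct, Fintype.sum_sum_type, v, G]
    have h := mem_iso.1 g.2 (ψ.symm v)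
    rw [S.eq, S.eq, ← hT, LinearEquiv.apply_symm_apply, e2] at h
    simpa [Cfsg.quadFormPlus, e1, v] using h
  -- triangular form
  let e : (Fin m ⊕ Fin m) ⊕ κ ≃ Fin m ⊕ (κ ⊕ Fin m) :=
    (Equiv.sumAssoc _ _ _).trans (Equiv.sumCongr (Equiv.refl _) (Equiv.sumComm _ _))
  let X : Matrix (Fin m) (κ ⊕ Fin m) F := Matrix.of fun i t => M (.inl (.inl i)) (e.symm (.inr t))
  let Y : Matrix κ (Fin m) F := Matrix.of fun k j => M (.inr k) (.inl (.inr j))
  have hblk : Matrix.reindexAlgEquiv F F e M = Matrix.fromBlocks A X 0 (Matrix.fromBlocks G Y 0 D) := by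
    ext (i | k | i) (j | l | j)
    all_goals try rfl
    · exact hc0 _ _
    · exact hb0 _ _
    · exact congrFun (congrFun hC1 i) l
  have hblkr := congrArg (fun N => N ^ r) hblk
  obtain ⟨X', hX'⟩ := fromBlocks_upper_pow A X (Matrix.fromBlocks G Y 0 D) r
  obtain ⟨Y', hY'⟩ := fromBlocks_upper_pow G Y D r
  rw [← map_pow, hpow, map_one, hX', hY', ← Matrix.fromBlocks_one, ← Matrix.fromBlocks_one,
    Matrix.fromBlocks_inj, Matrix.fromBlocks_inj] at hblkr
  obtain ⟨hA, -, -, hGr, -, -, -⟩ := hblkr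
  have hD : D = (A ^ (r - 1))ᵀ := by
    calc D = (A * A ^ (r - 1))ᵀ * D := by rw [← pow_succ', Nat.sub_add_cancel hr, ← hA]; simp
      _ = (A ^ (r - 1))ᵀ := by rw [Matrix.transpose_mul, Matrix.mul_assoc, hAD, Matrix.mul_one]
  let u : GL κ F := Units.ofPowEqOne G r hGr.symm (by omega)
  refine ⟨A, ⟨u, mem_iso.2 hG⟩, hA.symm, Subtype.ext (Units.pow_ofPowEqOne hGr.symm (by omega)), ?_⟩
  show _ = A.charpoly * (A ^ (r - 1)).charpoly * G.charpoly
  rw [← hcp, ← Matrix.charpoly_reindex e M,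
    show Matrix.reindex e e M = Matrix.fromBlocks A X 0 (Matrix.fromBlocks G Y 0 D) from hblk,
    Matrix.charpoly_fromBlocks_zero₂₁, Matrix.charpoly_fromBlocks_zero₂₁, hD, Matrix.charpoly_transpose]
  ring

theorem exists_map_stdTS [Finite F] (C : Space Q B) (C₀ : Space Q₀ B₀) (S : IsSplit Q Q₀ m ψ)
    {W : Submodule F (ι → F)} (hWm : finrank F W = m) (hW : ∀ w ∈ W, Q w = 0) :
    ∃ h : ↥(Cfsg.isometryGroup F Q), img (h : GL ι F) (stdTS ψ) = W := by
  let e : stdTS ψ ≃ₗ[F] W := LinearEquiv.ofFinrankEq _ _ (finrank_stdTS.trans hWm.symm)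
  obtain ⟨h, hh, -⟩ := Cfsg.Lib.H3.exists_img_eq C e fun u => by
    rw [hW _ (e u).2, S.stdTS_singular C₀ _ u.2]
  exact ⟨h, hh⟩

theorem isConj_of_charpoly [Fintype F] (C : Space Q B) {r : ℕ} (hrF : (r : F) ≠ 0) (hodd : Odd r)
    (a b : ↥(Cfsg.isometryGroup F Q)) (ha : a ^ r = 1) (hb : b ^ r = 1)
    (h : ((a : GL ι F) : Matrix ι ι F).charpoly = ((b : GL ι F) : Matrix ι ι F).charpoly) : IsConj a b := by
  let R := Matrix.reindexAlgEquiv F F (Fintype.equivFin ι)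
  let ρ : ↥(Cfsg.isometryGroup F Q) →* Matrix (Fin (Fintype.card ι)) (Fin (Fintype.card ι)) F :=
    R.toAlgHom.toRingHom.toMonoidHom.comp ((Units.coeHom _).comp (Cfsg.isometryGroup F Q).subtype)
  have hρ : ∀ x, (ρ x).charpoly = ((x : GL ι F) : Matrix ι ι F).charpoly := fun x => Matrix.charpoly_reindex _ _
  refine Cfsg.Agent.Lib.Linear.OrthConj.isConj_isometry C a b hrF hodd ha ?_
  have h' := Cfsg.Lib.CanonicalForm.isConj_of_charpoly_eq (A := ρ a) (B := ρ b) r r hrF hrF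
    (by rw [← map_pow, ha, map_one]) (by rw [← map_pow, hb, map_one]) (by rw [hρ, hρ, h])
  simpa [ρ, R] using MonoidHom.map_isConj R.symm.toAlgHom.toRingHom.toMonoidHom h'

variable [Fintype F] {L : Type u} [Field L] [Algebra F L] [IsAlgClosed L] {r : ℕ} [Fact r.Prime] {ζ : L}

omit [Fintype F] in
theorem charpoly_pow_pred (hζ : IsPrimitiveRoot ζ r) (hrL : (r : L) ≠ 0) {k : ℕ} (A : Matrix (Fin k) (Fin k) F)
    (hA : A ^ r = 1) {μ : ZMod r → ℕ} (hμ : A.charpoly.map (algebraMap F L) = Pm ζ μ) :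
    (A ^ (r - 1)).charpoly.map (algebraMap F L) = Pm ζ fun x => μ (-x) := by
  have h1 := charpoly_inv hζ hrL (A.map (algebraMap F L)) ((A ^ (r - 1)).map (algebraMap F L))
    (by rw [← RingHom.mapMatrix_apply, ← map_pow, hA, map_one])
    (by rw [← Matrix.map_mul, ← pow_succ', Nat.sub_add_cancel (Fact.out : r.Prime).one_le, hA,
      Matrix.map_one _ (map_zero _) (map_one _)]) μ (by rw [Matrix.charpoly_map]; exact hμ)
  rwa [Matrix.charpoly_map] at h1

/-- When an isometry of order dividing `r` fixes a totally singular subspace. -/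
theorem fixesQ_iff (C : Space Q B) (C₀ : Space Q₀ B₀) (S : IsSplit Q Q₀ m ψ) (hζ : IsPrimitiveRoot ζ r)
    (hrL : (r : L) ≠ 0) (hrF : (r : F) ≠ 0) (hr2 : r ≠ 2) {uq : (ZMod r)ˣ}
    (huq : (uq : ZMod r) = (Fintype.card F : ZMod r)) (g : ↥(Cfsg.isometryGroup F Q)) (hg : g ^ r = 1)
    {f : ZMod r → ℕ} (hf : ((g : GL ι F) : Matrix ι ι F).charpoly.map (algebraMap F L) = Pm ζ f) :
    FixesQ Q m ((g : GL ι F) : Matrix ι ι F) ↔
      ∃ μ : ZMod r → ℕ, Inv uq m μ ∧ (∀ x, μ x + μ (-x) ≤ f x) ∧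
        ∃ g₀ : ↥(Cfsg.isometryGroup F Q₀), g₀ ^ r = 1 ∧
          ((g₀ : GL κ F) : Matrix κ κ F).charpoly.map (algebraMap F L) = Pm ζ fun x => f x - (μ x + μ (-x)) := by
  classical
  have hr1 : r - 1 + 1 = r := Nat.sub_add_cancel (Fact.out : r.Prime).one_le
  constructor
  · rintro ⟨W, hWm, hW, hinv⟩
    obtain ⟨h, hh⟩ := exists_map_stdTS C C₀ S hWm hW
    have hstab : ∀ w ∈ stdTS ψ, ((h⁻¹ * g * h : ↥(Cfsg.isometryGroup F Q)) : GL ι F).val *ᵥ w ∈ stdTS ψ := by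
      intro w hw
      have h1 : (g : GL ι F).val *ᵥ ((h : GL ι F).val *ᵥ w) ∈ W := by
        refine hinv ⟨_, ?_, Matrix.toLin'_apply _ _⟩
        rw [SetLike.mem_coe, ← hh]
        exact Submodule.mem_map_of_mem hw
      rw [← hh, mem_img] at h1
      rw [Subgroup.coe_mul, Subgroup.coe_mul, mul_act, mul_act]
      exact h1
    obtain ⟨A, g₀, hA, hg₀, hcp⟩ := exists_split_of_stab C C₀ S (Fact.out : r.Prime).one_le (h⁻¹ * g * h)
      (by rw [show h⁻¹ * g * h = h⁻¹ * g * (h⁻¹)⁻¹ by rw [inv_inv], conj_pow, hg, mul_one, mul_inv_cancel]) hstab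
    rw [Subgroup.coe_mul, Subgroup.coe_mul, Units.val_mul, Units.val_mul, Matrix.charpoly_mul_comm,
      ← Matrix.mul_assoc, ← Units.val_mul, ← Subgroup.coe_mul, mul_inv_cancel, Subgroup.coe_one,
      Units.val_one, Matrix.one_mul] at hcp
    obtain ⟨μ, hμ, hs⟩ := exists_mult (L := L) hζ A hA
    let R := Matrix.reindexAlgEquiv F F (Fintype.equivFin κ)
    obtain ⟨ρ, hρ, -⟩ := exists_mult (L := L) hζ (R ((g₀ : GL κ F) : Matrix κ κ F))
      (by rw [← map_pow, ← Units.val_pow_eq_pow_val, ← SubmonoidClass.coe_pow, hg₀]; exact map_one R)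
    rw [show (R ((g₀ : GL κ F) : Matrix κ κ F)).charpoly = ((g₀ : GL κ F) : Matrix κ κ F).charpoly from
      Matrix.charpoly_reindex _ _] at hρ
    rw [hcp, Polynomial.map_mul, Polynomial.map_mul, hμ, charpoly_pow_pred hζ hrL A hA hμ, hρ, ← Pm_add,
      ← Pm_add] at hf
    have he := Pm_inj hζ hf
    refine ⟨μ, ⟨hs, fun x => Pm_frob_invariant hζ huq μ _ hμ x⟩, fun x => ?_, g₀, hg₀, ?_⟩
    · rw [← he]
      show μ x + μ (-x) ≤ μ x + μ (-x) + ρ x
      omega
    · rw [hρ]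
      congr 1
      funext x
      rw [← he]
      show ρ x = μ x + μ (-x) + ρ x - (μ x + μ (-x))
      omega
  · rintro ⟨μ, hμ, hle, g₀, hg₀, hg₀p⟩
    obtain ⟨A, hA, hAp⟩ := exists_linear (F := F) hζ huq uq ⟨1, (pow_one uq).symm⟩ hμ
    let u : GL (Fin m) F := Units.ofPowEqOne A r hA (Fact.out : r.Prime).ne_zero
    have hu : u ^ r = 1 := Units.pow_ofPowEqOne _ _
    have hinvu : ((u⁻¹ : GL (Fin m) F) : Matrix (Fin m) (Fin m) F) = A ^ (r - 1) := by
      rw [inv_eq_of_mul_eq_one_right (show u * u ^ (r - 1) = 1 by rw [← pow_succ', hr1, hu]),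
        Units.val_pow_eq_pow_val]
      rfl
    let M : Matrix ((Fin m ⊕ Fin m) ⊕ κ) ((Fin m ⊕ Fin m) ⊕ κ) F :=
      Matrix.fromBlocks ((lev m u : ↥(Cfsg.isometryGroup F (Cfsg.quadFormPlus m F))) : GL (Fin m ⊕ Fin m) F).val 0 0
        ((g₀ : GL κ F) : Matrix κ κ F)
    let T : (ι → F) →ₗ[F] (ι → F) := (ψ.symm : ((Fin m ⊕ Fin m) ⊕ κ → F) →ₗ[F] _) ∘ₗ Matrix.toLin' M ∘ₗ
      (ψ : (ι → F) →ₗ[F] _)
    let N := LinearMap.toMatrix' T
    have hN : ∀ v, ψ (N *ᵥ v) = M *ᵥ ψ v := fun v => by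
      rw [LinearMap.toMatrix'_mulVec]; simp [T]
    have hM : M ^ r = 1 := by
      rw [fromBlocks_pow, ← Units.val_pow_eq_pow_val, ← SubmonoidClass.coe_pow, ← map_pow, hu, map_one,
        ← Units.val_pow_eq_pow_val, ← SubmonoidClass.coe_pow, hg₀]
      simp
    have hNr : N ^ r = 1 := by
      have h1 : ∀ (k : ℕ) v, ψ ((N ^ k) *ᵥ v) = (M ^ k) *ᵥ ψ v := fun k => by
        induction k with
        | zero => intro v; simp
        | succ k ih => intro v; rw [pow_succ', pow_succ', ← Matrix.mulVec_mulVec, hN, ih, Matrix.mulVec_mulVec]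
      refine mat_ext fun v => ψ.injective ?_
      rw [h1, hM, Matrix.one_mulVec, Matrix.one_mulVec]
    let gN : GL ι F := Units.ofPowEqOne N r hNr (Fact.out : r.Prime).ne_zero
    have hgN : gN ∈ Cfsg.isometryGroup F Q := mem_iso.2 fun v => by
      show Q (N *ᵥ v) = Q v
      rw [S.eq, S.eq, hN]
      show Cfsg.quadFormPlus m F ((M *ᵥ ψ v) ∘ Sum.inl) + Q₀ ((M *ᵥ ψ v) ∘ Sum.inr) = _
      simp only [M, Matrix.fromBlocks_mulVec, Sum.elim_comp_inl, Sum.elim_comp_inr, Matrix.zero_mulVec, add_zero,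
        zero_add]
      rw [mem_iso.1 (lev m u).2, mem_iso.1 g₀.2]
    have hcpN : N.charpoly = M.charpoly := by
      rw [← LinearMap.charpoly_toMatrix T (Pi.basisFun F _) |>.trans (LinearEquiv.charpoly_conj ψ.symm (Matrix.toLin' M))
        |>.trans (Matrix.charpoly_toLin' M)]
      rfl
    have hgp : N.charpoly.map (algebraMap F L) = Pm ζ f := by
      rw [hcpN, Matrix.charpoly_fromBlocks_zero₁₂, lev_val, Matrix.charpoly_fromBlocks_zero₁₂, hinvu,
        Matrix.charpoly_transpose, Polynomial.map_mul, Polynomial.map_mul, hg₀p,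
        show (u : Matrix (Fin m) (Fin m) F) = A from rfl, hAp, charpoly_pow_pred hζ hrL A hA hAp, ← Pm_add, ← Pm_add]
      congr 1
      funext x
      show μ x + μ (-x) + (f x - (μ x + μ (-x))) = f x
      have := hle x
      omega
    obtain ⟨a, ha⟩ := isConj_iff.1 (isConj_of_charpoly C hrF ((Fact.out : r.Prime).odd_of_ne_two hr2) ⟨gN, hgN⟩ g
      (Subtype.ext (Units.pow_ofPowEqOne hNr (Fact.out : r.Prime).ne_zero)) hg
      (Polynomial.map_injective _ (algebraMap F L).injective (hgp.trans hf.symm)))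
    refine ⟨img (a : GL ι F) (stdTS ψ), (finrank_img _ _).trans finrank_stdTS, fun w hw => ?_, ?_⟩
    · rw [mem_img] at hw
      rw [← act_inv (a : GL ι F) w, mem_iso.1 a.2]
      exact S.stdTS_singular C₀ _ hw
    · rintro _ ⟨w, hw, rfl⟩
      rw [SetLike.mem_coe, mem_img] at hw
      obtain ⟨x, hx⟩ := hw
      rw [mem_img, Matrix.toLin'_apply, ← ha, Subgroup.coe_mul, Subgroup.coe_mul, mul_act, mul_act,
        inv_act, Subgroup.coe_inv, ← hx]
      refine ⟨A *ᵥ x, ψ.injective ?_⟩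
      show ψ (ψ.symm (inHalf F m κ (A *ᵥ x))) = ψ (N *ᵥ ψ.symm (inHalf F m κ x))
      rw [hN, LinearEquiv.apply_symm_apply, LinearEquiv.apply_symm_apply]
      funext t
      simp only [M, lev_val, Matrix.fromBlocks_mulVec]
      rcases t with (t | t) | t <;>
        simp [inHalf, Function.comp_def, show (u : Matrix (Fin m) (Fin m) F) = A from rfl,
          show (fun _ : κ => (0 : F)) = 0 from rfl, show (fun _ : Fin m => (0 : F)) = 0 from rfl]

end Cfsg.Lib.Linear.IsoFix
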