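import Cfsg.Agent.Lib.Linear.IsotropicFix.Orth
import Mathlib.LinearAlgebra.Matrix.GeneralLinearGroup.Card

/-!
# Counting totally singular subspaces through frames
-/

set_option autoImplicit false

universe u

namespace Cfsg.Lib.Linear.IsoFix

open Module Cfsg.Lib.Linear.Orth
open scoped Matrix

variable {F : Type u} [Field F] [Fintype F] {ι : Type} [Fintype ι] [DecidableEq ι]
  {Q : (ι → F) → F} {B : LinearMap.BilinForm F (ι → F)}

/-- Linearly independent tuples spanning totally singular subspaces. -/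
abbrev TSFrame (Q : (ι → F) → F) (j : ℕ) : Type u :=
  {t : Fin j → ι → F // LinearIndependent F t ∧ ∀ w ∈ Submodule.span F (Set.range t), Q w = 0}

/-- Totally singular subspaces of dimension `j`. -/
abbrev TSSub (Q : (ι → F) → F) (j : ℕ) : Type u :=
  {W : Submodule F (ι → F) // finrank F ↥W = j ∧ ∀ w ∈ W, Q w = 0}

theorem card_tsFrame (j : ℕ) :
    Nat.card (TSFrame Q j) =
      Nat.card (TSSub Q j) * ∏ i : Fin j, (Fintype.card F ^ j - Fintype.card F ^ (i : ℕ)) := by
  classical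
  haveI : Finite (TSSub Q j) := inferInstanceAs (Finite {W : Submodule F (ι → F) // _})
  have hfib : ∀ W : TSSub Q j, Nat.card {t : Fin j → ι → F // LinearIndependent F t ∧ ∀ i, t i ∈ W.1} =
      ∏ i : Fin j, (Fintype.card F ^ j - Fintype.card F ^ (i : ℕ)) := fun W => by
    letI : Fintype W.1 := Fintype.ofFinite _
    let e : {t : Fin j → ι → F // LinearIndependent F t ∧ ∀ i, t i ∈ W.1} ≃
        {s : Fin j → W.1 // LinearIndependent F s} :=
      { toFun := fun t => ⟨fun i => ⟨t.1 i, t.2.2 i⟩, LinearIndependent.of_comp W.1.subtype t.2.1⟩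
        invFun := fun s => ⟨fun i => (s.1 i : ι → F), s.2.map' W.1.subtype W.1.ker_subtype, fun i => (s.1 i).2⟩
        left_inv := fun t => rfl
        right_inv := fun s => rfl }
    rw [Nat.card_congr e, card_linearIndependent (by rw [W.2.1]), W.2.1]
  have hrange : ∀ (W : TSSub Q j) (t : Fin j → ι → F), LinearIndependent F t → (∀ i, t i ∈ W.1) →
      Submodule.span F (Set.range t) = W.1 := fun W t ht hW => by
    refine Submodule.eq_of_le_of_finrank_eq (Submodule.span_le.2 (by rintro _ ⟨i, rfl⟩; exact hW i)) ?_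
    exact ((finrank_span_eq_card ht).trans (Fintype.card_fin j)).trans W.2.1.symm
  let e : TSFrame Q j ≃ Σ W : TSSub Q j, {t : Fin j → ι → F // LinearIndependent F t ∧ ∀ i, t i ∈ W.1} :=
    { toFun := fun t => ⟨⟨Submodule.span F (Set.range t.1),
          (finrank_span_eq_card t.2.1).trans (Fintype.card_fin j), t.2.2⟩,
        t.1, t.2.1, fun i => Submodule.subset_span ⟨i, rfl⟩⟩
      invFun := fun p => ⟨p.2.1, p.2.2.1, fun w hw => p.1.2.2 w (hrange p.1 p.2.1 p.2.2.1 p.2.2.2 ▸ hw)⟩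
      left_inv := fun t => rfl
      right_inv := fun p => Sigma.subtype_ext (Subtype.ext (hrange p.1 p.2.1 p.2.2.1 p.2.2.2)) rfl }
  rw [Nat.card_congr e]
  letI : Fintype (TSSub Q j) := Fintype.ofFinite _
  rw [Nat.card_sigma, Finset.sum_congr rfl fun W _ => hfib W, Finset.sum_const, Finset.card_univ, smul_eq_mul,
    Nat.card_eq_fintype_card]

variable {κ : Type} [Fintype κ] [DecidableEq κ] {Q₀ : (κ → F) → F} {B₀ : LinearMap.BilinForm F (κ → F)}

theorem card_extensions {j : ℕ} {ψ : (ι → F) ≃ₗ[F] ((Fin j ⊕ Fin j) ⊕ κ → F)} (C : Space Q B)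
    (C₀ : Space Q₀ B₀) (S : IsSplit Q Q₀ j ψ) {W : Submodule F (ι → F)} (hWj : finrank F W = j)
    (hW : ∀ w ∈ W, Q w = 0) :
    Nat.card {v : ι → F // v ∉ W ∧ Q v = 0 ∧ ∀ w ∈ W, B w v = 0} =
      Fintype.card F ^ j * (Nat.card {u : κ → F // Q₀ u = 0} - 1) := by
  classical
  obtain ⟨h, hh⟩ := exists_map_stdTS C C₀ S hWj hW
  let L : (ι → F) ≃ₗ[F] ((Fin j ⊕ Fin j) ⊕ κ → F) :=
    (LinearEquiv.ofBijective (Matrix.mulVecLin ((h⁻¹ : ↥(Cfsg.isometryGroup F Q)) : GL ι F).val)
      ⟨act_injective _, fun v => ⟨(h : GL ι F).val *ᵥ v, by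
        rw [Matrix.mulVecLin_apply, Subgroup.coe_inv, inv_act]⟩⟩).trans ψ
  have hL : ∀ v, L v = ψ (((h⁻¹ : ↥(Cfsg.isometryGroup F Q)) : GL ι F).val *ᵥ v) := fun v => rfl
  have hQ : ∀ v, Q v = Cfsg.quadFormPlus j F (L v ∘ Sum.inl) + Q₀ (L v ∘ Sum.inr) := fun v => by
    rw [hL, ← S.eq, mem_iso.1 (h⁻¹).2]
  have hB : ∀ u v, B u v = (∑ i, (L u (.inl (.inl i)) * L v (.inl (.inr i)) + L u (.inl (.inr i)) * L v (.inl (.inl i)))) +
      B₀ (L u ∘ Sum.inr) (L v ∘ Sum.inr) := fun u v => by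
    rw [hL, hL, ← S.bilin C C₀, C.B_act (h⁻¹).2]
  have hmem : ∀ v, v ∈ W ↔ (∀ i, L v (.inl (.inr i)) = 0) ∧ L v ∘ Sum.inr = 0 := fun v => by
    rw [← hh, mem_img]
    constructor
    · rintro ⟨a, ha⟩
      rw [hL, Subgroup.coe_inv, ← ha]
      simp [inHalf, funext_iff]
    · rintro ⟨h1, h2⟩
      refine ⟨fun i => L v (.inl (.inl i)), ψ.injective ?_⟩
      rw [LinearMap.comp_apply, LinearEquiv.coe_coe, LinearEquiv.apply_symm_apply, ← Subgroup.coe_inv, ← hL]
      funext t
      rcases t with (t | t) | t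
      · rfl
      · exact (h1 t).symm
      · exact (congrFun h2 t).symm
  have hperp : ∀ v, (∀ w ∈ W, B w v = 0) ↔ ∀ i, L v (.inl (.inr i)) = 0 := fun v => by
    constructor
    · intro hv i
      have hw : L.symm (inHalf F j κ (Pi.single i 1)) ∈ W := (hmem _).2 (by
        simp [inHalf, funext_iff])
      have h1 := hv _ hw
      rw [hB, LinearEquiv.apply_symm_apply, show inHalf F j κ (Pi.single i 1) ∘ Sum.inr = 0 from rfl, map_zero,
        LinearMap.zero_apply, add_zero] at h1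
      simpa [inHalf, Pi.single_apply] using h1
    · intro hv w hw
      obtain ⟨h1, h2⟩ := (hmem w).1 hw
      rw [hB, h2, map_zero, LinearMap.zero_apply, add_zero]
      simp [hv, h1]
  have hq0 : ∀ v, (∀ i, L v (.inl (.inr i)) = 0) → Q v = Q₀ (L v ∘ Sum.inr) := fun v hv => by
    rw [hQ]; simp [Cfsg.quadFormPlus, hv]
  let e : {v : ι → F // v ∉ W ∧ Q v = 0 ∧ ∀ w ∈ W, B w v = 0} ≃
      (Fin j → F) × {u : κ → F // Q₀ u = 0 ∧ u ≠ 0} :=
    { toFun := fun v => ⟨fun i => L v.1 (.inl (.inl i)), L v.1 ∘ Sum.inr,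
        by rw [← hq0 _ ((hperp _).1 v.2.2.2)]; exact v.2.2.1,
        fun h0 => v.2.1 ((hmem _).2 ⟨(hperp _).1 v.2.2.2, h0⟩)⟩
      invFun := fun p => ⟨L.symm (Sum.elim (Sum.elim p.1 0) p.2.1),
        fun h0 => p.2.2.2 (by
          have := ((hmem _).1 h0).2
          rwa [LinearEquiv.apply_symm_apply, Sum.elim_comp_inr] at this),
        by rw [hq0 _ (fun i => by simp), LinearEquiv.apply_symm_apply, Sum.elim_comp_inr]; exact p.2.2.1,
        (hperp _).2 fun i => by simp⟩
      left_inv := fun v => Subtype.ext (L.injective (by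
        rw [LinearEquiv.apply_symm_apply]
        funext t
        rcases t with (t | t) | t
        · rfl
        · exact ((hperp _).1 v.2.2.2 t).symm
        · rfl))
      right_inv := fun p => by
        refine Prod.ext ?_ (Subtype.ext ?_)
        · funext i; simp
        · simp [Function.comp_def] }
  rw [Nat.card_congr e, Nat.card_prod, Nat.card_fun, Nat.card_fin, Nat.card_eq_fintype_card (α := F),
    Cfsg.Agent.Lib.Linear.PrimeClasses.card_subtype_sub_one (S := fun u => Q₀ u = 0) C₀.zero]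

theorem frame_step (C : Space Q B) {j N : ℕ}
    (hN : ∀ W : Submodule F (ι → F), finrank F W = j → (∀ w ∈ W, Q w = 0) →
      Nat.card {v : ι → F // v ∉ W ∧ Q v = 0 ∧ ∀ w ∈ W, B w v = 0} = N) :
    Nat.card (TSFrame Q (j + 1)) = Nat.card (TSFrame Q j) * N := by
  classical
  have hTS : ∀ (t : Fin j → ι → F) (v : ι → F),
      (∀ w ∈ Submodule.span F (Set.range (Fin.snoc t v : Fin (j + 1) → ι → F)), Q w = 0) ↔
        (∀ w ∈ Submodule.span F (Set.range t), Q w = 0) ∧ Q v = 0 ∧
          ∀ w ∈ Submodule.span F (Set.range t), B w v = 0 := by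
    intro t v
    rw [Fin.range_snoc, Submodule.span_insert]
    constructor
    · intro h
      refine ⟨fun w hw => h w (Submodule.mem_sup_right hw),
        h v (Submodule.mem_sup_left (Submodule.mem_span_singleton_self v)), fun w hw => ?_⟩
      exact ts_orth C h (Submodule.mem_sup_right hw) (Submodule.mem_sup_left (Submodule.mem_span_singleton_self v))
    · rintro ⟨h1, h2, h3⟩ x hx
      obtain ⟨y, hy, w, hw, rfl⟩ := Submodule.mem_sup.1 hx
      obtain ⟨a, rfl⟩ := Submodule.mem_span_singleton.1 hy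
      rw [C.add, C.smul, h1 w hw, h2, map_smul, LinearMap.smul_apply, C.symm, h3 w hw]
      simp
  let e : TSFrame Q (j + 1) ≃ Σ t : TSFrame Q j, {v : ι → F // v ∉ Submodule.span F (Set.range t.1) ∧ Q v = 0 ∧
      ∀ w ∈ Submodule.span F (Set.range t.1), B w v = 0} :=
    { toFun := fun t =>
        have h := t.2
        have h1 : LinearIndependent F (Fin.init t.1) ∧ t.1 (Fin.last j) ∉ Submodule.span F (Set.range (Fin.init t.1)) :=
          linearIndependent_finSnoc.1 (by rw [Fin.snoc_init_self]; exact h.1)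
        have h2 := (hTS (Fin.init t.1) (t.1 (Fin.last j))).1 (by rw [Fin.snoc_init_self]; exact h.2)
        ⟨⟨Fin.init t.1, h1.1, h2.1⟩, t.1 (Fin.last j), h1.2, h2.2⟩
      invFun := fun p => ⟨Fin.snoc p.1.1 p.2.1, linearIndependent_finSnoc.2 ⟨p.1.2.1, p.2.2.1⟩,
        (hTS _ _).2 ⟨p.1.2.2, p.2.2.2⟩⟩
      left_inv := fun t => Subtype.ext (Fin.snoc_init_self t.1)
      right_inv := fun p => by
        obtain ⟨⟨t, ht⟩, v, hv⟩ := p
        refine Sigma.subtype_ext (Subtype.ext ?_) ?_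
        · show Fin.init (Fin.snoc t v : Fin (j + 1) → ι → F) = t
          exact Fin.init_snoc _ _
        · show (Fin.snoc t v : Fin (j + 1) → ι → F) (Fin.last j) = v
          exact Fin.snoc_last _ _ }
  haveI : Finite (TSFrame Q j) := inferInstanceAs (Finite {t : Fin j → ι → F // _})
  letI : Fintype (TSFrame Q j) := Fintype.ofFinite _
  rw [Nat.card_congr e, Nat.card_sigma, Finset.sum_congr rfl fun t _ => hN _
    ((finrank_span_eq_card t.2.1).trans (Fintype.card_fin j)) t.2.2, Finset.sum_const, Finset.card_univ, smul_eq_mul,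
    Nat.card_eq_fintype_card]

theorem card_tsFrame_prod (C : Space Q B) (z : ℕ → ℕ) (m : ℕ)
    (hz : ∀ j < m, ∀ W : Submodule F (ι → F), finrank F W = j → (∀ w ∈ W, Q w = 0) →
      Nat.card {v : ι → F // v ∉ W ∧ Q v = 0 ∧ ∀ w ∈ W, B w v = 0} = Fintype.card F ^ j * z j) :
    Nat.card (TSFrame Q m) = ∏ j ∈ Finset.range m, Fintype.card F ^ j * z j := by
  induction m with
  | zero =>
    rw [Finset.range_zero, Finset.prod_empty, Nat.card_eq_one_iff_unique]
    refine ⟨⟨fun a b => Subtype.ext (funext fun i => i.elim0)⟩, ⟨⟨Fin.elim0, linearIndependent_empty_type, ?_⟩⟩⟩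
    intro w hw
    rw [Set.range_eq_empty, Submodule.span_empty, Submodule.mem_bot] at hw
    rw [hw, C.zero]
  | succ m ih =>
    rw [frame_step C (hz m (Nat.lt_succ_self m)), ih fun j hj => hz j (Nat.lt_succ_of_lt hj), Finset.prod_range_succ]

/-- A prime divisor of the number of totally singular `m`-spaces divides one of the local counts. -/
theorem exists_dvd_local (C : Space Q B) (z : ℕ → ℕ) (m : ℕ)
    (hz : ∀ j < m, ∀ W : Submodule F (ι → F), finrank F W = j → (∀ w ∈ W, Q w = 0) →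
      Nat.card {v : ι → F // v ∉ W ∧ Q v = 0 ∧ ∀ w ∈ W, B w v = 0} = Fintype.card F ^ j * z j)
    {r : ℕ} (hr : r.Prime) (h : r ∣ Nat.card (TSSub Q m)) : ∃ j < m, r ∣ z j := by
  have h1 := (card_tsFrame (Q := Q) m).symm.trans (card_tsFrame_prod C z m hz)
  set q := Fintype.card F
  have hprod : ∏ i : Fin m, (q ^ m - q ^ (i : ℕ)) =
      (∏ i ∈ Finset.range m, q ^ i) * ∏ i ∈ Finset.range m, (q ^ (m - i) - 1) := by
    rw [Fin.prod_univ_eq_prod_range (fun i => q ^ m - q ^ i) m, ← Finset.prod_mul_distrib]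
    refine Finset.prod_congr rfl fun i hi => ?_
    rw [Nat.mul_sub, mul_one, ← pow_add, Nat.add_sub_cancel' (Finset.mem_range.1 hi).le]
  rw [hprod, Finset.prod_mul_distrib, mul_left_comm] at h1
  have h2 := Nat.eq_of_mul_eq_mul_left (Finset.prod_pos fun i _ => pow_pos Fintype.card_pos i) h1
  obtain ⟨j, hj, hd⟩ := (Prime.dvd_finsetProd_iff hr.prime _).1 (h2 ▸ h.mul_right _ : r ∣ ∏ j ∈ Finset.range m, z j)
  exact ⟨j, Finset.mem_range.1 hj, hd⟩

end Cfsg.Lib.Linear.IsoFix
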