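import Cfsg.Agent.Lib.Linear.IsotropicFix.OrthReduce
import Cfsg.Agent.Lib.Linear.IsotropicFix.CondEven

/-!
# Even dimension: from isometries to the arithmetical condition
-/

set_option autoImplicit false

universe u

namespace Cfsg.Lib.Linear.IsoFix

open Module Polynomial Cfsg.Agent.Lib.Linear.PrimeClasses Cfsg.Lib.Linear.Orth Cfsg.Agent.S5961
open scoped Matrix

variable {F : Type u} [Field F] [Fintype F] {r : ℕ} [Fact r.Prime]

theorem orderOf_dvd_of_sub {i k : ℕ} (hi : i = orderOf (Fintype.card F : ZMod r))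
    (h : r ∣ Fintype.card F ^ k - 1) : i ∣ k := by
  rw [hi]
  refine orderOf_dvd_of_pow_eq_one ?_
  rw [← Nat.cast_pow, ← sub_eq_zero, ← Nat.cast_one, ← Nat.cast_sub (Nat.one_le_pow _ _ Fintype.card_pos)]
  exact (ZMod.natCast_eq_zero_iff _ _).2 h

theorem orderOf_of_add (hr2 : r ≠ 2) {i k : ℕ} (hi : i = orderOf (Fintype.card F : ZMod r))
    (h : r ∣ Fintype.card F ^ k + 1) : Even i ∧ ∃ x, 2 * k = i * x ∧ Odd x := by
  have h1 : (Fintype.card F : ZMod r) ^ k = -1 := by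
    rw [eq_neg_iff_add_eq_zero, ← Nat.cast_pow, ← Nat.cast_one, ← Nat.cast_add]
    exact (ZMod.natCast_eq_zero_iff _ _).2 h
  have h2 : i ∣ 2 * k := by
    rw [hi]
    exact orderOf_dvd_of_pow_eq_one (by rw [mul_comm, pow_mul, h1]; ring)
  have h3 : ¬i ∣ k := fun hd => by
    rw [hi] at hd
    rw [orderOf_dvd_iff_pow_eq_one.1 hd] at h1
    exact neg_ne_self hr2 one_ne_zero h1.symm
  obtain ⟨x, hx⟩ := h2
  rcases Nat.even_or_odd x with ⟨y, rfl⟩ | hodd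
  · exact absurd ⟨y, by rw [← two_mul, ← mul_assoc, mul_comm i 2, mul_assoc] at hx; omega⟩ h3
  · refine ⟨?_, x, hx, hodd⟩
    have : Even (i * x) := hx ▸ even_two_mul k
    exact (Nat.even_mul.1 this).resolve_right (Nat.not_even_iff_odd.2 hodd)

variable {ι κ : Type} [Fintype ι] [DecidableEq ι] [Fintype κ] [DecidableEq κ]
  {Q : (ι → F) → F} {B : LinearMap.BilinForm F (ι → F)} {Q₀ : (κ → F) → F} {B₀ : LinearMap.BilinForm F (κ → F)}
  {m : ℕ} {ψ : (ι → F) ≃ₗ[F] ((Fin m ⊕ Fin m) ⊕ κ → F)}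
  {L : Type u} [Field L] [Algebra F L] [IsAlgClosed L] {ζ : L}

/-- Realisability by parity reduces fixing totally singular subspaces to arithmetic. -/
theorem all_fixes_cond (C : Space Q B) (C₀ : Space Q₀ B₀) (S : IsSplit Q Q₀ m ψ) (hζ : IsPrimitiveRoot ζ r)
    (hrL : (r : L) ≠ 0) (hrF : (r : F) ≠ 0) (hr2 : r ≠ 2) {uq : (ZMod r)ˣ}
    (huq : (uq : ZMod r) = (Fintype.card F : ZMod r)) (w : (ZMod r)ˣ)
    (hw : (w : ZMod r) = (uq : ZMod r) ∨ (w : ZMod r) = -(uq : ZMod r)) (hwq : ∃ k : ℕ, uq = w ^ k)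
    (hwn : ∃ k : ℕ, (-1 : (ZMod r)ˣ) = w ^ k) {i c t : ℕ} (hiu : orderOf uq = i) (hwc : orderOf w = c)
    (hc : c = if Even i then i else 2 * i) (ht : t * i = r - 1) {n n₀ : ℕ}
    (hn : Fintype.card ι = n) (hn₀ : n₀ + 2 * m = n) (P : ℕ → Prop)
    (hP : ∀ A J, P ((A + 2 * (i * J)) / c) ↔ P (A / c))
    (hreal : ∀ f, Inv w n f → ((f 0 ≠ 0 ∨ P (n / c)) ↔ ∃ g : ↥(Cfsg.isometryGroup F Q), g ^ r = 1 ∧
      ((g : GL ι F) : Matrix ι ι F).charpoly.map (algebraMap F L) = Pm ζ f))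
    (hreal₀ : ∀ f, Inv w n₀ f → ((f 0 ≠ 0 ∨ P (n₀ / c)) ↔ ∃ g : ↥(Cfsg.isometryGroup F Q₀), g ^ r = 1 ∧
      ((g : GL κ F) : Matrix κ κ F).charpoly.map (algebraMap F L) = Pm ζ f)) :
    (∀ g : ↥(Cfsg.isometryGroup F Q), g ^ r = 1 → FixesQ Q m ((g : GL ι F) : Matrix ι ι F)) ↔
      Cond n c i t m P := by
  rw [all_fixes_iff C C₀ S hζ hrL hrF hr2 huq w hw hn hn₀ (fun f => f 0 ≠ 0 ∨ P (n / c))
    (fun f => f 0 ≠ 0 ∨ P (n₀ / c)) hreal hreal₀, ← comb_iff hr2 hwq hwn hiu hwc hc ht P]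
  have hok : ∀ f : ZMod r → ℕ, (f 0 ≠ 0 ∨ P ((n - f 0) / c)) ↔ (f 0 ≠ 0 ∨ P (n / c)) := fun f => by
    by_cases h : f 0 = 0
    · rw [h, Nat.sub_zero]
    · simp [h]
  refine forall_congr' fun f => imp_congr_right fun hf => imp_congr (hok f).symm (exists_congr fun μ =>
    and_congr_right fun hμ => and_congr_right fun hle => ?_)
  obtain ⟨J, hJ⟩ := dvd_sum_erase uq hiu _ _ hμ
  have hμ0 : μ 0 ≤ m := hμ.1 ▸ Finset.single_le_sum (f := μ) (fun y _ => Nat.zero_le _) (Finset.mem_univ (0 : ZMod r))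
  show (f 0 - (μ 0 + μ (-0)) ≠ 0 ∨ _) ↔ _
  rw [neg_zero, ← two_mul]
  by_cases h : f 0 - 2 * μ 0 = 0
  · have h0 := hle 0
    rw [neg_zero] at h0
    rw [show n - f 0 = n₀ + 2 * (i * J) by omega, hP]
  · simp [h]

end Cfsg.Lib.Linear.IsoFix
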