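import Cfsg.Agent.Lib.Linear.IsotropicFix.Orth
import Cfsg.Agent.Lib.Linear.OrthSpinorApp

/-!
# Involutions of orthogonal groups in odd characteristic and invariant totally singular subspaces
-/

set_option autoImplicit false

namespace Cfsg.Lib.Linear.IsoFix

open Module Cfsg.Lib.Linear.Orth
open scoped Matrix

variable {F : Type*} [Field F] [Fintype F] {ι : Type} [Fintype ι] [DecidableEq ι]
  {Q : (ι → F) → F} {B : LinearMap.BilinForm F (ι → F)}

/-- Pairwise orthogonal anisotropic vectors. -/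
def OrthList (Q : (ι → F) → F) (B : LinearMap.BilinForm F (ι → F)) (L : List (ι → F)) : Prop :=
  (∀ v ∈ L, Q v ≠ 0) ∧ L.Pairwise fun a b => B a b = 0

omit [Fintype F] in
theorem span_cons_le {L L' : List (ι → F)} (h : ∀ v ∈ L, v ∈ Submodule.span F {x | x ∈ L'}) :
    Submodule.span F {x | x ∈ L} ≤ Submodule.span F {x | x ∈ L'} :=
  Submodule.span_le.2 h

omit [Fintype F] in
theorem orth_span {L : List (ι → F)} {e : ι → F} (h : ∀ v ∈ L, B e v = 0) :
    ∀ x ∈ Submodule.span F {x | x ∈ L}, B e x = 0 := fun _ hx =>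
  (Submodule.span_le.2 (fun v hv => h v hv) : _ ≤ LinearMap.ker (B e)) hx

/-- Totally singular subspaces in the span of pairwise orthogonal anisotropic vectors. -/
theorem exists_sing (C : Space Q B) (h2 : (2 : F) ≠ 0) : ∀ (k : ℕ) (L : List (ι → F)), OrthList Q B L →
    (2 * k < L.length ∨ (2 * k = L.length ∧ IsSquare ((-1) ^ k * (L.map Q).prod))) →
    ∃ W : Submodule F (ι → F), W ≤ Submodule.span F {x | x ∈ L} ∧ finrank F W = k ∧ ∀ w ∈ W, Q w = 0 := by
  classical
  intro k
  induction k with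
  | zero =>
    intro L _ _
    exact ⟨⊥, bot_le, finrank_bot F _, fun w hw => by rw [(Submodule.mem_bot F).1 hw, C.zero]⟩
  | succ k ih =>
    intro L hL hlen
    -- extend a subspace of a shorter list by a singular vector
    have hext : ∀ (e u : ι → F) (L' : List (ι → F)), e ∈ Submodule.span F {x | x ∈ L} → Q e = 0 →
        (∀ v ∈ L', v ∈ Submodule.span F {x | x ∈ L}) → (∀ v ∈ L', B u v = 0) → (∀ v ∈ L', B e v = 0) → B u e ≠ 0 →
        OrthList Q B L' → (2 * k < L'.length ∨ (2 * k = L'.length ∧ IsSquare ((-1) ^ k * (L'.map Q).prod))) →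
        ∃ W : Submodule F (ι → F), W ≤ Submodule.span F {x | x ∈ L} ∧ finrank F W = k + 1 ∧ ∀ w ∈ W, Q w = 0 := by
      intro e u L' he hQe hsub hu hev hue hL' hlen'
      obtain ⟨W, hW, hWk, hWq⟩ := ih L' hL' hlen'
      refine ⟨(F ∙ e) ⊔ W, sup_le ((Submodule.span_singleton_le_iff_mem e _).2 he)
        (hW.trans (span_cons_le hsub)), ?_, fun x hx => ?_⟩
      · have he0 : e ≠ 0 := fun h => hue (by rw [h, map_zero])
        have h1 := Submodule.finrank_sup_add_finrank_inf_eq (F ∙ e) W
        have h3 : (F ∙ e) ⊓ W = ⊥ := eq_bot_iff.2 fun x hx => by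
          obtain ⟨a, rfl⟩ := Submodule.mem_span_singleton.1 hx.1
          have h4 := orth_span hu _ (hW hx.2)
          rw [map_smul, smul_eq_mul, mul_eq_zero, or_iff_left hue] at h4
          simp [h4]
        rw [h3, finrank_bot, add_zero, finrank_span_singleton he0, hWk] at h1
        omega
      · obtain ⟨y, hy, w, hw, rfl⟩ := Submodule.mem_sup.1 hx
        obtain ⟨a, rfl⟩ := Submodule.mem_span_singleton.1 hy
        rw [C.add, C.smul, hQe, hWq w hw, map_smul, LinearMap.smul_apply, orth_span hev _ (hW hw)]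
        simp
    have hmemL : ∀ v ∈ L, v ∈ Submodule.span F {x | x ∈ L} := fun v hv => Submodule.subset_span hv
    match L with
    | [] => simp at hlen
    | [a] => simp at hlen <;> omega
    | [a, b] =>
      have hk : k = 0 ∧ IsSquare ((-1) ^ (k + 1) * ([a, b].map Q).prod) := by
        rcases hlen with h | ⟨h, hs⟩
        · simp at h; omega
        · exact ⟨by simp at h; omega, hs⟩
      obtain ⟨rfl, c, hc⟩ := hk
      simp at hc
      obtain ⟨hQ, hP⟩ := hL
      have hab : B a b = 0 := by simpa using hP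
      have hQb : Q b ≠ 0 := hQ b (by simp)
      have hQa : Q a ≠ 0 := hQ a (by simp)
      refine hext (a + (c / Q b) • b) a [] (add_mem (hmemL a (by simp)) (Submodule.smul_mem _ _ (hmemL b (by simp))))
        ?_ (by simp) (by simp) (by simp) ?_ ⟨by simp, by simp⟩ (Or.inr ⟨rfl, by simp⟩)
      · rw [C.add, C.smul, map_smul, smul_eq_mul, hab, mul_zero, add_zero]
        field_simp
        linear_combination -hc
      · rw [map_add, map_smul, smul_eq_mul, hab, C.self, mul_zero, add_zero]
        exact mul_ne_zero h2 hQa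
    | a :: b :: c :: rest =>
      obtain ⟨hQ, hP⟩ := hL
      simp only [List.pairwise_cons, List.mem_cons, forall_eq_or_imp] at hP
      obtain ⟨⟨hab, hac, har⟩, ⟨hbc, hbr⟩, hcr, hrest⟩ := hP
      have hQa : Q a ≠ 0 := hQ a (by simp)
      have hQb : Q b ≠ 0 := hQ b (by simp)
      have hQc : Q c ≠ 0 := hQ c (by simp)
      obtain ⟨x, y, hxy⟩ : ∃ x y : F, x ^ 2 * Q a + y ^ 2 * Q b = -Q c := by
        obtain ⟨x, y, hxy⟩ := FiniteField.exists_root_sum_quadratic
          (f := Polynomial.C (Q a) * Polynomial.X ^ 2 + Polynomial.C 0 * Polynomial.X + Polynomial.C (Q c))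
          (g := Polynomial.C (Q b) * Polynomial.X ^ 2 + Polynomial.C 0 * Polynomial.X + Polynomial.C 0)
          (Polynomial.degree_quadratic hQa) (Polynomial.degree_quadratic hQb)
          (FiniteField.odd_card_of_char_ne_two fun h => h2 (by
            haveI : CharP F 2 := ringChar.of_eq h
            exact CharTwo.two_eq_zero))
        exact ⟨x, y, by simp at hxy; linear_combination hxy⟩
      set u : ι → F := x • a + y • b with hu
      set v : ι → F := (-(y * Q b)) • a + (x * Q a) • b with hv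
      have hba : B b a = 0 := by rw [C.symm, hab]
      have hQu : Q u = -Q c := by
        rw [hu, C.add, C.smul, C.smul]
        simpa only [map_smul, LinearMap.smul_apply, hab, smul_zero, add_zero] using hxy
      have hQv : Q v = Q a * Q b * (-Q c) := by
        rw [hv, C.add, C.smul, C.smul, ← hxy]
        simp only [map_smul, LinearMap.smul_apply, hab, smul_zero, add_zero]
        ring
      have huv : B u v = 0 := by
        simp only [hu, hv, map_add, map_smul, LinearMap.add_apply, LinearMap.smul_apply, smul_eq_mul, hab, hba, C.self,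
          mul_zero, add_zero, zero_add]
        ring
      have huc : B u c = 0 := by simp [hu, hac, hbc]
      have hvc : B v c = 0 := by simp [hv, hac, hbc]
      have hur : ∀ z ∈ rest, B u z = 0 := fun z hz => by simp [hu, har z hz, hbr z hz]
      have hvr : ∀ z ∈ rest, B v z = 0 := fun z hz => by simp [hv, har z hz, hbr z hz]
      have hspan : ∀ p q : F, p • a + q • b ∈ Submodule.span F {x | x ∈ a :: b :: c :: rest} := fun p q =>
        add_mem (Submodule.smul_mem _ _ (hmemL a (by simp))) (Submodule.smul_mem _ _ (hmemL b (by simp)))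
      refine hext (u + c) u (v :: rest) (add_mem (hspan x y) (hmemL c (by simp))) ?_ ?_ ?_ ?_ ?_ ?_ ?_
      · rw [C.add, hQu, huc, neg_add_cancel, add_zero]
      · exact List.forall_mem_cons.2 ⟨hspan _ _, fun z hz => hmemL z (by simp [hz])⟩
      · simp only [List.mem_cons, forall_eq_or_imp]
        exact ⟨huv, hur⟩
      · simp only [List.mem_cons, forall_eq_or_imp, map_add, LinearMap.add_apply]
        exact ⟨by rw [huv, C.symm c v, hvc, add_zero], fun z hz => by rw [hur z hz, hcr z hz, add_zero]⟩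
      · rw [map_add, huc, add_zero, C.self, hQu]
        exact mul_ne_zero h2 (neg_ne_zero.2 hQc)
      · refine ⟨?_, ?_⟩
        · simp only [List.mem_cons, forall_eq_or_imp]
          exact ⟨by rw [hQv]; exact mul_ne_zero (mul_ne_zero hQa hQb) (neg_ne_zero.2 hQc),
            fun z hz => hQ z (by simp [hz])⟩
        · rw [List.pairwise_cons]
          exact ⟨hvr, hrest⟩
      · simp only [List.length_cons, List.map_cons, List.prod_cons] at hlen ⊢
        rcases hlen with h | ⟨h, hs⟩
        · exact Or.inl (by omega)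
        · refine Or.inr ⟨by omega, ?_⟩
          rw [hQv]
          convert hs using 1
          rw [pow_succ]
          ring

/-- An orthogonal basis of eigenvectors of an involution, by induction on an invariant nondegenerate subspace. -/
theorem exists_lists (C : Space Q B) (h2 : (2 : F) ≠ 0) {g : GL ι F} (hg : g ∈ isometryGroup F Q)
    (hgg : ∀ x, g.val *ᵥ (g.val *ᵥ x) = x) :
    ∀ (k : ℕ) (U : Submodule F (ι → F)), finrank F U = k → NDeg B U → (∀ x ∈ U, g.val *ᵥ x ∈ U) →
      ∃ Lp Lm : List (ι → F), (∀ v ∈ Lp ++ Lm, v ∈ U) ∧ (∀ v ∈ Lp, g.val *ᵥ v = v) ∧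
        (∀ v ∈ Lm, g.val *ᵥ v = -v) ∧ OrthList Q B Lp ∧ OrthList Q B Lm ∧ Lp.length + Lm.length = k ∧
        U ≤ Submodule.span F {x | x ∈ Lp ++ Lm} := by
  classical
  intro k
  induction k with
  | zero =>
    intro U hU _ _
    refine ⟨[], [], by simp, by simp, by simp, ⟨by simp, List.Pairwise.nil⟩, ⟨by simp, List.Pairwise.nil⟩, rfl, ?_⟩
    rw [Submodule.finrank_eq_zero.1 hU]
    exact bot_le
  | succ k ih =>
    intro U hU hnd hinv
    obtain ⟨z, hz, hQz⟩ := exists_nonsing C hnd (fun h => by rw [h, finrank_bot] at hU; omega)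
    have hBzz : B (z + g.val *ᵥ z) (z - g.val *ᵥ z) = 0 := by
      rw [map_add, LinearMap.add_apply, map_sub, map_sub, C.self, C.self, C.symm (g.val *ᵥ z) z, mem_iso.1 hg]
      ring
    obtain ⟨v, s, hv, hQv, hs, hgv⟩ : ∃ (v : ι → F) (s : F), v ∈ U ∧ Q v ≠ 0 ∧ (s = 1 ∨ s = -1) ∧ g.val *ᵥ v = s • v := by
      by_cases hp : Q (z + g.val *ᵥ z) = 0
      · refine ⟨z - g.val *ᵥ z, -1, U.sub_mem hz (hinv z hz), fun hm => hQz ?_, Or.inr rfl, ?_⟩
        · have h1 := C.add (z + g.val *ᵥ z) (z - g.val *ᵥ z)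
          rw [show z + g.val *ᵥ z + (z - g.val *ᵥ z) = (2 : F) • z by module, C.smul, hp, hm, hBzz, add_zero, add_zero] at h1
          exact (mul_eq_zero.1 h1).resolve_left (pow_ne_zero 2 h2)
        · rw [Matrix.mulVec_sub, hgg]; module
      · exact ⟨z + g.val *ᵥ z, 1, U.add_mem hz (hinv z hz), hp, Or.inl rfl,
          by rw [Matrix.mulVec_add, hgg, one_smul, add_comm]⟩
    have hvv : B v v ≠ 0 := by rw [C.self]; exact mul_ne_zero h2 hQv
    let U' := U ⊓ LinearMap.ker (B v)
    have hproj : ∀ y ∈ U, y - (B v y / B v v) • v ∈ U' := fun y hy =>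
      ⟨U.sub_mem hy (U.smul_mem _ hv), by
        show B v _ = 0
        rw [map_sub, map_smul, smul_eq_mul, div_mul_cancel₀ _ hvv, sub_self]⟩
    have hnd' : NDeg B U' := by
      intro x hx h
      refine hnd x hx.1 fun y hy => ?_
      have h1 := h _ (hproj y hy)
      rwa [map_sub, map_smul, C.symm x v, show B v x = 0 from hx.2, smul_zero, sub_zero] at h1
    have hinv' : ∀ x ∈ U', g.val *ᵥ x ∈ U' := fun x hx => ⟨hinv x hx.1, by
      show B v (g.val *ᵥ x) = 0
      have h1 := C.B_act hg v x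
      rw [hgv, map_smul, LinearMap.smul_apply, show B v x = 0 from hx.2] at h1
      rcases hs with rfl | rfl <;> simpa using h1⟩
    have hdim : finrank F U' = k := by
      have h1 : finrank F U' + 1 = finrank F U := by
        have h4 := Submodule.finrank_sup_add_finrank_inf_eq U' (F ∙ v)
        have h5 : U' ⊓ (F ∙ v) = ⊥ := eq_bot_iff.2 fun x hx => by
          obtain ⟨a, rfl⟩ := Submodule.mem_span_singleton.1 hx.2
          have h6 : B v (a • v) = 0 := hx.1.2
          rw [map_smul, smul_eq_mul, mul_eq_zero, or_iff_left hvv] at h6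
          simp [h6]
        have h7 : U' ⊔ (F ∙ v) = U := le_antisymm (sup_le inf_le_left ((Submodule.span_singleton_le_iff_mem v U).2 hv))
          fun y hy => by
            rw [show y = (y - (B v y / B v v) • v) + (B v y / B v v) • v from (sub_add_cancel _ _).symm]
            exact Submodule.add_mem_sup (hproj y hy) (Submodule.smul_mem _ _ (Submodule.mem_span_singleton_self v))
        rw [h7, h5, finrank_bot, add_zero, finrank_span_singleton (fun h => hQv (by rw [h, C.zero]))] at h4
        omega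
      omega
    obtain ⟨Lp, Lm, hmem, hp, hm, hOp, hOm, hlen, hspan⟩ := ih U' hdim hnd' hinv'
    have hcons : ∀ L : List (ι → F), (∀ x ∈ L, x ∈ U') → OrthList Q B L → OrthList Q B (v :: L) := fun L hL hO =>
      ⟨by simp only [List.mem_cons, forall_eq_or_imp]; exact ⟨hQv, hO.1⟩,
        List.pairwise_cons.2 ⟨fun x hx => (hL x hx).2, hO.2⟩⟩
    have hsp : ∀ L : List (ι → F), v ∈ L → (∀ x ∈ Lp ++ Lm, x ∈ L) → U ≤ Submodule.span F {x | x ∈ L} := by
      intro L h1 h3 y hy
      rw [show y = (y - (B v y / B v v) • v) + (B v y / B v v) • v from (sub_add_cancel _ _).symm]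
      exact add_mem (span_cons_le (fun x hx => Submodule.subset_span (h3 x hx)) (hspan (hproj y hy)))
        (Submodule.smul_mem _ _ (Submodule.subset_span h1))
    rcases hs with rfl | rfl
    · refine ⟨v :: Lp, Lm, ?_, ?_, hm, hcons Lp (fun x hx => hmem x (by simp [hx])) hOp, hOm,
        by simp; omega, hsp _ (by simp) (fun x hx => List.mem_cons_of_mem _ hx)⟩
      · simp only [List.cons_append, List.mem_cons, forall_eq_or_imp]
        exact ⟨hv, fun x hx => (hmem x hx).1⟩
      · simp only [List.mem_cons, forall_eq_or_imp]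
        exact ⟨by rw [hgv, one_smul], hp⟩
    · refine ⟨Lp, v :: Lm, ?_, hp, ?_, hOp, hcons Lm (fun x hx => hmem x (by simp [hx])) hOm,
        by simp; omega, hsp _ (by simp) (fun x hx => by simp only [List.mem_append, List.mem_cons] at hx ⊢; tauto)⟩
      · intro x hx
        simp only [List.mem_append, List.mem_cons] at hx
        rcases hx with hx | rfl | hx
        · exact (hmem x (by simp [hx])).1
        · exact hv
        · exact (hmem x (by simp [hx])).1
      · simp only [List.mem_cons, forall_eq_or_imp]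
        exact ⟨by rw [hgv, neg_one_smul], hm⟩

omit [Fintype F] in
theorem refl_prod_fix (C : Space Q B) : ∀ (L : List (ι → F)), (∀ v ∈ L, Q v ≠ 0) → ∀ x, (∀ v ∈ L, B v x = 0) →
    (L.map fun v => Cfsg.reflectionMatrix Q v).prod *ᵥ x = x := by
  intro L
  induction L with
  | nil => intro _ x _; simp
  | cons v L ih =>
    intro hQ x hx
    rw [List.map_cons, List.prod_cons, ← Matrix.mulVec_mulVec,
      ih (fun w hw => hQ w (List.mem_cons_of_mem _ hw)) x (fun w hw => hx w (List.mem_cons_of_mem _ hw)),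
      ← rGL_val C (hQ v List.mem_cons_self), rGL_fix C (hQ v List.mem_cons_self) (hx v List.mem_cons_self)]

omit [Fintype F] in
theorem refl_prod_neg (C : Space Q B) : ∀ (L : List (ι → F)), OrthList Q B L → ∀ x ∈ L,
    (L.map fun v => Cfsg.reflectionMatrix Q v).prod *ᵥ x = -x := by
  intro L
  induction L with
  | nil => intro _ x hx; simp at hx
  | cons v L ih =>
    rintro ⟨hQ, hP⟩ x hx
    rw [List.pairwise_cons] at hP
    have hQ' : ∀ w ∈ L, Q w ≠ 0 := fun w hw => hQ w (List.mem_cons_of_mem _ hw)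
    rw [List.map_cons, List.prod_cons, ← Matrix.mulVec_mulVec, ← rGL_val C (hQ v List.mem_cons_self)]
    rcases List.mem_cons.1 hx with rfl | hx
    · rw [refl_prod_fix C L hQ' x (fun w hw => by rw [C.symm]; exact hP.1 w hw), rGL_self C (hQ x List.mem_cons_self)]
    · rw [ih ⟨hQ', hP.2⟩ x hx, Matrix.mulVec_neg, rGL_fix C (hQ v List.mem_cons_self) (hP.1 x hx)]

/-- Eigenvector lists of an involution in `Ω`. -/
theorem exists_lists_omega (C : Space Q B) (h2 : (2 : F) ≠ 0) (hn : 2 ≤ Fintype.card ι)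
    (g : ↥(isometryGroup F Q)) (hg : g ∈ Omega F Q) (hgg : g ^ 2 = 1) :
    ∃ Lp Lm : List (ι → F), (∀ v ∈ Lp, (g : GL ι F).val *ᵥ v = v) ∧ (∀ v ∈ Lm, (g : GL ι F).val *ᵥ v = -v) ∧
      OrthList Q B Lp ∧ OrthList Q B Lm ∧ Lp.length + Lm.length = Fintype.card ι ∧ Even Lm.length ∧
      IsSquare (Lm.map Q).prod := by
  classical
  have h1 : ∀ x, (g : GL ι F).val *ᵥ ((g : GL ι F).val *ᵥ x) = x := fun x => by
    rw [← mul_act, ← Subgroup.coe_mul, ← pow_two, hgg, Subgroup.coe_one, Units.val_one, Matrix.one_mulVec]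
  obtain ⟨Lp, Lm, -, hp, hm, hOp, hOm, hlen, hspan⟩ := exists_lists C h2 g.2 h1 _ ⊤ rfl C.ndeg_top
    (fun x _ => Submodule.mem_top)
  rw [finrank_top, finrank_fintype_fun_eq_card] at hlen
  have hcross : ∀ x ∈ Lp, ∀ v ∈ Lm, B v x = 0 := fun x hx v hv => by
    have h3 := C.B_act g.2 v x
    rw [hp x hx, hm v hv, map_neg, LinearMap.neg_apply] at h3
    have h4 : (2 : F) * B v x = 0 := by linear_combination -h3
    exact (mul_eq_zero.1 h4).resolve_left h2
  have hgv : (g : GL ι F).val = (Lm.map fun v => Cfsg.reflectionMatrix Q v).prod := by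
    refine mat_ext fun x => ?_
    have hlin : Matrix.mulVecLin (g : GL ι F).val = Matrix.mulVecLin (Lm.map fun v => Cfsg.reflectionMatrix Q v).prod :=
      LinearMap.ext_on (top_le_iff.1 hspan) fun v hv => by
        simp only [Set.mem_setOf_eq, List.mem_append] at hv
        simp only [Matrix.mulVecLin_apply]
        rcases hv with hv | hv
        · rw [hp v hv, refl_prod_fix C Lm hOm.1 v (hcross v hv)]
        · rw [hm v hv, refl_prod_neg C Lm hOm v hv]
    exact LinearMap.congr_fun hlin x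
  obtain ⟨he, hsq⟩ := (refl_prod_mem_omega_iff C h2 hn Lm hOm.1 g hgv).1 hg
  exact ⟨Lp, Lm, hp, hm, hOp, hOm, hlen, he, hsq⟩

/-- Totally singular subspaces from both eigenspaces. -/
theorem fixesQ_of_lists (C : Space Q B) (h2 : (2 : F) ≠ 0) {M : Matrix ι ι F} (s : F)
    (hM : ∀ u v, B (M *ᵥ u) (M *ᵥ v) = B u v) (hs : s ≠ 0) (hs2 : s * s = 1) {Lp Lm : List (ι → F)}
    (hp : ∀ v ∈ Lp, M *ᵥ v = s • v) (hm : ∀ v ∈ Lm, M *ᵥ v = (-s) • v) (hOp : OrthList Q B Lp)
    (hOm : OrthList Q B Lm) {k l : ℕ}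
    (hk : 2 * k < Lp.length ∨ (2 * k = Lp.length ∧ IsSquare ((-1) ^ k * (Lp.map Q).prod)))
    (hl : 2 * l < Lm.length ∨ (2 * l = Lm.length ∧ IsSquare ((-1) ^ l * (Lm.map Q).prod))) :
    FixesQ Q (k + l) M := by
  obtain ⟨W, hW, hWk, hWq⟩ := exists_sing C h2 k Lp hOp hk
  obtain ⟨Z, hZ, hZl, hZq⟩ := exists_sing C h2 l Lm hOm hl
  have hWe : ∀ x ∈ W, M *ᵥ x = s • x := fun x hx => by
    have h := (Submodule.span_le.2 (fun v hv => sub_eq_zero.2 (hp v hv)) :
      _ ≤ LinearMap.ker (Matrix.mulVecLin M - s • LinearMap.id)) (hW hx)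
    simpa [sub_eq_zero] using h
  have hZe : ∀ x ∈ Z, M *ᵥ x = (-s) • x := fun x hx => by
    have h := (Submodule.span_le.2 (fun v hv => sub_eq_zero.2 (hm v hv)) :
      _ ≤ LinearMap.ker (Matrix.mulVecLin M - (-s) • LinearMap.id)) (hZ hx)
    simpa [sub_eq_zero, add_eq_zero_iff_eq_neg] using h
  refine ⟨W ⊔ Z, ?_, ?_, ?_⟩
  · have h1 := Submodule.finrank_sup_add_finrank_inf_eq W Z
    have h3 : W ⊓ Z = ⊥ := eq_bot_iff.2 fun x hx => by
      have h4 : (2 * s) • x = 0 := by
        rw [show (2 * s) • x = s • x - (-s) • x by module, ← hWe x hx.1, ← hZe x hx.2, sub_self]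
      exact (Submodule.mem_bot F).2 ((smul_eq_zero.1 h4).resolve_left (mul_ne_zero h2 hs))
    rw [h3, finrank_bot, add_zero, hWk, hZl] at h1
    exact h1
  · intro x hx
    obtain ⟨w, hw, z, hz, rfl⟩ := Submodule.mem_sup.1 hx
    have h5 := hM w z
    rw [hWe w hw, hZe z hz] at h5
    simp only [map_smul, LinearMap.smul_apply, smul_eq_mul] at h5
    have h6 : (2 : F) * B w z = 0 := by linear_combination -h5 - (B w z) * hs2
    rw [C.add, hWq w hw, hZq z hz, (mul_eq_zero.1 h6).resolve_left h2]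
    simp
  · rw [Submodule.map_sup]
    refine sup_le_sup ?_ ?_
    · rintro _ ⟨x, hx, rfl⟩
      rw [Matrix.toLin'_apply, hWe x hx]
      exact W.smul_mem _ hx
    · rintro _ ⟨x, hx, rfl⟩
      rw [Matrix.toLin'_apply, hZe x hx]
      exact Z.smul_mem _ hx

end Cfsg.Lib.Linear.IsoFix
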