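import Mathlib

/-!
# Characteristic polynomials and invariant totally isotropic subspaces

If `W` is an invariant totally isotropic subspace of an isometry `T` of a nondegenerate (bilinear or
sesquilinear) form, the characteristic polynomial of `T` on `W` and the twisted contragredient one
together divide the characteristic polynomial of `T`.
-/

set_option autoImplicit false

namespace Cfsg.Lib.Linear.IsoFix

open Module

variable {F : Type*} [Field F] {V : Type*} [AddCommGroup V] [Module F V] [FiniteDimensional F V]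

/-- The characteristic polynomial splits along an invariant subspace. -/
theorem charpoly_split (T : V →ₗ[F] V) (W : Submodule F V) (h : W ≤ W.comap T) :
    T.charpoly = (T.restrict h).charpoly * (W.mapQ W T h).charpoly := by
  classical
  let bW := Module.finBasis F W
  let bQ := Module.finBasis F (V ⧸ W)
  let b := Module.Basis.sumQuot bW bQ
  have hsplit : LinearMap.toMatrix b b T = Matrix.fromBlocks (LinearMap.toMatrix bW bW (T.restrict h))
      (Matrix.of fun i j => b.repr (T (b (Sum.inr j))) (Sum.inl i)) 0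
      (LinearMap.toMatrix bQ bQ (W.mapQ W T h)) := by
    ext a c
    rw [LinearMap.toMatrix_apply]
    rcases a with a | a <;> rcases c with c | c
    · rw [Matrix.fromBlocks_apply₁₁, LinearMap.toMatrix_apply, Module.Basis.sumQuot_inl]
      exact Module.Basis.sumQuot_repr_inl bW bQ (T.restrict h (bW c)) a
    · rw [Matrix.fromBlocks_apply₁₂, Matrix.of_apply]
    · rw [Matrix.fromBlocks_apply₂₁, Module.Basis.sumQuot_inl, Module.Basis.sumQuot_repr_inr,
        show W.mkQ (T (bW c)) = 0 from (Submodule.Quotient.mk_eq_zero W).2 (h (bW c).2), map_zero]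
      rfl
    · rw [Matrix.fromBlocks_apply₂₂, LinearMap.toMatrix_apply, Module.Basis.sumQuot_repr_inr,
        ← Module.Basis.sumQuot_inr bW bQ c, Submodule.mapQ_apply]
      rfl
  rw [← LinearMap.charpoly_toMatrix T b, hsplit, Matrix.charpoly_fromBlocks_zero₂₁,
    LinearMap.charpoly_toMatrix, LinearMap.charpoly_toMatrix]

/-- An equivariant image of the quotient by an invariant subspace. -/
theorem charpoly_dvd_of_map (T : V →ₗ[F] V) (W : Submodule F V) (h : W ≤ W.comap T)
    {U : Type*} [AddCommGroup U] [Module F U] [FiniteDimensional F U] (S : U →ₗ[F] U) (φ : V →ₗ[F] U)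
    (hsurj : Function.Surjective φ) (hφ : ∀ v, φ (T v) = S (φ v)) (hW : W ≤ LinearMap.ker φ) :
    (T.restrict h).charpoly * S.charpoly ∣ T.charpoly := by
  classical
  rw [charpoly_split T W h]
  refine mul_dvd_mul_left _ ?_
  let Q : V ⧸ W →ₗ[F] V ⧸ W := W.mapQ W T h
  let ψ : V ⧸ W →ₗ[F] U := W.liftQ φ hW
  have hψs : Function.Surjective ψ := fun u => by
    obtain ⟨v, rfl⟩ := hsurj u
    exact ⟨W.mkQ v, rfl⟩
  have hψ : ∀ x, ψ (Q x) = S (ψ x) := fun x => by
    obtain ⟨v, rfl⟩ := W.mkQ_surjective x
    exact hφ v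
  have hK : LinearMap.ker ψ ≤ (LinearMap.ker ψ).comap Q := fun x hx => by
    rw [Submodule.mem_comap, LinearMap.mem_ker, hψ, LinearMap.mem_ker.1 hx, map_zero]
  change S.charpoly ∣ Q.charpoly
  rw [charpoly_split Q _ hK]
  let e := ψ.quotKerEquivOfSurjective hψs
  have hS : e.conj ((LinearMap.ker ψ).mapQ (LinearMap.ker ψ) Q hK) = S := LinearMap.ext fun u => by
    obtain ⟨x, rfl⟩ := hψs u
    rw [LinearEquiv.conj_apply_apply,
      show e.symm (ψ x) = Submodule.Quotient.mk x from e.symm_apply_eq.2 rfl, Submodule.mapQ_apply]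
    exact hψ x
  rw [← hS, LinearEquiv.charpoly_conj]
  exact dvd_mul_left _ _

/-- An invariant totally isotropic subspace of an isometry of finite order. -/
theorem exists_block_of_isotropic (σ : F →+* F) (hσ : Function.Surjective σ) (g : V → V →ₗ[F] F)
    (hadd : ∀ u v, g (u + v) = g u + g v) (hsmul : ∀ (a : F) (u : V), g (a • u) = σ a • g u)
    (hnd : ∀ u, g u = 0 → u = 0) (T : V →ₗ[F] V) (hT : ∀ u v, g (T u) (T v) = g u v)
    {r : ℕ} (hr : 0 < r) (hTr : T ^ r = 1) (W : Submodule F V) (hinv : ∀ w ∈ W, T w ∈ W)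
    (hTI : ∀ u ∈ W, ∀ v ∈ W, g u v = 0) :
    ∃ A : Matrix (Fin (finrank F W)) (Fin (finrank F W)) F, A ^ r = 1 ∧
      A.charpoly * ((A ^ (r - 1)).map σ).charpoly ∣ T.charpoly := by
  classical
  let G : V →+ (V →ₗ[F] F) := AddMonoidHom.mk' g hadd
  let bW := Module.finBasis F W
  let TW : W →ₗ[F] W := T.restrict hinv
  let M : (W →ₗ[F] W) ≃ₐ[F] Matrix (Fin (finrank F W)) (Fin (finrank F W)) F := LinearMap.toMatrixAlgEquiv bW
  have hpow : ∀ (k : ℕ) (w : W), (((TW ^ k) w : W) : V) = (T ^ k) w := fun k => by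
    induction k with
    | zero => intro w; rfl
    | succ k ih =>
      intro w
      rw [pow_succ', pow_succ', Module.End.mul_apply, Module.End.mul_apply, ← ih]
      rfl
  have hA : M TW ^ r = 1 := by
    rw [← map_pow, show TW ^ r = 1 from LinearMap.ext fun w => Subtype.ext (by rw [hpow, hTr]; rfl), map_one]
  refine ⟨M TW, hA, ?_⟩
  let φ : V →ₗ[F] (Fin (finrank F W) → F) := LinearMap.pi fun j => g (bW j)
  let S := Matrix.toLin' (((M TW ^ (r - 1)).map σ).transpose)
  have hsurj : Function.Surjective φ := by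
    rw [← LinearMap.range_eq_top]
    by_contra hne
    obtain ⟨f, hf, hle⟩ := Submodule.exists_le_ker_of_lt_top _ (lt_top_iff_ne_top.2 hne)
    choose a ha using fun j => hσ (f (Pi.single j 1))
    have hG : g (∑ j, a j • ((bW j : W) : V)) = ∑ j, f (Pi.single j 1) • g (bW j) := by
      rw [show g (∑ j, a j • ((bW j : W) : V)) = G (∑ j, a j • ((bW j : W) : V)) from rfl, map_sum]
      exact Finset.sum_congr rfl fun j _ => by
        show g (a j • ((bW j : W) : V)) = _
        rw [hsmul, ha]
    have hz : g (∑ j, a j • ((bW j : W) : V)) = 0 := LinearMap.ext fun v => by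
      have h1 := LinearMap.mem_ker.1 (hle (LinearMap.mem_range_self φ v))
      rw [← Finset.univ_sum_single (φ v), map_sum] at h1
      rw [hG, LinearMap.sum_apply, LinearMap.zero_apply, ← h1]
      refine Finset.sum_congr rfl fun j _ => ?_
      rw [LinearMap.smul_apply, smul_eq_mul, show (Pi.single j (φ v j) : Fin (finrank F W) → F) =
        φ v j • Pi.single j 1 by rw [← Pi.single_smul', smul_eq_mul, mul_one], map_smul, smul_eq_mul, mul_comm]
      rfl
    have h2 := hnd _ hz
    have h3 : (∑ j, a j • bW j : W) = 0 := Subtype.ext (by rw [Submodule.coe_sum]; simpa using h2)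
    have h4 := Fintype.linearIndependent_iff.1 bW.linearIndependent a h3
    refine hf (LinearMap.pi_ext' fun j => LinearMap.ext_ring ?_)
    show f (Pi.single j 1) = _
    rw [← ha j, h4 j, map_zero]
    rfl
  have hφ : ∀ v, φ (T v) = S (φ v) := fun v => funext fun j => by
    have e : (bW j : V) = T ((TW ^ (r - 1)) (bW j) : W) := by
      rw [hpow, ← Module.End.mul_apply, ← pow_succ', Nat.sub_add_cancel hr, hTr, Module.End.one_apply]
    show g (bW j) (T v) = _
    conv_lhs => rw [e, hT, ← bW.sum_repr ((TW ^ (r - 1)) (bW j)), Submodule.coe_sum]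
    rw [show g (∑ k, ((bW.repr ((TW ^ (r - 1)) (bW j)) k • bW k : W) : V)) =
      G (∑ k, ((bW.repr ((TW ^ (r - 1)) (bW j)) k • bW k : W) : V)) from rfl, map_sum, LinearMap.sum_apply]
    simp only [S, Matrix.toLin'_apply, Matrix.mulVec, dotProduct, Matrix.transpose_apply, Matrix.map_apply]
    refine Finset.sum_congr rfl fun k _ => ?_
    show g ((bW.repr ((TW ^ (r - 1)) (bW j)) k • bW k : W) : V) v = _
    rw [Submodule.coe_smul, hsmul, LinearMap.smul_apply, smul_eq_mul, ← map_pow, LinearMap.toMatrixAlgEquiv_apply]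
    rfl
  have hd := charpoly_dvd_of_map T W hinv S φ hsurj hφ
    (fun w hw => LinearMap.mem_ker.2 (funext fun j => hTI _ (bW j).2 w hw))
  have e1 : (M TW).charpoly = TW.charpoly := LinearMap.charpoly_toMatrix TW bW
  rw [show S.charpoly = ((M TW ^ (r - 1)).map σ).charpoly by
    simp only [S, Matrix.charpoly_toLin', Matrix.charpoly_transpose]] at hd
  rw [e1]
  exact hd

end Cfsg.Lib.Linear.IsoFix
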