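import Cfsg.Agent.Lib.Linear.IsotropicFix.Orbits
import Cfsg.Agent.Lib.Linear.PrimeClasses.LinearReal
import Cfsg.Agent.S0775

/-!
# Symplectic elements of prime order fixing totally isotropic subspaces
-/

set_option autoImplicit false

universe u

namespace Cfsg.Lib.Linear.IsoFix

open Module Polynomial Cfsg.Lib.Linear Cfsg.Agent.Lib.Linear.PrimeClasses Cfsg.Agent.S5961
open scoped Matrix

/-- A totally isotropic `m`-space mapped into itself by a matrix. -/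
def Fixes {F : Type*} [Field F] {d : ℕ} (m : ℕ) (M : Matrix (Fin d ⊕ Fin d) (Fin d ⊕ Fin d) F) : Prop :=
  ∃ W : Submodule F (Fin d ⊕ Fin d → F), finrank F ↥W = m ∧
    (∀ u ∈ W, ∀ v ∈ W, Cfsg.sympForm d F u v = 0) ∧ W.map (Matrix.toLin' M) ≤ W

variable {F : Type u} [Field F] [Fintype F]

omit [Fintype F] in
theorem exists_sp_transport {ι : Type} [Fintype ι] [DecidableEq ι] (J A : Matrix ι ι F)
    (hJ : ∀ v, v ⬝ᵥ (J *ᵥ v) = 0) (hJu : IsUnit J) (hA : Aᵀ * J * A = J) {d : ℕ}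
    (hcard : Fintype.card ι = d + d) {r : ℕ} (hAr : A ^ r = 1) :
    ∃ (g : Matrix.symplecticGroup (Fin d) F) (ψ : (Fin d ⊕ Fin d → F) ≃ₗ[F] (ι → F)), g ^ r = 1 ∧
      (g : Matrix (Fin d ⊕ Fin d) (Fin d ⊕ Fin d) F).charpoly = A.charpoly ∧
      (∀ u v, Symp.spB d F u v = ψ u ⬝ᵥ (J *ᵥ ψ v)) ∧
      ∀ v, ψ ((g : Matrix (Fin d ⊕ Fin d) (Fin d ⊕ Fin d) F) *ᵥ v) = A *ᵥ ψ v := by
  classical
  let e : ι ≃ Fin d ⊕ Fin d := Fintype.equivOfCardEq (by rw [hcard, Fintype.card_sum, Fintype.card_fin])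
  obtain ⟨M, hMu, hM⟩ := exists_congr_sympJ (Matrix.reindexAlgEquiv F F e J) (fun v => by
    have : v = (v ∘ e) ∘ e.symm := by ext; simp
    rw [this]
    show ((v ∘ e) ∘ e.symm) ⬝ᵥ ((Matrix.submatrix J e.symm e.symm) *ᵥ ((v ∘ e) ∘ e.symm)) = 0
    rw [Matrix.submatrix_mulVec_equiv, comp_equiv_symm_dotProduct, Equiv.symm_symm]
    simp only [Function.comp_assoc, Equiv.symm_comp_self, Equiv.self_comp_symm, Function.comp_id]
    exact hJ _) (hJu.map _)
  obtain ⟨M, rfl⟩ := hMu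
  let ψ : (Fin d ⊕ Fin d → F) ≃ₗ[F] (ι → F) :=
    (Matrix.toLinearEquiv' (M : Matrix (Fin d ⊕ Fin d) (Fin d ⊕ Fin d) F)
      M.isUnit.invertible).trans (LinearEquiv.funCongrLeft F F e)
  have hB : ∀ u v, Symp.spB d F u v = ψ u ⬝ᵥ (J *ᵥ ψ v) := by
    intro u v
    rw [Symp.spB, Matrix.toBilin'_apply', ← hM, ← Matrix.mulVec_mulVec, ← Matrix.mulVec_mulVec,
      Matrix.dotProduct_mulVec, Matrix.vecMul_transpose, Matrix.reindexAlgEquiv_apply, Matrix.reindex_apply,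
      Matrix.submatrix_mulVec_equiv, Equiv.symm_symm, dotProduct_comp_equiv_symm]
    rfl
  let g₀ : (Fin d ⊕ Fin d → F) →ₗ[F] (Fin d ⊕ Fin d → F) :=
    (ψ.symm : (ι → F) →ₗ[F] _) ∘ₗ Matrix.toLin' A ∘ₗ (ψ : _ →ₗ[F] (ι → F))
  have hg₀ : ∀ v, ψ (g₀ v) = A *ᵥ ψ v := fun v => by simp [g₀]
  have hmem : LinearMap.toMatrix' g₀ ∈ Matrix.symplecticGroup (Fin d) F := by
    rw [Symp.mem_symplecticGroup_iff]
    intro u v
    rw [LinearMap.toMatrix'_mulVec, LinearMap.toMatrix'_mulVec, hB, hB, hg₀, hg₀]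
    conv_rhs => rw [← hA]
    rw [← Matrix.mulVec_mulVec, ← Matrix.mulVec_mulVec, Matrix.dotProduct_mulVec (ψ u),
      Matrix.vecMul_transpose]
  have hpow : ∀ (k : ℕ) v, ψ ((g₀ ^ k) v) = (A ^ k) *ᵥ ψ v := fun k => by
    induction k with
    | zero => intro v; simp
    | succ k ih => intro v; rw [pow_succ', pow_succ', Module.End.mul_apply, hg₀, ih, Matrix.mulVec_mulVec]
  refine ⟨⟨_, hmem⟩, ψ, Subtype.ext ?_, ?_, hB, fun v => ?_⟩
  · show LinearMap.toMatrix' g₀ ^ r = 1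
    rw [← LinearMap.toMatrix'_id, ← show g₀ ^ r = LinearMap.id from LinearMap.ext fun v => ψ.injective (by
      rw [hpow, hAr, Matrix.one_mulVec]; rfl)]
    exact (map_pow LinearMap.toMatrixAlgEquiv' g₀ r).symm
  · show (LinearMap.toMatrix' g₀).charpoly = A.charpoly
    rw [← LinearMap.charpoly_toMatrix g₀ (Pi.basisFun F _) |>.trans (LinearEquiv.charpoly_conj ψ.symm (Matrix.toLin' A))
      |>.trans (Matrix.charpoly_toLin' A)]
    rfl
  · show ψ (LinearMap.toMatrix' g₀ *ᵥ v) = _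
    rw [LinearMap.toMatrix'_mulVec, hg₀]

variable {L : Type u} [Field L] [Algebra F L] [IsAlgClosed L] {r : ℕ} [Fact r.Prime] {ζ : L}

/-- An element fixing a totally isotropic subspace with prescribed multiplicities. -/
theorem exists_fixing (hζ : IsPrimitiveRoot ζ r) (hrL : (r : L) ≠ 0) {uq : (ZMod r)ˣ}
    (huq : (uq : ZMod r) = (Fintype.card F : ZMod r)) (hr2 : r ≠ 2) (w : (ZMod r)ˣ)
    (hwq : ∃ k : ℕ, uq = w ^ k) (hwn : ∃ k : ℕ, (-1 : (ZMod r)ˣ) = w ^ k)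
    {m e d : ℕ} {μ ρ : ZMod r → ℕ} (hμ : Inv uq m μ) (hρ : Inv w (e + e) ρ) (he : Even (ρ 0)) (hd : m + e = d) :
    ∃ g : Matrix.symplecticGroup (Fin d) F, g ^ r = 1 ∧
      (g : Matrix (Fin d ⊕ Fin d) (Fin d ⊕ Fin d) F).charpoly.map (algebraMap F L) =
        Pm ζ (μ + (fun x => μ (-x)) + ρ) ∧
      Fixes m (g : Matrix (Fin d ⊕ Fin d) (Fin d ⊕ Fin d) F) := by
  classical
  obtain ⟨A₀, hA₀, hA₀p⟩ := exists_linear (F := F) hζ huq uq ⟨1, (pow_one uq).symm⟩ hμ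
  obtain ⟨P, ⟨κ, _, _, J₁, A₁, hJ₁, hJu₁, hA₁, hAr₁, hAp₁⟩, -, hP⟩ := altReal_any (F := F) hζ huq hr2 w hwq hwn hρ he
  have hcard₁ : Fintype.card κ = e + e := by
    rw [← Matrix.charpoly_natDegree_eq_dim A₁, hAp₁, ← natDegree_map (algebraMap F L), hP, Pm_natDegree, hρ.1]
  set B₀ := (A₀ ^ (r - 1))ᵀ with hB₀
  have hr1 : r - 1 + 1 = r := Nat.sub_add_cancel (Fact.out : r.Prime).one_le
  let A₂ : Matrix (Fin m ⊕ Fin m) (Fin m ⊕ Fin m) F := Matrix.fromBlocks A₀ 0 0 B₀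
  let A : Matrix ((Fin m ⊕ Fin m) ⊕ κ) ((Fin m ⊕ Fin m) ⊕ κ) F := Matrix.fromBlocks A₂ 0 0 A₁
  let J : Matrix ((Fin m ⊕ Fin m) ⊕ κ) ((Fin m ⊕ Fin m) ⊕ κ) F := Matrix.fromBlocks (Matrix.J (Fin m) F) 0 0 J₁
  have hA₂ : A₂ᵀ * Matrix.J (Fin m) F * A₂ = Matrix.J (Fin m) F := by
    simp only [A₂, Matrix.J, Matrix.fromBlocks_transpose, Matrix.fromBlocks_multiply, Matrix.transpose_zero]
    simp only [hB₀, Matrix.transpose_transpose, mul_zero, zero_mul, add_zero, zero_add, mul_one, mul_neg,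
      neg_mul, ← Matrix.transpose_mul, ← pow_succ, hr1, hA₀, Matrix.transpose_one, neg_zero]
  obtain ⟨g, ψ, hgr, hgp, hB, hgψ⟩ := exists_sp_transport J A
    (fun v => by
      rw [← Sum.elim_comp_inl_inr v, Matrix.fromBlocks_mulVec, sum_dot]
      simp only [Sum.elim_comp_inl, Sum.elim_comp_inr, Matrix.zero_mulVec, add_zero, zero_add, hJ₁, sympJ_alt])
    (Matrix.isUnit_fromBlocks_zero₁₂.mpr ⟨isUnit_sympJ m, hJu₁⟩)
    (by simp [A, J, Matrix.fromBlocks_transpose, Matrix.fromBlocks_multiply, hA₂, hA₁])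
    (d := d) (by simp only [Fintype.card_sum, Fintype.card_fin, hcard₁]; omega) (r := r)
    (by
      simp only [A, A₂, fromBlocks_pow, hA₀, hAr₁, hB₀, ← Matrix.transpose_pow, ← pow_mul]
      rw [mul_comm, pow_mul, hA₀, one_pow, Matrix.transpose_one, Matrix.fromBlocks_one, Matrix.fromBlocks_one])
  refine ⟨g, hgr, ?_, ?_⟩
  · have h1 := charpoly_inv hζ hrL (A₀.map (algebraMap F L)) ((A₀ ^ (r - 1)).map (algebraMap F L))
      (by rw [← RingHom.mapMatrix_apply, ← map_pow, hA₀, map_one])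
      (by rw [← Matrix.map_mul, ← pow_succ', hr1, hA₀, Matrix.map_one _ (map_zero _) (map_one _)]) μ
      (by rw [Matrix.charpoly_map]; exact hA₀p)
    rw [Matrix.charpoly_map] at h1
    rw [hgp, Matrix.charpoly_fromBlocks_zero₁₂, Matrix.charpoly_fromBlocks_zero₁₂, hB₀, Matrix.charpoly_transpose,
      Polynomial.map_mul, Polynomial.map_mul, hA₀p, h1, hAp₁, hP, Pm_add, Pm_add]
  · let E : (Fin m → F) →ₗ[F] ((Fin m ⊕ Fin m) ⊕ κ → F) :=
      { toFun := fun c => Sum.elim (Sum.elim c 0) 0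
        map_add' := fun a b => by ext ((i | i) | i) <;> simp
        map_smul' := fun a b => by ext ((i | i) | i) <;> simp }
    have hE : Function.Injective E := fun a b h => funext fun i => congrFun h (Sum.inl (Sum.inl i))
    refine ⟨LinearMap.range ((ψ.symm : ((Fin m ⊕ Fin m) ⊕ κ → F) →ₗ[F] _).comp E), ?_, ?_, ?_⟩
    · rw [LinearMap.finrank_range_of_inj (fun a b h => hE (ψ.symm.injective h)), Module.finrank_fin_fun]
    · rintro _ ⟨a, rfl⟩ _ ⟨b, rfl⟩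
      rw [← Symp.spB_apply, hB]
      simp [E, J, Matrix.J, Matrix.fromBlocks_mulVec, dotProduct, Fintype.sum_sum_type]
    · rintro _ ⟨_, ⟨a, rfl⟩, rfl⟩
      refine ⟨A₀ *ᵥ a, ψ.injective ?_⟩
      rw [Matrix.toLin'_apply, hgψ]
      simp [E, A, A₂, Matrix.fromBlocks_mulVec]

/-- When an element of order dividing `r` fixes a totally isotropic subspace. -/
theorem fixes_iff (hζ : IsPrimitiveRoot ζ r) (hrL : (r : L) ≠ 0) (hrF : (r : F) ≠ 0) {uq : (ZMod r)ˣ}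
    (huq : (uq : ZMod r) = (Fintype.card F : ZMod r)) (hr2 : r ≠ 2) (w : (ZMod r)ˣ)
    (hw : (w : ZMod r) = (uq : ZMod r) ∨ (w : ZMod r) = -(uq : ZMod r))
    (hwq : ∃ k : ℕ, uq = w ^ k) (hwn : ∃ k : ℕ, (-1 : (ZMod r)ˣ) = w ^ k)
    {m d : ℕ} (hmd : m ≤ d) (y : Matrix.symplecticGroup (Fin d) F) (hy : y ^ r = 1) {my : ZMod r → ℕ}
    (hmy : (y : Matrix (Fin d ⊕ Fin d) (Fin d ⊕ Fin d) F).charpoly.map (algebraMap F L) = Pm ζ my)
    (hinv : Inv w (d + d) my) (he : Even (my 0)) :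
    Fixes m (y : Matrix (Fin d ⊕ Fin d) (Fin d ⊕ Fin d) F) ↔
      ∃ μ : ZMod r → ℕ, Inv uq m μ ∧ ∀ x, μ x + μ (-x) ≤ my x := by
  classical
  set Y := (y : Matrix (Fin d ⊕ Fin d) (Fin d ⊕ Fin d) F) with hY
  constructor
  · rintro ⟨W, hWm, hWi, hWinv⟩
    have hYr : (Matrix.toLin' Y) ^ r = 1 := by
      rw [← Matrix.toLin'_pow, hY, ← SubmonoidClass.coe_pow, hy]
      exact Matrix.toLin'_one
    obtain ⟨A, hA, hdvd⟩ := exists_block_of_isotropic (RingHom.id F) Function.surjective_id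
      (fun u => Symp.spB d F u) (fun u v => map_add _ u v) (fun a u => map_smul _ a u)
      (fun u hu => (Symp.spB_nondegenerate d F).1 u fun v => by rw [hu]; rfl) (Matrix.toLin' Y)
      (fun u v => by
        simpa [hY] using (Symp.mem_symplecticGroup_iff _).1 y.2 u v) (Fact.out : r.Prime).pos hYr W
      (fun v hv => hWinv (Submodule.mem_map_of_mem hv))
      (fun u hu v hv => by rw [Symp.spB_apply]; exact hWi u hu v hv)
    rw [RingHom.coe_id, Matrix.map_id, Matrix.charpoly_toLin'] at hdvd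
    subst hWm
    exact exists_mu hζ hrL huq A hA hmy hdvd
  · rintro ⟨μ, hμ, hle⟩
    let ρ : ZMod r → ℕ := fun x => my x - (μ x + μ (-x))
    have hμn : ∀ x, μ ((uq : ZMod r) * x) = μ x := hμ.2
    have hρ : Inv w ((d - m) + (d - m)) ρ := by
      refine ⟨?_, fun x => ?_⟩
      · rw [Finset.sum_tsub_distrib _ fun x _ => hle x, Finset.sum_add_distrib,
          show ∑ x, μ (-x) = ∑ x, μ x from Equiv.sum_comp (Equiv.neg (ZMod r)) μ, hinv.1, hμ.1]
        omega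
      · show my _ - (μ _ + μ (-((w : ZMod r) * x))) = my x - (μ x + μ (-x))
        rw [hinv.2]
        rcases hw with h | h <;> rw [h]
        · rw [hμn, ← mul_neg, hμn]
        · rw [neg_mul, ← mul_neg, hμn, mul_neg, neg_neg, hμn, add_comm]
    obtain ⟨g, hg, hgp, W, hWm, hWi, hWinv⟩ := exists_fixing (F := F) hζ hrL huq hr2 w hwq hwn hμ hρ (by
      show Even (my 0 - (μ 0 + μ (-0)))
      have := hle 0
      rw [neg_zero] at this ⊢
      obtain ⟨b, hb⟩ := he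
      exact ⟨b - μ 0, by omega⟩) (show m + (d - m) = d by omega)
    have hfun : μ + (fun x => μ (-x)) + ρ = my := funext fun x => Nat.add_sub_cancel' (hle x)
    rw [hfun, ← hmy] at hgp
    have hN : ((orderOf g : ℕ) : F) ≠ 0 := by
      rcases (Fact.out : r.Prime).eq_one_or_self_of_dvd _ (orderOf_dvd_of_pow_eq_one hg) with h | h <;> rw [h]
      · exact_mod_cast one_ne_zero
      · exact hrF
    obtain ⟨A, hA⟩ := isConj_iff.1 (SympConj.isConj_sp_of_isConj g y hN (SympConj.isConj_matrix_of_charpoly_eq g y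
      hrF hrF hg hy (Polynomial.map_injective _ (algebraMap F L).injective hgp)))
    have hcomm : (y : Matrix (Fin d ⊕ Fin d) (Fin d ⊕ Fin d) F) * (A : Matrix (Fin d ⊕ Fin d) (Fin d ⊕ Fin d) F) =
        (A : Matrix (Fin d ⊕ Fin d) (Fin d ⊕ Fin d) F) * g :=
      congrArg Subtype.val (show y * A = A * g by rw [← hA]; group)
    let el : (Fin d ⊕ Fin d → F) ≃ₗ[F] (Fin d ⊕ Fin d → F) := (Symp.spEquiv A : Symp.iso (Symp.spB d F))
    have hel : (el : (Fin d ⊕ Fin d → F) →ₗ[F] _) = Matrix.toLin' (A : Matrix (Fin d ⊕ Fin d) (Fin d ⊕ Fin d) F) :=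
      LinearMap.ext fun v => rfl
    refine ⟨W.map (el : (Fin d ⊕ Fin d → F) →ₗ[F] _), by rw [LinearEquiv.finrank_map_eq, hWm], ?_, ?_⟩
    · rintro _ ⟨a, ha, rfl⟩ _ ⟨b, hb, rfl⟩
      rw [hel, ← Symp.spB_apply, Matrix.toLin'_apply, Matrix.toLin'_apply,
        (Symp.mem_symplecticGroup_iff _).1 A.2, Symp.spB_apply]
      exact hWi a ha b hb
    · rw [← Submodule.map_comp, hel, hY, ← Matrix.toLin'_mul, hcomm, Matrix.toLin'_mul, Submodule.map_comp]
      exact Submodule.map_mono hWinv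

omit L in
set_option maxHeartbeats 1000000 in
theorem count_identity {F : Type*} [Field F] [Fintype F] {d m : ℕ} (hmd : m ≤ d)
    {W₀ : Submodule F (Fin d ⊕ Fin d → F)} (hW₀ : finrank F W₀ = m)
    (hW₀i : ∀ u ∈ W₀, ∀ v ∈ W₀, Cfsg.sympForm d F u v = 0) :
    Nat.card {W : Submodule F (Fin d ⊕ Fin d → F) // finrank F ↥W = m ∧
        ∀ u ∈ W, ∀ v ∈ W, Cfsg.sympForm d F u v = 0} *
      (Fintype.card F ^ (m * (m + 1) / 2 + 2 * m * (d - m)) *
        (Fintype.card F ^ ((d - m) ^ 2) * ∏ i ∈ Finset.range (d - m), (Fintype.card F ^ (2 * (i + 1)) - 1)) *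
        ∏ i : Fin m, (Fintype.card F ^ m - Fintype.card F ^ (i : ℕ))) =
      Fintype.card F ^ (d ^ 2) * ∏ i ∈ Finset.range d, (Fintype.card F ^ (2 * (i + 1)) - 1) := by
  classical
  let X := {W : Submodule F (Fin d ⊕ Fin d → F) // finrank F ↥W = m ∧ ∀ u ∈ W, ∀ v ∈ W, Cfsg.sympForm d F u v = 0}
  let G := Matrix.symplecticGroup (Fin d) F
  have hA := Symp.spB_isAlt d F
  have hB := Symp.spB_nondegenerate d F
  let el : G →* ((Fin d ⊕ Fin d → F) ≃ₗ[F] (Fin d ⊕ Fin d → F)) :=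
    (Symp.iso (Symp.spB d F)).subtype.comp (Symp.spEquiv (m := d) (F := F)).toMonoidHom
  have hform : ∀ (A : G) u v, Cfsg.sympForm d F (el A u) (el A v) = Cfsg.sympForm d F u v := fun A u v => by
    rw [← Symp.spB_apply, ← Symp.spB_apply]
    exact (Symp.spEquiv A).2 u v
  letI : MulAction G X :=
    { smul := fun A W => ⟨W.1.map (el A : (Fin d ⊕ Fin d → F) →ₗ[F] (Fin d ⊕ Fin d → F)),
        (LinearEquiv.finrank_map_eq _ W.1).trans W.2.1, by
          rintro _ ⟨a, ha, rfl⟩ _ ⟨b, hb, rfl⟩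
          exact (hform A a b).trans (W.2.2 a ha b hb)⟩
      one_smul := fun W => Subtype.ext (by
        show W.1.map _ = W.1
        rw [map_one]
        exact Submodule.map_id _)
      mul_smul := fun A C W => Subtype.ext (by
        show W.1.map _ = (W.1.map _).map _
        rw [map_mul, ← Submodule.map_comp]
        rfl) }
  haveI : MulAction.IsPretransitive G X := by
    refine ⟨fun W W' => ?_⟩
    have e : W.1 ≃ₗ[F] W'.1 := LinearEquiv.ofFinrankEq _ _ (W.2.1.trans W'.2.1.symm)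
    obtain ⟨t, ht, htx⟩ := Symp.witt hB hA W.1 (W'.1.subtype ∘ₗ (e : W.1 →ₗ[F] W'.1))
      (W'.1.injective_subtype.comp e.injective) fun x y => by
        show Symp.spB d F ((e x : W'.1) : _) ((e y : W'.1) : _) = _
        rw [Symp.spB_apply, Symp.spB_apply, W'.2.2 _ (e x).2 _ (e y).2, W.2.2 _ x.2 _ y.2]
    refine ⟨Symp.spEquiv.symm ⟨t, (Symp.T_le_fixer hA ⊥ ht).1⟩, Subtype.ext ?_⟩
    refine Submodule.eq_of_le_of_finrank_eq ?_ ((LinearEquiv.finrank_map_eq _ W.1).trans (W.2.1.trans W'.2.1.symm))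
    rintro _ ⟨a, ha, rfl⟩
    show ((Symp.spEquiv (Symp.spEquiv.symm ⟨t, _⟩)).1) a ∈ W'.1
    rw [MulEquiv.apply_symm_apply]
    show t a ∈ W'.1
    rw [htx ⟨a, ha⟩]
    exact (e ⟨a, ha⟩).2
  have hstab : MulAction.stabilizer G (⟨W₀, hW₀, hW₀i⟩ : X) =
      Cfsg.stabilizing (Cfsg.spToMat d F) (W₀ : Set (Fin d ⊕ Fin d → F)) := by
    ext A
    rw [MulAction.mem_stabilizer_iff]
    constructor
    · intro h v
      have h' : W₀.map (el A : (Fin d ⊕ Fin d → F) →ₗ[F] _) = W₀ := congrArg Subtype.val h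
      show v ∈ W₀ ↔ el A v ∈ W₀
      conv_rhs => rw [← h']
      rw [Submodule.mem_map_equiv, LinearEquiv.symm_apply_apply]
    · intro h
      refine Subtype.ext (Submodule.eq_of_le_of_finrank_eq ?_ (LinearEquiv.finrank_map_eq (el A) W₀))
      rintro _ ⟨a, ha, rfl⟩
      exact (h a).1 ha
  rw [← Agent.S0775.main rfl d m hmd W₀ hW₀ hW₀i, ← hstab,
    ← MulAction.index_stabilizer_of_transitive G (⟨W₀, hW₀, hW₀i⟩ : X), Subgroup.index_mul_card,
    Nat.card_congr Symp.spEquiv.toEquiv, Symp.card_iso hB hA Symp.finrank_space]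

/-- A prime divisor of the number of totally isotropic `m`-spaces is a divisor of some `q ^ (2 j) - 1`. -/
theorem exists_dvd_of_dvd_count {F : Type*} [Field F] [Fintype F] {d m r : ℕ} (hr : r.Prime) (hmd : m ≤ d)
    {W₀ : Submodule F (Fin d ⊕ Fin d → F)} (hW₀ : finrank F W₀ = m)
    (hW₀i : ∀ u ∈ W₀, ∀ v ∈ W₀, Cfsg.sympForm d F u v = 0)
    (h : r ∣ Nat.card {W : Submodule F (Fin d ⊕ Fin d → F) // finrank F ↥W = m ∧
      ∀ u ∈ W, ∀ v ∈ W, Cfsg.sympForm d F u v = 0}) :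
    ∃ j, d < j + m ∧ j ≤ d ∧ r ∣ Fintype.card F ^ (2 * j) - 1 := by
  classical
  have hid := count_identity hmd hW₀ hW₀i
  set N := Nat.card {W : Submodule F (Fin d ⊕ Fin d → F) // finrank F ↥W = m ∧
    ∀ u ∈ W, ∀ v ∈ W, Cfsg.sympForm d F u v = 0}
  set q := Fintype.card F
  have hq : 1 < q := Fintype.one_lt_card
  obtain ⟨e, rfl⟩ := Nat.exists_eq_add_of_le hmd
  rw [Nat.add_sub_cancel_left] at hid
  have hprod : ∏ i : Fin m, (q ^ m - q ^ (i : ℕ)) = q ^ (m * (m - 1) / 2) * ∏ i ∈ Finset.range m, (q ^ (m - i) - 1) := by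
    rw [Fin.prod_univ_eq_prod_range (fun i => q ^ m - q ^ i) m, ← Finset.sum_range_id, ← Finset.prod_pow_eq_pow_sum,
      ← Finset.prod_mul_distrib]
    refine Finset.prod_congr rfl fun i hi => ?_
    rw [Nat.mul_sub, mul_one, ← pow_add, Nat.add_sub_cancel' (Finset.mem_range.1 hi).le]
  have hexp : m * (m + 1) / 2 + 2 * m * e + (e ^ 2 + m * (m - 1) / 2) = (m + e) ^ 2 := by
    have h1 : m * (m + 1) / 2 + m * (m - 1) / 2 = m ^ 2 := by
      rw [← Finset.sum_range_id, ← Nat.add_sub_cancel m 1, Nat.add_sub_cancel m 1, mul_comm m (m + 1)]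
      have := Finset.sum_range_id_mul_two m
      have h2 := Finset.sum_range_id (m + 1)
      have h3 := Finset.sum_range_id_mul_two (m + 1)
      rw [Nat.add_sub_cancel] at h2 h3
      rw [← h2, Finset.sum_range_succ]
      cases m with
      | zero => rfl
      | succ k => simp only [Nat.add_sub_cancel] at this; nlinarith
    nlinarith
  rw [hprod, show Finset.range (m + e) = Finset.range (e + m) by rw [add_comm], Finset.prod_range_add] at hid
  have e1 : N * ∏ i ∈ Finset.range m, (q ^ (m - i) - 1) =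
      ∏ i ∈ Finset.range m, (q ^ (2 * (e + i + 1)) - 1) := by
    have hpos : 0 < q ^ ((m + e) ^ 2) * ∏ i ∈ Finset.range e, (q ^ (2 * (i + 1)) - 1) :=
      Nat.mul_pos (pow_pos (by omega) _) (Finset.prod_pos fun i _ => Nat.sub_pos_of_lt (Nat.one_lt_pow (by omega) hq))
    refine Nat.eq_of_mul_eq_mul_left hpos ?_
    rw [mul_assoc (q ^ ((m + e) ^ 2)), mul_assoc (q ^ ((m + e) ^ 2)) _ (∏ i ∈ Finset.range m, (q ^ (2 * (e + i + 1)) - 1)),
      ← hid, ← hexp, pow_add, pow_add _ (e ^ 2)]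
    ring
  have hd : r ∣ ∏ i ∈ Finset.range m, (q ^ (2 * (e + i + 1)) - 1) := e1 ▸ h.mul_right _
  obtain ⟨i, hi, hri⟩ := (Prime.dvd_finsetProd_iff hr.prime _).1 hd
  rw [Finset.mem_range] at hi
  exact ⟨e + i + 1, by omega, by omega, hri⟩

end Cfsg.Lib.Linear.IsoFix
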