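import Cfsg.Agent.Lib.Linear.IsotropicFix.Comb

/-!
# Multiplicity functions for unitary groups

With `w` the class of `-q` and `uq = w ^ 2`, an invariant totally isotropic subspace with multiplicities `μ`
uses `μ x + μ (w x)` of the multiplicities of the space.
-/

set_option autoImplicit false

namespace Cfsg.Lib.Linear.IsoFix

open Cfsg.Agent.Lib.Linear.PrimeClasses Cfsg.Agent.S5961

variable {r : ℕ} [Fact r.Prime]

theorem mem_zpowers_of_mul_mem {uq w : (ZMod r)ˣ} {x y : ZMod r} (hy : y ∈ orbit uq x)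
    (hwy : (w : ZMod r) * y ∈ orbit uq x) (hx : x ≠ 0) : ∃ l : ℕ, w = uq ^ l := by
  obtain ⟨a, ha⟩ := mem_orbit.mp hwy
  obtain ⟨b, hb⟩ := mem_orbit.mp hy
  rw [hb, ← mul_assoc] at ha
  refine ⟨a + (orderOf uq * b - b), Units.ext ?_⟩
  have hb' : b ≤ orderOf uq * b := Nat.le_mul_of_pos_left _ (orderOf_pos uq)
  have h1 := mul_right_cancel₀ hx ha
  rw [Units.val_pow_eq_pow_val, pow_add, ← h1, mul_assoc, ← pow_add, Nat.add_sub_cancel' hb', pow_mul,
    ← Units.val_pow_eq_pow_val uq (orderOf uq), pow_orderOf_eq_one, Units.val_one, one_pow, mul_one]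

theorem indicator_inv (u : (ZMod r)ˣ) {x : ZMod r} (hx : x ≠ 0) :
    Inv u (orderOf u) (fun y : ZMod r => if y ∈ orbit u x then 1 else 0) := by
  classical
  refine ⟨?_, fun y => if_congr (orbit_indicator u x y) rfl rfl⟩
  rw [Finset.sum_boole, Finset.filter_mem_eq_inter, Finset.univ_inter, card_orbit u hx]
  rfl

theorem zero_notMem_orbit' (u : (ZMod r)ˣ) {x : ZMod r} (hx : x ≠ 0) : (0 : ZMod r) ∉ orbit u x := fun h => by
  obtain ⟨l, hl⟩ := mem_orbit.mp h
  exact mul_ne_zero (pow_ne_zero _ u.ne_zero) hx hl.symm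

theorem sum_shift (w : (ZMod r)ˣ) (f : ZMod r → ℕ) : ∑ x, f ((w : ZMod r) * x) = ∑ x, f x :=
  Equiv.sum_comp (Units.mulLeft w) f

/-- Split orbits give half-functions. -/
theorem exists_half_u {uq w : (ZMod r)ˣ} (huw : uq = w ^ 2) (hne : ∀ l : ℕ, w ≠ uq ^ l) :
    ∀ (J n : ℕ) (f : ZMod r → ℕ), Inv w n f → J * (2 * orderOf uq) + f 0 ≤ n →
      ∃ μ : ZMod r → ℕ, Inv uq (J * orderOf uq) μ ∧ μ 0 = 0 ∧ ∀ x, μ x + μ ((w : ZMod r) * x) ≤ f x := by
  classical
  intro J
  induction J with
  | zero => intro n f _ _; exact ⟨0, ⟨by simp, fun _ => rfl⟩, rfl, fun x => Nat.zero_le _⟩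
  | succ J ih =>
    intro n f hf hle
    obtain ⟨x, hx0, hx⟩ : ∃ x, x ≠ 0 ∧ f x ≠ 0 := by
      by_contra hcon
      push Not at hcon
      have h1 := sum_split f
      rw [hf.1, Finset.sum_eq_zero fun x hx => hcon x (Finset.ne_of_mem_erase hx), add_zero] at h1
      have := orderOf_pos uq
      rw [add_one_mul] at hle
      omega
    let ind : ZMod r → ℕ := fun y => if y ∈ orbit uq x then 1 else 0
    have hw2 : ∀ y : ZMod r, (uq : ZMod r) * y = (w : ZMod r) * ((w : ZMod r) * y) := fun y => by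
      rw [huw, Units.val_pow_eq_pow_val, pow_two, mul_assoc]
    have hpos : ∀ y, y ∈ orbit uq x → 1 ≤ f y := fun y hy => by
      obtain ⟨l, rfl⟩ := mem_orbit.mp hy
      rw [inv_pow (inv_of_pow hf ⟨2, huw⟩)]; omega
    have hle1 : ∀ y, ind y + ind ((w : ZMod r) * y) ≤ f y := fun y => by
      show (if y ∈ orbit uq x then 1 else 0) + (if (w : ZMod r) * y ∈ orbit uq x then 1 else 0) ≤ f y
      split_ifs with h1 h2 h3
      · obtain ⟨l, hl⟩ := mem_zpowers_of_mul_mem h1 h2 hx0
        exact absurd hl (hne l)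
      · exact hpos _ h1
      · rw [zero_add, ← hf.2 y]; exact hpos _ h3
      · exact Nat.zero_le _
    have hind0 : ind 0 = 0 := if_neg (zero_notMem_orbit' uq hx0)
    have hind := indicator_inv uq hx0
    have hsum : ∑ y, (f y - (ind y + ind ((w : ZMod r) * y))) = n - 2 * orderOf uq := by
      rw [Finset.sum_tsub_distrib _ fun y _ => hle1 y, Finset.sum_add_distrib, sum_shift w ind, hind.1, hf.1, two_mul]
    obtain ⟨μ, hμ, h0, hμle⟩ := ih _ (fun y => f y - (ind y + ind ((w : ZMod r) * y)))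
      ⟨hsum, fun y => by
        show f _ - (ind _ + ind _) = f y - (ind y + ind _)
        rw [hf.2, ← hw2, show ind ((uq : ZMod r) * y) = ind y from hind.2 y, add_comm]⟩
      (by
        show J * (2 * orderOf uq) + (f 0 - (ind 0 + ind ((w : ZMod r) * 0))) ≤ n - 2 * orderOf uq
        rw [mul_zero, hind0, add_zero, Nat.sub_zero]
        rw [add_one_mul] at hle
        omega)
    refine ⟨fun y => ind y + μ y, ⟨?_, fun y => ?_⟩, ?_, fun y => ?_⟩
    · rw [Finset.sum_add_distrib, hind.1, hμ.1, add_one_mul, add_comm]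
    · show ind _ + μ _ = ind y + μ y
      rw [show ind ((uq : ZMod r) * y) = ind y from hind.2 y, hμ.2]
    · show ind 0 + μ 0 = 0
      rw [hind0, h0]
    · show ind y + μ y + (ind _ + μ _) ≤ f y
      have : μ y + μ ((w : ZMod r) * y) ≤ f y - (ind y + ind ((w : ZMod r) * y)) := hμle y
      have := hle1 y
      omega

/-- Every invariant function is at most twice its half, up to one at each non-zero point. -/
theorem exists_half_same (u : (ZMod r)ˣ) {n : ℕ} {f : ZMod r → ℕ} (hf : Inv u n f) :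
    ∃ J₀ : ℕ, n ≤ f 0 + 2 * (J₀ * orderOf u) + (r - 1) ∧
      ∀ J ≤ J₀, ∃ μ : ZMod r → ℕ, Inv u (J * orderOf u) μ ∧ μ 0 = 0 ∧ ∀ x, μ x + μ x ≤ f x := by
  classical
  let g : ZMod r → ℕ := fun x => if x = 0 then 0 else f x / 2
  have hg : Inv u (∑ x, g x) g := ⟨rfl, fun x => by
    show (if _ then _ else _) = if x = 0 then 0 else f x / 2
    rw [hf.2]; exact if_congr (by simp) rfl rfl⟩
  obtain ⟨J₀, hJ₀⟩ := dvd_sum_erase u rfl _ g hg
  rw [show g 0 = 0 from if_pos rfl, Nat.sub_zero] at hJ₀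
  refine ⟨J₀, ?_, fun J hJ => ?_⟩
  · rw [mul_comm J₀, ← hJ₀]
    calc n = f 0 + ∑ x ∈ Finset.univ.erase (0 : ZMod r), f x := by rw [← sum_split, hf.1]
      _ ≤ f 0 + ∑ x ∈ Finset.univ.erase (0 : ZMod r), (2 * g x + 1) := by
        refine Nat.add_le_add_left (Finset.sum_le_sum fun x hx => ?_) _
        rw [show g x = f x / 2 from if_neg (Finset.ne_of_mem_erase hx)]
        omega
      _ = f 0 + 2 * ∑ x, g x + (r - 1) := by
        rw [Finset.sum_add_distrib, ← Finset.mul_sum, sum_split g, show g 0 = 0 from if_pos rfl, zero_add,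
          Finset.sum_const, Finset.card_erase_of_mem (Finset.mem_univ _), Finset.card_univ, ZMod.card,
          smul_eq_mul, mul_one, add_assoc]
  · obtain ⟨μ, hle, h0, hinv⟩ := exists_sub_orbits u rfl J _ g hg (by
      rw [show g 0 = 0 from if_pos rfl, add_zero, hJ₀, mul_comm J]
      exact Nat.mul_le_mul_left _ hJ)
    refine ⟨μ, hinv, h0, fun x => ?_⟩
    have := hle x
    by_cases hx : x = 0
    · subst hx; omega
    · rw [show g x = f x / 2 from if_neg hx] at this
      omega

/-- For every possible number `K` of moved orbits some `J` pieces serve for the subspace. -/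
def UCond (n c b t m : ℕ) : Prop :=
  ∀ K, c * K ≤ n → ∃ J, J ≤ (if c = b then (K - t + 1) / 2 else K) ∧ b * J ≤ m ∧ 2 * (m - b * J) + c * K ≤ n

variable {uq w : (ZMod r)ˣ} {b c t n m : ℕ}

theorem ucomb_iff (huw : uq = w ^ 2) (hb : orderOf uq = b) (hwc : orderOf w = c) (hcb : c = b ∨ c = 2 * b)
    (ht : t * b = r - 1) :
    (∀ f : ZMod r → ℕ, Inv w n f →
      ∃ μ : ZMod r → ℕ, Inv uq m μ ∧ ∀ x, μ x + μ ((w : ZMod r) * x) ≤ f x) ↔ UCond n c b t m := by
  classical
  have hb0 : 0 < b := hb ▸ orderOf_pos uq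
  have hc0 : 0 < c := hwc ▸ orderOf_pos w
  have hwm : c = b → ∃ l : ℕ, w = uq ^ l := fun h => by
    have hodd : ¬2 ∣ orderOf w := fun h2 => by
      have h3 := orderOf_pow_of_dvd (x := w) (n := 2) two_ne_zero h2
      rw [← huw, hb, hwc] at h3
      omega
    obtain ⟨a, ha⟩ : Odd (orderOf w) := Nat.odd_iff.2 (by omega)
    exact ⟨a + 1, by rw [huw, ← pow_mul, show 2 * (a + 1) = orderOf w + 1 by omega, pow_succ, pow_orderOf_eq_one,
      one_mul]⟩
  constructor
  · intro hall K hK
    by_cases he : c = b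
    · subst he
      obtain ⟨f, hf, hf0, hfle⟩ := exists_spread w (n - c * K) K t (by rw [hwc, ht])
      rw [hwc, mul_comm K, Nat.sub_add_cancel hK] at hf
      obtain ⟨μ, hμ, hle⟩ := hall f hf
      obtain ⟨J, hJ⟩ := dvd_sum_erase uq hb _ _ hμ
      have hμ0 : μ 0 ≤ m := hμ.1 ▸ Finset.single_le_sum (f := μ) (fun y _ => Nat.zero_le _) (Finset.mem_univ (0 : ZMod r))
      have h0 := hle 0
      rw [mul_zero, hf0] at h0
      refine ⟨J, ?_, by omega, by omega⟩
      rw [if_pos rfl]
      obtain ⟨l, hl⟩ := hwm rfl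
      have hbd : ∀ x ∈ Finset.univ.erase (0 : ZMod r),
          μ x ≤ (K - t + 1) / 2 * (if x ∈ orbit w 1 then 1 else 0) := fun x hx => by
        have h1 := hle x
        rw [show μ ((w : ZMod r) * x) = μ x by rw [hl, Units.val_pow_eq_pow_val]; exact inv_pow hμ l x] at h1
        have h2 := hfle x (Finset.ne_of_mem_erase hx)
        split_ifs with hx1
        · rw [if_pos hx1, mul_one] at h2
          omega
        · rw [if_neg hx1, mul_zero, add_zero] at h2
          omega
      have h3 := Finset.sum_le_sum hbd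
      rw [← Finset.mul_sum] at h3
      have h4 : ∑ x ∈ Finset.univ.erase (0 : ZMod r), (if x ∈ orbit w 1 then 1 else 0) = c := by
        have h5 := sum_split (fun x : ZMod r => if x ∈ orbit w 1 then 1 else 0)
        rw [sum_orbit_one, if_neg (zero_notMem_orbit w), zero_add, hwc] at h5
        exact h5.symm
      have h6 := sum_split μ
      rw [hμ.1] at h6
      rw [h4, mul_comm] at h3
      exact Nat.le_of_mul_le_mul_left (by omega : c * J ≤ c * ((K - t + 1) / 2)) hc0
    · let f : ZMod r → ℕ := fun x => (if x = 0 then n - c * K else 0) + K * (if x ∈ orbit w 1 then 1 else 0)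
      have hf : Inv w n f := by
        refine ⟨?_, fun x => ?_⟩
        · rw [Finset.sum_add_distrib, Finset.sum_ite_eq', if_pos (Finset.mem_univ _), ← Finset.mul_sum,
            sum_orbit_one, hwc, mul_comm K, Nat.sub_add_cancel hK]
        · exact congrArg₂ (· + ·) (if_congr (by simp) rfl rfl)
            (congrArg (K * ·) (if_congr (orbit_indicator w 1 x) rfl rfl))
      have hf0 : f 0 = n - c * K := by simp [f, zero_notMem_orbit w]
      obtain ⟨μ, hμ, hle⟩ := hall f hf
      obtain ⟨J, hJ⟩ := dvd_sum_erase uq hb _ _ hμ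
      have hμ0 : μ 0 ≤ m := hμ.1 ▸ Finset.single_le_sum (f := μ) (fun y _ => Nat.zero_le _) (Finset.mem_univ (0 : ZMod r))
      have h0 := hle 0
      rw [mul_zero, hf0] at h0
      refine ⟨J, ?_, by omega, by omega⟩
      rw [if_neg he]
      have h3 : ∑ x ∈ Finset.univ.erase (0 : ZMod r), (μ x + μ ((w : ZMod r) * x)) ≤
          ∑ x ∈ Finset.univ.erase (0 : ZMod r), f x := Finset.sum_le_sum fun x _ => hle x
      have h4 := sum_split f
      rw [hf.1, hf0] at h4
      have h5 := sum_split fun x => μ x + μ ((w : ZMod r) * x)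
      rw [Finset.sum_add_distrib, sum_shift w μ, hμ.1, mul_zero] at h5
      have hcc : c * K = 2 * (b * K) := by rw [hcb.resolve_left he, mul_assoc]
      exact Nat.le_of_mul_le_mul_left (by omega : b * J ≤ b * K) hb0
  · intro hcond f hf
    obtain ⟨K, hK⟩ := dvd_sum_erase w hwc _ _ hf
    have hf0 : f 0 ≤ n := hf.1 ▸ Finset.single_le_sum (f := f) (fun y _ => Nat.zero_le _) (Finset.mem_univ (0 : ZMod r))
    obtain ⟨J, hJb, hJm, hJ⟩ := hcond K (by omega)
    obtain ⟨μ₀, hμ₀, h0, hle⟩ : ∃ μ₀ : ZMod r → ℕ, Inv uq (J * b) μ₀ ∧ μ₀ 0 = 0 ∧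
        ∀ x, μ₀ x + μ₀ ((w : ZMod r) * x) ≤ f x := by
      by_cases he : c = b
      · rw [if_pos he] at hJb
        obtain ⟨l, hl⟩ := hwm he
        obtain ⟨J₀, hJ₀, hex⟩ := exists_half_same uq (inv_of_pow hf ⟨2, huw⟩)
        rw [hb] at hJ₀ hex
        obtain ⟨μ₀, h1, h2, h3⟩ := hex J (le_trans hJb (by
          subst he
          have h1 : c * K ≤ c * (2 * J₀ + t) := by
            rw [mul_add, mul_comm c t, ht, show c * (2 * J₀) = 2 * (J₀ * c) by ring]
            omega
          have h2 := Nat.le_of_mul_le_mul_left h1 hc0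
          omega))
        exact ⟨μ₀, h1, h2, fun x => by
          rw [show μ₀ ((w : ZMod r) * x) = μ₀ x by rw [hl, Units.val_pow_eq_pow_val]; exact inv_pow h1 l x]
          exact h3 x⟩
      · rw [if_neg he] at hJb
        have hne : ∀ l : ℕ, w ≠ uq ^ l := fun l hl => he (by
          have h2 : b ∣ c := by
            rw [← hb, ← hwc, huw]
            exact orderOf_pow_dvd 2
          have h1 : c ∣ b := by
            rw [← hb, ← hwc, hl]
            exact orderOf_pow_dvd l
          exact Nat.dvd_antisymm h1 h2)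
        obtain ⟨μ₀, h1, h2, h3⟩ := exists_half_u huw hne J n f hf (by
          rw [hb]
          have := Nat.mul_le_mul_right (2 * b) hJb
          have hcc : K * (2 * b) = c * K := by rw [hcb.resolve_left he, mul_comm]
          omega)
        rw [hb] at h1
        exact ⟨μ₀, h1, h2, h3⟩
    refine ⟨fun x => μ₀ x + if x = 0 then m - b * J else 0, ⟨?_, fun x => ?_⟩, fun x => ?_⟩
    · rw [Finset.sum_add_distrib, hμ₀.1, Finset.sum_ite_eq', if_pos (Finset.mem_univ _), mul_comm J]
      omega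
    · show μ₀ _ + _ = μ₀ x + if x = 0 then m - b * J else 0
      rw [hμ₀.2]
      exact congrArg (μ₀ x + ·) (if_congr (by simp) rfl rfl)
    · by_cases hx : x = 0
      · subst hx
        simp only [mul_zero, reduceIte, h0]
        omega
      · simp only [hx, if_false, mul_eq_zero, w.ne_zero, or_self]
        simpa using hle x

/-- The arithmetic. -/
theorem ucond_iff (hb : 0 < b) (hcb : c = b ∨ c = 2 * b) (hmn : 2 * m ≤ n) (hklow : n % c < 2 * m) :
    UCond n c b t m ↔ b ≤ m ∧ 2 * (m % b) ≤ n % c ∧ (c = b → t + 2 * (m / b) ≤ n / b) := by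
  have hm := Nat.div_add_mod m b
  have hn := Nat.div_add_mod n c
  have hlk : n % c < c := Nat.mod_lt _ (by omega)
  have hlm : m % b < b := Nat.mod_lt _ hb
  constructor
  · intro h
    obtain ⟨J, hJb, hJm, hJ⟩ := h (n / c) (Nat.mul_div_le _ _)
    have hlt : m - b * J < b := by rcases hcb with h | h <;> omega
    have hq : m / b = J := Nat.div_eq_of_lt_le (by rw [mul_comm]; exact hJm) (by rw [Nat.succ_mul, mul_comm J]; omega)
    have hJ1 : b ≤ b * J := Nat.le_mul_of_pos_right b (by
      rcases Nat.eq_zero_or_pos J with h0 | h0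
      · subst h0; simp at hJ; omega
      · exact h0)
    refine ⟨by omega, by rw [hq] at hm; omega, fun hcb' => ?_⟩
    subst hcb'
    have hN1 : 1 ≤ n / c := (Nat.le_div_iff_mul_le hb).2 (by omega)
    obtain ⟨J', hJb', hJm', hJ'⟩ := h (n / c - 1) ((Nat.mul_le_mul_left c (Nat.sub_le _ 1)).trans (Nat.mul_div_le _ _))
    rw [if_pos rfl] at hJb'
    have e1 : c * (n / c - 1) + c = c * (n / c) := by rw [← Nat.mul_succ]; congr 1; omega
    have hlt' : m - c * J' < c := by omega
    have hq' : m / c = J' := Nat.div_eq_of_lt_le (by rw [mul_comm]; exact hJm') (by rw [Nat.succ_mul, mul_comm J']; omega)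
    have hm1 : 0 < m / c := Nat.div_pos (by omega) hb
    omega
  · rintro ⟨-, hkl, hcond⟩ K hK
    have hKn : K ≤ n / c := (Nat.le_div_iff_mul_le (by omega)).2 (by rw [mul_comm]; exact hK)
    have hcK := Nat.mul_le_mul_left c hKn
    refine ⟨min (m / b) (if c = b then (K - t + 1) / 2 else K), min_le_right _ _,
      (Nat.mul_le_mul_left b (min_le_left _ _)).trans (Nat.mul_div_le _ _), ?_⟩
    split_ifs with he
    · subst he
      rcases le_total (m / c) ((K - t + 1) / 2) with h | h
      · rw [min_eq_left h]; omega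
      · rw [min_eq_right h]
        have h1 := Nat.mul_le_mul_left c h
        have h2 := Nat.mul_le_mul_left c (hcond rfl)
        have h4 : c * K ≤ c * (2 * ((K - t + 1) / 2) + t) := Nat.mul_le_mul_left c (by omega)
        rw [Nat.mul_add] at h2 h4
        have e3 : c * (2 * (m / c)) = 2 * (c * (m / c)) := by ring
        have e4 : c * (2 * ((K - t + 1) / 2)) = 2 * (c * ((K - t + 1) / 2)) := by ring
        omega
    · rcases le_total (m / b) K with h | h
      · rw [min_eq_left h]; omega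
      · rw [min_eq_right h]
        have h1 := Nat.mul_le_mul_left b h
        have e5 : c * K = 2 * (b * K) := by rw [hcb.resolve_left he, mul_assoc]
        omega

end Cfsg.Lib.Linear.IsoFix
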