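import Cfsg.Agent.Lib.Linear.IsotropicFix.Split
import Cfsg.Agent.Lib.Linear.IsotropicFix.UnitaryComb
import Cfsg.Agent.Lib.Linear.HermStandard
import Cfsg.Agent.Lib.Linear.HermitianFactor
import Cfsg.Agent.Lib.Linear.PrimeClasses.LinearReal
import Cfsg.Agent.Lib.Linear.PrimeClasses.Classes

/-!
# Unitary matrices of prime order and invariant totally isotropic subspaces
-/

set_option autoImplicit false

universe u

namespace Cfsg.Lib.Linear.IsoFix

open Module Polynomial Cfsg.Lib.Linear.Herm Cfsg.Agent.Lib.Linear.PrimeClasses Cfsg.Agent.S5961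
open scoped Matrix

variable {F : Type u} [Field F] [Fintype F] {q : ℕ}

/-- The conjugate transpose. -/
noncomputable def adj (hF : Fintype.card F = q ^ 2) {ι κ : Type} (M : Matrix ι κ F) : Matrix κ ι F :=
  (M.map (frob hF))ᵀ

/-- Unitary matrices. -/
def IsU (hF : Fintype.card F = q ^ 2) {ι : Type} [Fintype ι] [DecidableEq ι] (M : Matrix ι ι F) : Prop :=
  adj hF M * M = 1

/-- Fixing a totally isotropic subspace of dimension `m`. -/
def FixesU (hF : Fintype.card F = q ^ 2) {n : ℕ} (m : ℕ) (M : Matrix (Fin n) (Fin n) F) : Prop :=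
  ∃ W : Submodule F (Fin n → F), finrank F W = m ∧ (∀ u ∈ W, ∀ v ∈ W, hB hF n u v = 0) ∧
    W.map (Matrix.toLin' M) ≤ W

theorem adj_mul (hF : Fintype.card F = q ^ 2) {ι κ μ : Type} [Fintype κ] (M : Matrix ι κ F) (N : Matrix κ μ F) :
    adj hF (M * N) = adj hF N * adj hF M := by
  simp only [adj, Matrix.map_mul, Matrix.transpose_mul]

theorem adj_adj (hF : Fintype.card F = q ^ 2) {ι κ : Type} (M : Matrix ι κ F) : adj hF (adj hF M) = M := by
  ext i j; simp [adj, frob_frob hF]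

theorem adj_one (hF : Fintype.card F = q ^ 2) {ι : Type} [DecidableEq ι] : adj hF (1 : Matrix ι ι F) = 1 := by
  simp [adj]

theorem adj_smul (hF : Fintype.card F = q ^ 2) {ι κ : Type} (a : F) (M : Matrix ι κ F) :
    adj hF (a • M) = frob hF a • adj hF M := by
  ext i j; simp [adj]

theorem adj_pow (hF : Fintype.card F = q ^ 2) {ι : Type} [Fintype ι] [DecidableEq ι] (M : Matrix ι ι F) (k : ℕ) :
    adj hF (M ^ k) = adj hF M ^ k := by
  induction k with
  | zero => simp [adj_one]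
  | succ k ih => rw [pow_succ, adj_mul, ih, ← pow_succ']

theorem IsU.mul (hF : Fintype.card F = q ^ 2) {ι : Type} [Fintype ι] [DecidableEq ι] {M N : Matrix ι ι F}
    (hM : IsU hF M) (hN : IsU hF N) : IsU hF (M * N) := by
  rw [IsU, adj_mul, mul_assoc, ← mul_assoc (adj hF M), hM, one_mul, hN]

theorem IsU.pow (hF : Fintype.card F = q ^ 2) {ι : Type} [Fintype ι] [DecidableEq ι] {M : Matrix ι ι F}
    (hM : IsU hF M) (k : ℕ) : IsU hF (M ^ k) := by
  induction k with
  | zero => simp [IsU, adj_one]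
  | succ k ih => rw [pow_succ]; exact ih.mul hF hM

theorem IsU.smul (hF : Fintype.card F = q ^ 2) {ι : Type} [Fintype ι] [DecidableEq ι] {M : Matrix ι ι F}
    (hM : IsU hF M) {a : F} (ha : a ^ (q + 1) = 1) : IsU hF (a • M) := by
  rw [IsU, adj_smul, smul_mul_smul_comm, hM, frob_apply, ← pow_succ, ha, one_smul]

theorem hB_dot (hF : Fintype.card F = q ^ 2) (n : ℕ) (u v : Fin n → F) :
    hB hF n u v = (fun i => frob hF (u i)) ⬝ᵥ v := by
  rw [hB_apply, Cfsg.hermForm, dotProduct]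
  exact Finset.sum_congr rfl fun i _ => by rw [frob_apply hF, mul_comm]

theorem map_mulVec' (hF : Fintype.card F = q ^ 2) {ι κ : Type} [Fintype κ] (M : Matrix ι κ F) (u : κ → F) :
    (fun i => frob hF ((M *ᵥ u) i)) = M.map (frob hF) *ᵥ (fun i => frob hF (u i)) :=
  funext fun i => RingHom.map_mulVec (frob hF) M u i

theorem hB_mulVec (hF : Fintype.card F = q ^ 2) {n : ℕ} (M : Matrix (Fin n) (Fin n) F) (u v : Fin n → F) :
    hB hF n (M *ᵥ u) (M *ᵥ v) = (fun i => frob hF (u i)) ⬝ᵥ ((adj hF M * M) *ᵥ v) := by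
  rw [hB_dot, map_mulVec', ← Matrix.mulVec_mulVec, adj, Matrix.dotProduct_mulVec _ (M.map (frob hF))ᵀ,
    Matrix.vecMul_transpose]

theorem isU_iff (hF : Fintype.card F = q ^ 2) {n : ℕ} (M : Matrix (Fin n) (Fin n) F) :
    IsU hF M ↔ ∀ u v, hB hF n (M *ᵥ u) (M *ᵥ v) = hB hF n u v := by
  constructor
  · intro h u v
    rw [hB_mulVec, h, Matrix.one_mulVec, hB_dot]
  · intro h
    ext i j
    have e : ∀ k : Fin n, (fun l => frob hF ((Pi.single k (1 : F) : Fin n → F) l)) = Pi.single k 1 := fun k => by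
      funext l
      rcases eq_or_ne l k with rfl | hne
      · simp
      · simp [hne]
    have h1 := h (Pi.single i 1) (Pi.single j 1)
    rw [hB_mulVec, hB_dot, e, single_one_dotProduct, single_one_dotProduct, Matrix.mulVec_single_one, Matrix.col_apply] at h1
    rw [h1, Matrix.one_apply, Pi.single_apply]

/-- Congruence of a nondegenerate Hermitian form to the standard one. -/
theorem exists_transport (hF : Fintype.card F = q ^ 2) {n : ℕ} {ι : Type} [Fintype ι] [DecidableEq ι]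
    (hcard : Fintype.card ι = n) (J M : Matrix ι ι F) (hJ : adj hF J = J) (hJu : IsUnit J)
    (hM : adj hF M * J * M = J) {r : ℕ} (hMr : M ^ r = 1) :
    ∃ (g : Matrix (Fin n) (Fin n) F) (T : (ι → F) →ₗ[F] (Fin n → F)), IsU hF g ∧ g ^ r = 1 ∧
      g.charpoly = M.charpoly ∧ Function.Injective T ∧
      (∀ a b, hB hF n (T a) (T b) = (fun i => frob hF (a i)) ⬝ᵥ (J *ᵥ b)) ∧ ∀ a, g *ᵥ T a = T (M *ᵥ a) := by
  classical
  let e : ι ≃ Fin n := Fintype.equivFinOfCardEq hcard
  let R := Matrix.reindexAlgEquiv F F e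
  have hR : ∀ A, adj hF (R A) = R (adj hF A) := fun A => rfl
  obtain ⟨w, hw⟩ : ∃ w : F, frob hF w ≠ w := by
    by_contra h
    push Not at h
    exact frob_ne_id hF (RingHom.ext h)
  obtain ⟨S, hSu, hS, -⟩ := Cfsg.Lib.Linear.HermitianFactor.exists_factor (σ := frob hF) (frob_frob hF) hw
    (H := R J) (by show adj hF (R J) = R J; rw [hR, hJ]) (hJu.map R)
  replace hS : adj hF S * S = R J := hS
  obtain ⟨S, rfl⟩ := hSu
  let g : Matrix (Fin n) (Fin n) F := S.val * R M * (S⁻¹).val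
  have hN : adj hF (R M) * R J * R M = R J := by rw [hR, ← map_mul, ← map_mul, hM]
  let T : (ι → F) →ₗ[F] (Fin n → F) := (Matrix.mulVecLin S.val) ∘ₗ (LinearMap.funLeft F F e.symm)
  have hT : ∀ a, T a = S.val *ᵥ (a ∘ e.symm) := fun a => rfl
  refine ⟨g, T, ?_, ?_, ?_, ?_, fun a b => ?_, fun a => ?_⟩
  · show adj hF g * g = 1
    have h1 : adj hF g * g = adj hF (S⁻¹).val * (adj hF (R M) * (adj hF S.val * S.val) * R M) * (S⁻¹).val := by
      simp only [g, adj_mul, mul_assoc]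
    rw [h1, hS, hN, ← hS, ← mul_assoc, ← adj_mul, Units.mul_inv, adj_one, one_mul, Units.mul_inv]
  · show (S.val * R M * (S⁻¹).val) ^ r = 1
    rw [Units.conj_pow, ← map_pow, hMr, map_one, mul_one, Units.mul_inv]
  · show (S.val * R M * (S⁻¹).val).charpoly = M.charpoly
    rw [Matrix.coe_units_inv, Matrix.charpoly_units_conj]
    exact Matrix.charpoly_reindex e M
  · intro a b h
    have h1 := congrArg ((S⁻¹).val *ᵥ ·) h
    simp only [hT, Matrix.mulVec_mulVec, Units.inv_mul, Matrix.one_mulVec] at h1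
    funext i
    simpa using congrFun h1 (e i)
  · rw [hT, hT, hB_mulVec, hS]
    show ((fun i => frob hF (a i)) ∘ e.symm) ⬝ᵥ ((J.submatrix e.symm e.symm) *ᵥ (b ∘ e.symm)) = _
    rw [Matrix.submatrix_mulVec_equiv, comp_equiv_symm_dotProduct, Equiv.symm_symm]
    simp only [Function.comp_assoc, Equiv.symm_comp_self, Function.comp_id]
  · rw [hT, hT]
    show (S.val * R M * (S⁻¹).val) *ᵥ (S.val *ᵥ (a ∘ e.symm)) = _
    rw [Matrix.mulVec_mulVec, mul_assoc (S.val * R M), Units.inv_mul, mul_one, ← Matrix.mulVec_mulVec]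
    congr 1
    show (M.submatrix e.symm e.symm) *ᵥ (a ∘ e.symm) = _
    rw [Matrix.submatrix_mulVec_equiv, Equiv.symm_symm]
    simp only [Function.comp_assoc, Equiv.symm_comp_self, Function.comp_id]

/-- Unitary matrices of order prime to the characteristic are conjugate when their characteristic polynomials agree. -/
theorem isConj_u (hF : Fintype.card F = q ^ 2) {n r : ℕ} (hrF : (r : F) ≠ 0) {M N : Matrix (Fin n) (Fin n) F}
    (hM : IsU hF M) (hN : IsU hF N) (hMr : M ^ r = 1) (hNr : N ^ r = 1) (h : M.charpoly = N.charpoly) :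
    ∃ U : Matrix (Fin n) (Fin n) F, IsU hF U ∧ U * M = N * U := by
  obtain ⟨c, hc⟩ := Cfsg.Lib.CanonicalForm.isConj_of_charpoly_eq r r hrF hrF hMr hNr h
  have hc' : c.val * M = N * c.val := hc
  have hM' : M * adj hF M = 1 := mul_eq_one_comm.1 hM
  have h2 : adj hF c.val * N = M * adj hF c.val := by
    have e1 : adj hF M * adj hF c.val = adj hF c.val * adj hF N := by rw [← adj_mul, ← adj_mul, hc']
    calc adj hF c.val * N = M * (adj hF M * adj hF c.val) * N := by rw [← mul_assoc, hM', one_mul]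
      _ = M * adj hF c.val := by rw [e1, mul_assoc, mul_assoc, hN, mul_one]
  have hcomm : Commute M (adj hF c.val * c.val) := by
    show M * (adj hF c.val * c.val) = adj hF c.val * c.val * M
    rw [← mul_assoc, ← h2, mul_assoc, ← hc', ← mul_assoc]
  obtain ⟨w, hw⟩ : ∃ w : F, frob hF w ≠ w := by
    by_contra h
    push Not at h
    exact frob_ne_id hF (RingHom.ext h)
  have hcu : IsUnit (adj hF c.val) :=
    IsUnit.of_mul_eq_one (adj hF (c⁻¹).val) (by rw [← adj_mul, Units.inv_mul, adj_one])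
  obtain ⟨S, hSu, hS, hScomm⟩ := Cfsg.Lib.Linear.HermitianFactor.exists_factor (σ := frob hF) (frob_frob hF) hw
    (H := adj hF c.val * c.val) (by show adj hF (adj hF c.val * c.val) = _; rw [adj_mul, adj_adj])
    (hcu.mul c.isUnit)
  replace hS : adj hF S * S = adj hF c.val * c.val := hS
  obtain ⟨S, rfl⟩ := hSu
  refine ⟨c.val * (S⁻¹).val, ?_, ?_⟩
  · show adj hF (c.val * (S⁻¹).val) * (c.val * (S⁻¹).val) = 1
    rw [adj_mul, mul_assoc, ← mul_assoc (adj hF c.val), ← hS, mul_assoc, Units.mul_inv, mul_one, ← adj_mul,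
      Units.mul_inv, adj_one]
  · rw [mul_assoc, ← ((hScomm M hcomm).units_inv_right).eq, ← mul_assoc, hc', mul_assoc]

variable {L : Type u} [Field L] [Algebra F L] [IsAlgClosed L] {r : ℕ} [Fact r.Prime] {ζ : L}

/-- Powers of matrices of order dividing `r`. -/
theorem charpoly_power (hζ : IsPrimitiveRoot ζ r) (hrL : (r : L) ≠ 0) {n : ℕ} (A : Matrix (Fin n) (Fin n) F)
    (hA : A ^ r = 1) {f : ZMod r → ℕ} (hf : A.charpoly.map (algebraMap F L) = Pm ζ f) {k : ℕ} (a : (ZMod r)ˣ)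
    (ha : (a : ZMod r) = (k : ZMod r)) :
    (A ^ k).charpoly.map (algebraMap F L) = Pm ζ fun x => f (((a⁻¹ : (ZMod r)ˣ) : ZMod r) * x) := by
  classical
  set A' := A.map (algebraMap F L) with hA'def
  have hA' : A' ^ r = 1 := by rw [hA'def, ← RingHom.mapMatrix_apply, ← map_pow, hA, map_one]
  have hm : A'.charpoly = Pm ζ f := by rw [hA'def, Matrix.charpoly_map]; exact hf
  have hsum : ∑ x, f x = n := by rw [← Pm_natDegree ζ, ← hm, Matrix.charpoly_natDegree_eq_dim, Fintype.card_fin]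
  let e : Fin n ≃ (x : ZMod r) × Fin (f x) := (Fintype.equivFinOfCardEq (by simp [hsum])).symm
  let D : Matrix (Fin n) (Fin n) L := Matrix.diagonal fun i => zp ζ (e i).1
  have hdia : ∀ g : ZMod r → ZMod r,
      (Matrix.diagonal fun i => zp ζ (g (e i).1) : Matrix (Fin n) (Fin n) L).charpoly =
        ∏ x, (X - C (zp ζ (g x))) ^ f x := fun g => by
    rw [Matrix.charpoly_diagonal, Fintype.prod_equiv e (fun i => X - C (zp ζ (g (e i).1)))
      (fun p => X - C (zp ζ (g p.1))) (fun i => rfl), Fintype.prod_sigma]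
    simp
  have hD : D ^ r = 1 := by
    rw [Matrix.diagonal_pow, ← Matrix.diagonal_one]
    congr 1
    funext i
    rw [Pi.pow_apply, zp_pow hζ, ZMod.natCast_self, zero_mul, zp_zero]
  obtain ⟨c, hc⟩ := Cfsg.Lib.CanonicalForm.isConj_of_charpoly_eq r r hrL hrL hA' hD (hm.trans (hdia id).symm)
  have h2 : c.val * A' ^ k = D ^ k * c.val := SemiconjBy.pow_right hc k
  have h3 : D ^ k = c.val * A' ^ k * (c⁻¹).val := by rw [h2, mul_assoc, Units.mul_inv, mul_one]
  have hDk : D ^ k = Matrix.diagonal fun i => zp ζ ((a : ZMod r) * (e i).1) := by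
    rw [Matrix.diagonal_pow]
    congr 1
    funext i
    rw [Pi.pow_apply, zp_pow hζ, ha]
  calc (A ^ k).charpoly.map (algebraMap F L) = (A' ^ k).charpoly := by
        rw [← Matrix.charpoly_map, hA'def, ← RingHom.mapMatrix_apply, map_pow]; rfl
    _ = (D ^ k).charpoly := by rw [h3, Matrix.coe_units_inv]; exact (Matrix.charpoly_units_conj c _).symm
    _ = ∏ x, (X - C (zp ζ ((a : ZMod r) * x))) ^ f x := by rw [hDk]; exact hdia fun x => (a : ZMod r) * x
    _ = Pm ζ fun x => f (((a⁻¹ : (ZMod r)ˣ) : ZMod r) * x) :=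
        Fintype.prod_equiv a.mulLeft _ _ fun x => by
          show _ = (X - C (zp ζ ((a : ZMod r) * x))) ^ f (((a⁻¹ : (ZMod r)ˣ) : ZMod r) * ((a : ZMod r) * x))
          rw [Units.inv_mul_cancel_left]

/-- The Frobenius twist of a characteristic polynomial. -/
theorem map_frob (hF : Fintype.card F = q ^ 2) (hζ : IsPrimitiveRoot ζ r) {qu : (ZMod r)ˣ}
    (hqu : (qu : ZMod r) = (q : ZMod r)) (P : F[X]) {f : ZMod r → ℕ} (hP : P.map (algebraMap F L) = Pm ζ f) :
    (P.map (frob hF)).map (algebraMap F L) = Pm ζ fun x => f (((qu⁻¹ : (ZMod r)ˣ) : ZMod r) * x) := by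
  obtain ⟨p, hp⟩ := CharP.exists F
  haveI : Fact p.Prime := ⟨CharP.char_is_prime F p⟩
  haveI : CharP L p := charP_of_injective_algebraMap (algebraMap F L).injective p
  obtain ⟨k, -, hk⟩ := FiniteField.card F p
  rw [hF] at hk
  obtain ⟨l, -, hl⟩ := (Nat.dvd_prime_pow Fact.out).1 (hk ▸ dvd_pow_self q two_ne_zero)
  let φ := iterateFrobenius L p l
  have hφ : ∀ x, φ x = x ^ q := fun x => by rw [iterateFrobenius_def, hl]
  have hcomp : (algebraMap F L).comp (frob hF) = φ.comp (algebraMap F L) := RingHom.ext fun a => by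
    rw [RingHom.comp_apply, RingHom.comp_apply, frob_apply, map_pow, hφ]
  rw [Polynomial.map_map, hcomp, ← Polynomial.map_map, hP]
  exact Pm_map φ hζ qu (by rw [hφ, hqu, zp_natCast hζ]) f

/-- The multiplicities of a unitary matrix are invariant under `-q`. -/
theorem inv_of_unitary (hF : Fintype.card F = q ^ 2) (hζ : IsPrimitiveRoot ζ r) (hrL : (r : L) ≠ 0) {qu : (ZMod r)ˣ}
    (hqu : (qu : ZMod r) = (q : ZMod r)) {n : ℕ} (A : Matrix (Fin n) (Fin n) F) (hA : IsU hF A) (hAr : A ^ r = 1)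
    {f : ZMod r → ℕ} (hf : A.charpoly.map (algebraMap F L) = Pm ζ f) : Inv (-qu) n f := by
  have hs : ∑ x, f x = n := by
    rw [← Pm_natDegree ζ, ← hf, natDegree_map, Matrix.charpoly_natDegree_eq_dim, Fintype.card_fin]
  have hadj : adj hF A = A ^ (r - 1) := by
    calc adj hF A = adj hF A * A ^ r := by rw [hAr, mul_one]
      _ = adj hF A * A * A ^ (r - 1) := by
        rw [mul_assoc, ← pow_succ', Nat.sub_add_cancel (Fact.out : r.Prime).one_le]
      _ = A ^ (r - 1) := by rw [hA, one_mul]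
  have h1 : (adj hF A).charpoly.map (algebraMap F L) = Pm ζ fun x => f (((qu⁻¹ : (ZMod r)ˣ) : ZMod r) * x) := by
    rw [adj, Matrix.charpoly_transpose, Matrix.charpoly_map]
    exact map_frob hF hζ hqu _ hf
  rw [hadj, charpoly_power hζ hrL A hAr hf (-1) (by
    rw [Units.val_neg, Units.val_one, Nat.cast_sub (Fact.out : r.Prime).one_le, ZMod.natCast_self, Nat.cast_one, zero_sub])] at h1
  refine ⟨hs, fun x => ?_⟩
  have h3 := congrFun (Pm_inj hζ h1) ((qu : ZMod r) * x)
  rw [Units.inv_mul_cancel_left, _root_.inv_neg, inv_one, Units.val_neg, Units.val_one, neg_one_mul] at h3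
  rw [Units.val_neg, neg_mul]
  exact h3

omit [Fintype F] [Algebra F L] [IsAlgClosed L] in
theorem pm_zero_eq (f : ZMod r → ℕ) (h : ∀ x, x ≠ 0 → f x = 0) : Pm ζ f = Pm ζ (Pi.single (0 : ZMod r) (f 0)) := by
  congr 1
  funext x
  by_cases hx : x = 0
  · subst hx; simp
  · rw [h x hx, Pi.single_eq_of_ne hx]

/-- An element whose multiplicities form one orbit. -/
theorem exists_block (hF : Fintype.card F = q ^ 2) (hζ : IsPrimitiveRoot ζ r) (hrL : (r : L) ≠ 0)
    (hrF : (r : F) ≠ 0) {qu : (ZMod r)ˣ} (hqu : (qu : ZMod r) = (q : ZMod r)) :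
    ∃ (A : Matrix (Fin (orderOf (-qu))) (Fin (orderOf (-qu))) F) (x : ZMod r), IsU hF A ∧ A ^ r = 1 ∧ x ≠ 0 ∧
      A.charpoly.map (algebraMap F L) = Pm ζ fun y => if y ∈ orbit (-qu) x then 1 else 0 := by
  classical
  set c := orderOf (-qu) with hc
  have hc0 : 0 < c := orderOf_pos _
  have hdvd : r ∣ Nat.card (Cfsg.GU c F q) := by
    rw [card_GU hF]
    refine Dvd.dvd.mul_left (dvd_trans ?_ (Finset.dvd_prod_of_mem _ (Finset.mem_range.2 (Nat.sub_lt hc0 one_pos)))) _
    have h1 : (-(q : ZMod r)) ^ c = 1 := by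
      rw [← hqu, ← Units.val_neg, ← Units.val_pow_eq_pow_val, pow_orderOf_eq_one, Units.val_one]
    rw [Nat.sub_add_cancel (show 1 ≤ c from hc0)]
    split_ifs with he
    · have hco : Odd c := by
        rw [Nat.odd_iff]; rw [Nat.even_iff] at he; omega
      rw [← ZMod.natCast_eq_zero_iff, Nat.cast_add, Nat.cast_pow, Nat.cast_one]
      rw [hco.neg_pow] at h1
      linear_combination -h1
    · have hce : Even c := by
        rw [Nat.not_even_iff_odd, Nat.odd_iff] at he; rw [Nat.even_iff]; omega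
      rw [← ZMod.natCast_eq_zero_iff, Nat.cast_sub (Nat.one_le_pow _ _ (le_trans one_le_two (two_le_q hF))), Nat.cast_pow, Nat.cast_one]
      rw [hce.neg_pow] at h1
      rw [h1, sub_self]
  obtain ⟨g, hg⟩ := exists_prime_orderOf_dvd_card' r hdvd
  set A : Matrix (Fin c) (Fin c) F := ((g : GL (Fin c) F) : Matrix (Fin c) (Fin c) F) with hAdef
  have hAU : IsU hF A := (isU_iff hF A).2 fun u v => g.2 v u
  have hAr : A ^ r = 1 := by
    rw [hAdef, ← Units.val_pow_eq_pow_val, ← SubmonoidClass.coe_pow, ← hg, pow_orderOf_eq_one]; rfl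
  obtain ⟨f, hf, -⟩ := exists_mult (L := L) hζ A hAr
  have hinv := inv_of_unitary hF hζ hrL hqu A hAU hAr hf
  obtain ⟨x, hx0, hx⟩ : ∃ x, x ≠ 0 ∧ f x ≠ 0 := by
    by_contra hcon
    push Not at hcon
    have hf0 : f 0 = c := by
      have h1 := sum_split f
      rw [hinv.1, Finset.sum_eq_zero fun x hx => hcon x (Finset.ne_of_mem_erase hx), add_zero] at h1
      exact h1.symm
    rw [pm_zero_eq f hcon, hf0, ← charpoly_one_map (F := F)] at hf
    obtain ⟨u, hu⟩ := Cfsg.Lib.CanonicalForm.isConj_of_charpoly_eq r r hrF hrF hAr (one_pow r)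
      (Polynomial.map_injective _ (algebraMap F L).injective hf)
    have hu' : u.val * A = 1 * u.val := hu
    rw [one_mul] at hu'
    have h1 : g = 1 := Subtype.ext (Units.ext (u.isUnit.mul_left_cancel (hu'.trans (mul_one _).symm)))
    rw [h1, orderOf_one] at hg
    exact (Fact.out : r.Prime).one_lt.ne hg
  refine ⟨A, x, hAU, hAr, hx0, ?_⟩
  rw [hf]
  congr 1
  have hle : ∀ y, (if y ∈ orbit (-qu) x then 1 else 0) ≤ f y := fun y => by
    split_ifs with h
    · obtain ⟨l, rfl⟩ := mem_orbit.mp h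
      rw [inv_pow hinv]; omega
    · exact Nat.zero_le _
  have hsum : ∑ y, (if y ∈ orbit (-qu) x then 1 else 0) = ∑ y, f y := by rw [(indicator_inv (-qu) hx0).1, hinv.1]
  funext y
  exact ((Finset.sum_eq_sum_iff_of_le fun y _ => hle y).1 hsum y (Finset.mem_univ y)).symm

/-- Every invariant multiplicity function occurs. -/
theorem exists_real (hF : Fintype.card F = q ^ 2) (hζ : IsPrimitiveRoot ζ r) (hrL : (r : L) ≠ 0)
    (hrF : (r : F) ≠ 0) {qu : (ZMod r)ˣ} (hqu : (qu : ZMod r) = (q : ZMod r)) :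
    ∀ (n : ℕ) (f : ZMod r → ℕ), Inv (-qu) n f →
      ∃ A : Matrix (Fin n) (Fin n) F, IsU hF A ∧ A ^ r = 1 ∧ A.charpoly.map (algebraMap F L) = Pm ζ f := by
  classical
  obtain ⟨A₁, x₁, hA₁, hA₁r, hx₁, hA₁p⟩ := exists_block hF hζ hrL hrF hqu
  intro n
  induction n using Nat.strong_induction_on with
  | _ n ih =>
    intro f hf
    by_cases hall : ∀ x, x ≠ 0 → f x = 0
    · refine ⟨1, by rw [IsU, adj_one, one_mul], one_pow r, ?_⟩
      have hf0 : f 0 = n := by
        have h1 := sum_split f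
        rw [hf.1, Finset.sum_eq_zero fun x hx => hall x (Finset.ne_of_mem_erase hx), add_zero] at h1
        exact h1.symm
      rw [pm_zero_eq f hall, hf0]; exact charpoly_one_map (F := F) n
    push Not at hall
    obtain ⟨x, hx0, hx⟩ := hall
    let a : (ZMod r)ˣ := Units.mk0 (x * x₁⁻¹) (mul_ne_zero hx0 (inv_ne_zero hx₁))
    have hA₂p := charpoly_power hζ hrL A₁ hA₁r hA₁p a (k := (a : ZMod r).val) (ZMod.natCast_zmod_val _).symm
    set A₂ := A₁ ^ (a : ZMod r).val with hA₂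
    let ind : ZMod r → ℕ := fun y => if y ∈ orbit (-qu) x then 1 else 0
    have hindp : A₂.charpoly.map (algebraMap F L) = Pm ζ ind := by
      rw [hA₂p]
      congr 1
      funext y
      refine if_congr ?_ rfl rfl
      rw [mem_orbit, mem_orbit]
      refine exists_congr fun l => ?_
      have hax : (a : ZMod r) * x₁ = x := by
        show x * x₁⁻¹ * x₁ = x
        rw [mul_assoc, inv_mul_cancel₀ hx₁, mul_one]
      constructor
      · intro h
        rw [← Units.mul_inv_cancel_left a y, h, ← hax]; ring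
      · intro h
        rw [h, ← hax, ← mul_assoc, mul_comm (((a⁻¹ : (ZMod r)ˣ) : ZMod r)), mul_assoc, Units.inv_mul_cancel_left]
    have hle : ∀ y, ind y ≤ f y := fun y => by
      show (if y ∈ orbit (-qu) x then 1 else 0) ≤ f y
      split_ifs with h
      · obtain ⟨l, rfl⟩ := mem_orbit.mp h
        rw [inv_pow hf]; omega
      · exact Nat.zero_le _
    have hind := indicator_inv (-qu) hx0
    have hcn : orderOf (-qu) ≤ n := by
      rw [← hf.1, ← hind.1]
      exact Finset.sum_le_sum fun y _ => hle y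
    obtain ⟨n', rfl⟩ := Nat.exists_eq_add_of_le hcn
    obtain ⟨A₃, hA₃, hA₃r, hA₃p⟩ := ih n' (by have := orderOf_pos (-qu); omega) (fun y => f y - ind y)
      ⟨by
        rw [Finset.sum_tsub_distrib _ fun y _ => hle y, hf.1, show ∑ y, ind y = orderOf (-qu) from hind.1]; omega,
        fun y => by
          show f _ - ind _ = f y - ind y
          rw [hf.2, show ind (((-qu : (ZMod r)ˣ) : ZMod r) * y) = ind y from hind.2 y]⟩
    let R := Matrix.reindexAlgEquiv F F (finSumFinEquiv (m := orderOf (-qu)) (n := n'))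
    have hA₂U : IsU hF A₂ := hA₁.pow hF _
    refine ⟨R (Matrix.fromBlocks A₂ 0 0 A₃), ?_, ?_, ?_⟩
    · show adj hF (R (Matrix.fromBlocks A₂ 0 0 A₃)) * R (Matrix.fromBlocks A₂ 0 0 A₃) = 1
      rw [show adj hF (R (Matrix.fromBlocks A₂ 0 0 A₃)) = R (adj hF (Matrix.fromBlocks A₂ 0 0 A₃)) from rfl, ← map_mul,
        show adj hF (Matrix.fromBlocks A₂ 0 0 A₃) = Matrix.fromBlocks (adj hF A₂) 0 0 (adj hF A₃) by
          simp [adj, Matrix.fromBlocks_map, Matrix.fromBlocks_transpose],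
        Matrix.fromBlocks_multiply]
      rw [hA₂U, hA₃]
      simp
    · rw [← map_pow, fromBlocks_pow, hA₃r, hA₂, ← pow_mul, mul_comm, pow_mul, hA₁r, one_pow, Matrix.fromBlocks_one, map_one]
    · rw [Matrix.reindexAlgEquiv_apply, Matrix.charpoly_reindex, Matrix.charpoly_fromBlocks_zero₁₂, Polynomial.map_mul,
        hindp, hA₃p, ← Pm_add]
      congr 1
      exact funext fun y => Nat.add_sub_cancel' (hle y)

/-- When a unitary matrix of order dividing `r` fixes a totally isotropic subspace. -/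
theorem fixesU_iff (hF : Fintype.card F = q ^ 2) (hζ : IsPrimitiveRoot ζ r) (hrL : (r : L) ≠ 0)
    (hrF : (r : F) ≠ 0) {qu : (ZMod r)ˣ} (hqu : (qu : ZMod r) = (q : ZMod r)) {n m : ℕ} (hmn : 2 * m ≤ n)
    (M : Matrix (Fin n) (Fin n) F) (hM : IsU hF M) (hMr : M ^ r = 1) {f : ZMod r → ℕ}
    (hf : M.charpoly.map (algebraMap F L) = Pm ζ f) :
    FixesU hF m M ↔
      ∃ μ : ZMod r → ℕ, Inv ((-qu) ^ 2) m μ ∧ ∀ x, μ x + μ (((-qu : (ZMod r)ˣ) : ZMod r) * x) ≤ f x := by
  classical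
  have hinv := inv_of_unitary hF hζ hrL hqu M hM hMr hf
  set uq : (ZMod r)ˣ := (-qu) ^ 2 with huqdef
  have huq : (uq : ZMod r) = (Fintype.card F : ZMod r) := by
    rw [huqdef, neg_sq, Units.val_pow_eq_pow_val, hqu, hF, Nat.cast_pow]
  have hr1 : r - 1 + 1 = r := Nat.sub_add_cancel (Fact.out : r.Prime).one_le
  have hpq : ((-qu : (ZMod r)ˣ) : ZMod r) = -(qu : ZMod r) := Units.val_neg qu
  have hnu : ∀ {k : ℕ} {μ : ZMod r → ℕ} (A : Matrix (Fin k) (Fin k) F), A ^ r = 1 → Inv uq k μ →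
      A.charpoly.map (algebraMap F L) = Pm ζ μ →
      ((A ^ (r - 1)).map (frob hF)).charpoly.map (algebraMap F L) =
        Pm ζ fun x => μ (((-qu : (ZMod r)ˣ) : ZMod r) * x) := by
    intro k μ A hA hμ hAp
    have h1 := charpoly_power hζ hrL A hA hAp (k := r - 1) (-1) (by
      rw [Units.val_neg, Units.val_one, Nat.cast_sub (Fact.out : r.Prime).one_le, ZMod.natCast_self, Nat.cast_one, zero_sub])
    rw [Matrix.charpoly_map, map_frob hF hζ hqu _ h1]
    congr 1
    funext x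
    rw [← hμ.2 (((-1 : (ZMod r)ˣ)⁻¹ : (ZMod r)ˣ) * (((qu⁻¹ : (ZMod r)ˣ) : ZMod r) * x))]
    congr 1
    rw [huqdef, _root_.inv_neg, inv_one, Units.val_neg, Units.val_one, neg_sq, Units.val_pow_eq_pow_val, hpq, pow_two, neg_one_mul,
      mul_neg, mul_assoc, Units.mul_inv_cancel_left, neg_mul]
  constructor
  · rintro ⟨W, hWm, hWi, hWinv⟩
    obtain ⟨A, hA, hdvd⟩ := exists_block_of_isotropic (frob hF) (fun x => ⟨frob hF x, frob_frob hF x⟩)
      (fun u => hB hF n u) (fun u v => map_add _ u v) (fun a u => LinearMap.map_smulₛₗ _ a u)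
      (fun u hu => (hB_nondegenerate hF n).1 u fun v => by rw [hu]; rfl) (Matrix.toLin' M)
      (fun u v => by rw [Matrix.toLin'_apply, Matrix.toLin'_apply]; exact (isU_iff hF M).1 hM u v)
      (Fact.out : r.Prime).pos (by rw [← Matrix.toLin'_pow, hMr]; exact Matrix.toLin'_one) W
      (fun v hv => hWinv (Submodule.mem_map_of_mem hv)) hWi
    rw [Matrix.charpoly_toLin'] at hdvd
    subst hWm
    obtain ⟨μ, hμ, hs⟩ := exists_mult (L := L) hζ A hA
    have hμi : Inv uq (finrank F W) μ := ⟨hs, fun x => Pm_frob_invariant hζ huq μ _ hμ x⟩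
    have h2 := Polynomial.map_dvd (algebraMap F L) hdvd
    rw [Polynomial.map_mul, hμ, hnu A hA hμi hμ, hf, ← Pm_add] at h2
    refine ⟨μ, hμi, fun x => ?_⟩
    have h3 := rootMultiplicity_le_rootMultiplicity_of_dvd (Pm_monic ζ f).ne_zero h2 (zp ζ x)
    rwa [count_roots_Pm hζ, count_roots_Pm hζ] at h3
  · rintro ⟨μ, hμ, hle⟩
    let ρ : ZMod r → ℕ := fun x => f x - (μ x + μ (((-qu : (ZMod r)ˣ) : ZMod r) * x))
    have hρ : Inv (-qu) (n - 2 * m) ρ := by
      refine ⟨?_, fun x => ?_⟩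
      · rw [Finset.sum_tsub_distrib _ fun x _ => hle x, Finset.sum_add_distrib, sum_shift (-qu) μ, hinv.1, hμ.1]
        omega
      · show f _ - (μ _ + μ _) = f x - (μ x + μ _)
        rw [hinv.2, ← mul_assoc, ← Units.val_mul, ← pow_two, ← huqdef, hμ.2, add_comm]
    obtain ⟨A₀, hA₀, hA₀p⟩ := exists_linear (F := F) hζ huq uq ⟨1, (pow_one uq).symm⟩ hμ
    obtain ⟨R, hR, hRr, hRp⟩ := exists_real hF hζ hrL hrF hqu _ ρ hρ
    set B₀ := adj hF (A₀ ^ (r - 1)) with hB₀
    let A₂ : Matrix (Fin m ⊕ Fin m) (Fin m ⊕ Fin m) F := Matrix.fromBlocks A₀ 0 0 B₀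
    let A : Matrix ((Fin m ⊕ Fin m) ⊕ Fin (n - 2 * m)) ((Fin m ⊕ Fin m) ⊕ Fin (n - 2 * m)) F :=
      Matrix.fromBlocks A₂ 0 0 R
    let J₂ : Matrix (Fin m ⊕ Fin m) (Fin m ⊕ Fin m) F := Matrix.fromBlocks 0 1 1 0
    let J : Matrix ((Fin m ⊕ Fin m) ⊕ Fin (n - 2 * m)) ((Fin m ⊕ Fin m) ⊕ Fin (n - 2 * m)) F :=
      Matrix.fromBlocks J₂ 0 0 1
    have hJJ : J * J = 1 := by
      simp [J, J₂, Matrix.fromBlocks_multiply, Matrix.fromBlocks_one]
    have hB₀r : B₀ ^ r = 1 := by rw [hB₀, ← adj_pow, ← pow_mul, mul_comm, pow_mul, hA₀, one_pow, adj_one]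
    have h12 : adj hF A₀ * B₀ = 1 := by
      rw [hB₀, ← adj_mul, ← pow_succ, hr1, hA₀, adj_one]
    have h21 : adj hF B₀ * A₀ = 1 := by rw [hB₀, adj_adj, ← pow_succ, hr1, hA₀]
    have hblock : adj hF A * J * A = J := by
      have e : adj hF A = Matrix.fromBlocks (Matrix.fromBlocks (adj hF A₀) 0 0 (adj hF B₀)) 0 0 (adj hF R) := by
        simp [A, A₂, adj, Matrix.fromBlocks_map, Matrix.fromBlocks_transpose]
      rw [e]
      simp [A, A₂, J, J₂, Matrix.fromBlocks_multiply, h12, h21, (show adj hF R * R = 1 from hR)]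
    obtain ⟨g, T, hgU, hgr, hgp, hTinj, hTB, hgT⟩ := exists_transport hF (n := n)
      (by simp only [Fintype.card_sum, Fintype.card_fin]; omega) J A
      (by simp [J, J₂, adj, Matrix.fromBlocks_map, Matrix.fromBlocks_transpose])
      (IsUnit.of_mul_eq_one J hJJ) hblock
      (r := r) (by simp only [A, A₂, fromBlocks_pow, hA₀, hB₀r, hRr, Matrix.fromBlocks_one])
    have hgf : g.charpoly.map (algebraMap F L) = Pm ζ f := by
      rw [hgp, Matrix.charpoly_fromBlocks_zero₁₂, Matrix.charpoly_fromBlocks_zero₁₂, Polynomial.map_mul,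
        Polynomial.map_mul, hA₀p, hRp, show B₀.charpoly = ((A₀ ^ (r - 1)).map (frob hF)).charpoly by
          rw [hB₀, adj, Matrix.charpoly_transpose], hnu A₀ hA₀ hμ hA₀p, ← Pm_add, ← Pm_add]
      congr 1
      exact funext fun x => Nat.add_sub_cancel' (hle x)
    obtain ⟨U, hU, hUg⟩ := isConj_u hF hrF hgU hM hgr hMr
      (Polynomial.map_injective _ (algebraMap F L).injective (hgf.trans hf.symm))
    let E : (Fin m → F) →ₗ[F] ((Fin m ⊕ Fin m) ⊕ Fin (n - 2 * m) → F) :=
      { toFun := fun c => Sum.elim (Sum.elim c 0) 0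
        map_add' := fun a b => by ext ((i | i) | i) <;> simp
        map_smul' := fun a b => by ext ((i | i) | i) <;> simp }
    have hE : Function.Injective E := fun a b h => funext fun i => congrFun h (Sum.inl (Sum.inl i))
    have hUinj : Function.Injective (Matrix.toLin' U) := fun a b h => by
      have h1 := congrArg (adj hF U *ᵥ ·) h
      simpa [Matrix.toLin'_apply, Matrix.mulVec_mulVec, (show adj hF U * U = 1 from hU)] using h1
    refine ⟨LinearMap.range ((Matrix.toLin' U).comp (T.comp E)), ?_, ?_, ?_⟩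
    · rw [LinearMap.finrank_range_of_inj (fun a b h => hE (hTinj (hUinj h))), Module.finrank_fin_fun]
    · rintro _ ⟨a, rfl⟩ _ ⟨b, rfl⟩
      simp only [LinearMap.comp_apply, Matrix.toLin'_apply]
      rw [(isU_iff hF U).1 hU, hTB]
      simp [E, J, J₂, Matrix.fromBlocks_mulVec, dotProduct, Fintype.sum_sum_type]
    · rintro _ ⟨_, ⟨a, rfl⟩, rfl⟩
      refine ⟨A₀ *ᵥ a, ?_⟩
      simp only [LinearMap.comp_apply, Matrix.toLin'_apply]
      rw [Matrix.mulVec_mulVec, ← hUg, ← Matrix.mulVec_mulVec, hgT]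
      congr 2
      simp [E, A, A₂, Matrix.fromBlocks_mulVec]

/-- All unitary matrices of order dividing `r` fix a totally isotropic `m`-space iff the arithmetic allows it. -/
theorem all_fixesU_iff (hF : Fintype.card F = q ^ 2) (hζ : IsPrimitiveRoot ζ r) (hrL : (r : L) ≠ 0)
    (hrF : (r : F) ≠ 0) {qu : (ZMod r)ˣ} (hqu : (qu : ZMod r) = (q : ZMod r)) {n m : ℕ} (hmn : 2 * m ≤ n) :
    (∀ M : Matrix (Fin n) (Fin n) F, IsU hF M → M ^ r = 1 → FixesU hF m M) ↔
      ∀ f : ZMod r → ℕ, Inv (-qu) n f →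
        ∃ μ : ZMod r → ℕ, Inv ((-qu) ^ 2) m μ ∧ ∀ x, μ x + μ (((-qu : (ZMod r)ˣ) : ZMod r) * x) ≤ f x := by
  constructor
  · intro hall f hf
    obtain ⟨M, hM, hMr, hMp⟩ := exists_real hF hζ hrL hrF hqu n f hf
    exact (fixesU_iff hF hζ hrL hrF hqu hmn M hM hMr hMp).1 (hall M hM hMr)
  · intro hall M hM hMr
    obtain ⟨f, hf, -⟩ := exists_mult (L := L) hζ M hMr
    exact (fixesU_iff hF hζ hrL hrF hqu hmn M hM hMr hf).2 (hall f (inv_of_unitary hF hζ hrL hqu M hM hMr hf))

end Cfsg.Lib.Linear.IsoFix
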